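import Groth.Agent.CplKaehler4.Finite
import Groth.Agent.AdicLib.Basic
import Groth.Agent.FlatLoc6.Miracle
import Groth.Agent.CotTLib.CI
import Groth.Agent.CoeffField.AdicSmooth

/-!
# The completed tensor product of a finite power series algebra with a field extension
-/

set_option linter.style.haveILetI false

namespace Groth.Agent.Ega41H93

open IsLocalRing TensorProduct

universe u

variable (k k' : Type u) [Field k] [Field k'] [Algebra k k'] (r : ℕ)

instance isScalarTower_powerSeries :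
    IsScalarTower k (MvPowerSeries (Fin r) k) (MvPowerSeries (Fin r) k') :=
  IsScalarTower.of_algebraMap_eq fun c => by
    rw [MvPowerSeries.algebraMap_apply'', show algebraMap k (MvPowerSeries (Fin r) k) c = MvPowerSeries.C c from rfl,
      MvPowerSeries.map_C, MvPowerSeries.algebraMap_apply]

theorem map_vars_eq :
    (PSLib.vars r k).map (algebraMap (MvPowerSeries (Fin r) k) (MvPowerSeries (Fin r) k')) = PSLib.vars r k' := by
  rw [PSLib.vars, PSLib.vars, Ideal.map_span, ← Set.range_comp]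
  refine congrArg (fun t => Ideal.span (Set.range t)) (funext fun i => ?_)
  rw [Function.comp_apply, MvPowerSeries.algebraMap_apply'', MvPowerSeries.map_X]

instance isLocalHom_powerSeries :
    IsLocalHom (algebraMap (MvPowerSeries (Fin r) k) (MvPowerSeries (Fin r) k')) :=
  ⟨fun f hf => by
    rw [MvPowerSeries.algebraMap_apply'', MvPowerSeries.isUnit_iff_constantCoeff, MvPowerSeries.constantCoeff_map,
      isUnit_iff_ne_zero, Ne, map_eq_zero] at hf
    rw [MvPowerSeries.isUnit_iff_constantCoeff]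
    exact isUnit_iff_ne_zero.2 hf⟩

theorem flat_powerSeries_baseField : Module.Flat (MvPowerSeries (Fin r) k) (MvPowerSeries (Fin r) k') := by
  haveI : IsRegularLocalRing (MvPowerSeries (Fin r) k) := PSLib.isRegularLocalRing (K := k) (n := r)
  haveI : IsRegularLocalRing (MvPowerSeries (Fin r) k') := PSLib.isRegularLocalRing (K := k') (n := r)
  refine FlatLoc6.flat_of_isCM (B := MvPowerSeries (Fin r) k') (M := MvPowerSeries (Fin r) k')
    (CotTLib.isCM_of_isRegularLocalRing _) ?_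
  rw [Module.supportDim_self_eq_ringKrullDim, PSLib.ringKrullDim_eq, PSLib.ringKrullDim_eq,
    Module.supportDim_eq_of_equiv (Submodule.quotEquivOfEq
      (FlatLoc6.mN (MvPowerSeries (Fin r) k) (MvPowerSeries (Fin r) k') (MvPowerSeries (Fin r) k'))
      (maximalIdeal (MvPowerSeries (Fin r) k'))
      (by rw [FlatLoc6.mN, PSLib.maximalIdeal_eq_vars, PSLib.maximalIdeal_eq_vars, map_vars_eq, Ideal.smul_eq_mul,
        Ideal.mul_top])),
    Module.supportDim_eq_ringKrullDim_quotient_annihilator, Ideal.annihilator_quotient]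
  letI := Ideal.Quotient.field (maximalIdeal (MvPowerSeries (Fin r) k'))
  rw [ringKrullDim_eq_zero_of_field, add_zero]

/-- An element is reached by any subring containing the constants and the variables, up to high order. -/
theorem mvPolynomial_mem {S : Type*} [CommRing S] (T : Subring S) (f : MvPowerSeries (Fin r) k' →+* S)
    (hC : ∀ c, f (MvPowerSeries.C c) ∈ T) (hX : ∀ i, f (MvPowerSeries.X i) ∈ T) (p : MvPolynomial (Fin r) k') :
    f (p : MvPowerSeries (Fin r) k') ∈ T := by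
  induction p using MvPolynomial.induction_on with
  | C c => rw [MvPolynomial.coe_C]; exact hC c
  | add p q hp hq => rw [MvPolynomial.coe_add, map_add]; exact T.add_mem hp hq
  | mul_X p i hp => rw [MvPolynomial.coe_mul, MvPolynomial.coe_X, map_mul]; exact T.mul_mem hp (hX i)

variable (A : Type u) [CommRing A] [IsLocalRing A] [Algebra k A]
  [Algebra (MvPowerSeries (Fin r) k) A] [IsScalarTower k (MvPowerSeries (Fin r) k) A]

theorem le_radical_map_vars [Module.Finite (MvPowerSeries (Fin r) k) A]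
    [IsLocalHom (algebraMap (MvPowerSeries (Fin r) k) A)] :
    maximalIdeal A ≤ ((PSLib.vars r k).map (algebraMap (MvPowerSeries (Fin r) k) A)).radical := by
  rw [Ideal.radical_eq_sInf]
  refine le_sInf fun Q hQ => ?_
  haveI := hQ.2
  haveI : Algebra.IsIntegral (MvPowerSeries (Fin r) k) A := Algebra.IsIntegral.of_finite _ _
  have h1 : Q.comap (algebraMap (MvPowerSeries (Fin r) k) A) = maximalIdeal _ := by
    refine ((maximalIdeal.isMaximal _).eq_of_le (Ideal.IsPrime.ne_top (hQ.2.comap _)) ?_).symm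
    rw [PSLib.maximalIdeal_eq_vars, ← Ideal.map_le_iff_le_comap]
    exact hQ.1
  haveI : Q.IsMaximal := Ideal.isMaximal_of_isIntegral_of_isMaximal_comap Q (h1 ▸ maximalIdeal.isMaximal _)
  exact (eq_maximalIdeal ‹Q.IsMaximal›).ge

local notation "P₀" => MvPowerSeries (Fin r) k
local notation "P₁" => MvPowerSeries (Fin r) k'

/-- The comparison map from the algebraic tensor product. -/
noncomputable def toPSTensor : A ⊗[k] k' →ₐ[k] A ⊗[MvPowerSeries (Fin r) k] MvPowerSeries (Fin r) k' :=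
  Algebra.TensorProduct.lift (Algebra.TensorProduct.includeLeft : A →ₐ[k] A ⊗[P₀] P₁)
    ((Algebra.TensorProduct.includeRight : P₁ →ₐ[P₀] A ⊗[P₀] P₁).restrictScalars k |>.comp
      (IsScalarTower.toAlgHom k k' P₁))
    fun _ _ => Commute.all _ _

theorem toPSTensor_tmul (a : A) (c : k') : toPSTensor k k' r A (a ⊗ₜ c) = a ⊗ₜ MvPowerSeries.C c := by
  simp [toPSTensor, MvPowerSeries.algebraMap_apply]

variable [Module.Finite (MvPowerSeries (Fin r) k) A] [IsLocalHom (algebraMap (MvPowerSeries (Fin r) k) A)]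

local notation "I₀" => Ideal.map (Algebra.TensorProduct.includeLeft : A →ₐ[k] A ⊗[k] k') (maximalIdeal A)
local notation "J₀" => Ideal.map (algebraMap A (A ⊗[MvPowerSeries (Fin r) k] MvPowerSeries (Fin r) k')) (maximalIdeal A)

theorem X_mem (i : Fin r) : algebraMap P₀ A (MvPowerSeries.X i) ∈ maximalIdeal A :=
  map_nonunit (algebraMap P₀ A) _ (by
    rw [PSLib.maximalIdeal_eq_vars]; exact PSLib.mem_vars_iff.2 (MvPowerSeries.constantCoeff_X i))

theorem map_I_eq : Ideal.map (toPSTensor k k' r A).toRingHom I₀ = J₀ := by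
  show Ideal.map (toPSTensor k k' r A).toRingHom
    (Ideal.map (Algebra.TensorProduct.includeLeft : A →ₐ[k] A ⊗[k] k').toRingHom (maximalIdeal A)) = _
  rw [Ideal.map_map]
  refine congrArg (fun f => Ideal.map f (maximalIdeal A)) (RingHom.ext fun a => ?_)
  show toPSTensor k k' r A (a ⊗ₜ 1) = a ⊗ₜ 1
  rw [toPSTensor_tmul, map_one]

theorem vars_mem_J {f : MvPowerSeries (Fin r) k'} {j : ℕ} (hf : f ∈ PSLib.vars r k' ^ j) :
    (1 : A) ⊗ₜ[P₀] f ∈ J₀ ^ j := by
  have h : (PSLib.vars r k' ^ j).map (Algebra.TensorProduct.includeRight : P₁ →ₐ[P₀] A ⊗[P₀] P₁).toRingHom ≤ J₀ ^ j := by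
    rw [Ideal.map_pow]
    refine Ideal.pow_right_mono ?_ j
    rw [← map_vars_eq k k', Ideal.map_map,
      show ((Algebra.TensorProduct.includeRight : P₁ →ₐ[P₀] A ⊗[P₀] P₁).toRingHom.comp (algebraMap P₀ P₁)) =
        (algebraMap A (A ⊗[P₀] P₁)).comp (algebraMap P₀ A) from RingHom.ext fun x => by
          rw [RingHom.comp_apply, RingHom.comp_apply, AlgHom.toRingHom_eq_coe, RingHom.coe_coe, AlgHom.commutes,
            ← IsScalarTower.algebraMap_apply], ← Ideal.map_map]
    refine Ideal.map_mono ?_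
    rw [← PSLib.maximalIdeal_eq_vars]
    exact map_maximalIdeal_le (algebraMap P₀ A)
  exact h (Ideal.mem_map_of_mem _ hf)

theorem exists_approx (y : A ⊗[MvPowerSeries (Fin r) k] MvPowerSeries (Fin r) k') (j : ℕ) :
    ∃ x, y - toPSTensor k k' r A x ∈ J₀ ^ j := by
  induction y using TensorProduct.induction_on with
  | zero => exact ⟨0, by rw [map_zero, sub_zero]; exact zero_mem _⟩
  | add y z hy hz =>
    obtain ⟨a, ha⟩ := hy
    obtain ⟨b, hb⟩ := hz
    exact ⟨a + b, by rw [map_add, add_sub_add_comm]; exact add_mem ha hb⟩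
  | tmul a f =>
    obtain ⟨p, hp⟩ := PSLib.exists_polynomial_sub_mem f j
    obtain ⟨x, hx⟩ : (1 : A) ⊗ₜ[P₀] (p : P₁) ∈ (toPSTensor k k' r A).toRingHom.range := by
      refine mvPolynomial_mem k' r _ (Algebra.TensorProduct.includeRight : P₁ →ₐ[P₀] A ⊗[P₀] P₁).toRingHom
        (fun c => RingHom.mem_range.2 ⟨1 ⊗ₜ c, toPSTensor_tmul k k' r A 1 c⟩)
        (fun i => RingHom.mem_range.2 ⟨algebraMap P₀ A (MvPowerSeries.X i) ⊗ₜ 1, ?_⟩) p
      show toPSTensor k k' r A _ = (1 : A) ⊗ₜ[P₀] MvPowerSeries.X i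
      rw [toPSTensor_tmul, map_one, Algebra.algebraMap_eq_smul_one, TensorProduct.smul_tmul, Algebra.smul_def, mul_one,
        MvPowerSeries.algebraMap_apply'', MvPowerSeries.map_X]
    refine ⟨a ⊗ₜ 1 * x, ?_⟩
    have e : a ⊗ₜ[P₀] f - toPSTensor k k' r A (a ⊗ₜ 1 * x) = (a ⊗ₜ[P₀] (1 : P₁)) * ((1 : A) ⊗ₜ[P₀] (f - p)) := by
      rw [map_mul, toPSTensor_tmul, map_one, show toPSTensor k k' r A x = (1 : A) ⊗ₜ[P₀] (p : P₁) from hx,
        Algebra.TensorProduct.tmul_mul_tmul, Algebra.TensorProduct.tmul_mul_tmul, mul_one, one_mul, one_mul,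
        TensorProduct.tmul_sub]
    rw [e]
    exact Ideal.mul_mem_left _ _ (vars_mem_J k k' r A hp)

theorem exists_quot_hom (j : ℕ) :
    ∃ ψ : A ⊗[MvPowerSeries (Fin r) k] MvPowerSeries (Fin r) k' →+* (A ⊗[k] k') ⧸ I₀ ^ j,
      ψ.comp (toPSTensor k k' r A).toRingHom = Ideal.Quotient.mk (I₀ ^ j) ∧ ∀ y ∈ J₀ ^ j, ψ y = 0 := by
  let R := A ⊗[k] k'
  let Q := R ⧸ I₀ ^ j
  let Ibar : Ideal Q := (I₀).map (Ideal.Quotient.mk (I₀ ^ j))
  haveI : IsAdicComplete Ibar Q := CoeffField.isAdicComplete_of_pow_eq_bot (N := j) ((Ideal.map_pow _ _ j).symm.trans (Ideal.map_quotient_self _))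
  letI : Algebra k' Q :=
    ((Ideal.Quotient.mk (I₀ ^ j)).comp (Algebra.TensorProduct.includeRight : k' →ₐ[k] R).toRingHom).toAlgebra
  haveI : IsScalarTower k k' Q := IsScalarTower.of_algebraMap_eq fun c => by
    show _ = Ideal.Quotient.mk (I₀ ^ j) ((Algebra.TensorProduct.includeRight : k' →ₐ[k] R) (algebraMap k k' c))
    rw [AlgHom.commutes]
    rfl
  have hb : ∀ i, algebraMap P₀ Q (MvPowerSeries.X i) ∈ Ibar := fun i => by
    rw [IsScalarTower.algebraMap_apply P₀ A Q]
    exact Ideal.mem_map_of_mem _ (Ideal.mem_map_of_mem _ (X_mem k r A i))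
  obtain ⟨σ₀, hσ₀⟩ := PSLib.exists_algHom (R := k') Ibar (fun i => algebraMap P₀ Q (MvPowerSeries.X i)) hb
  have hσP : ∀ g, σ₀ (algebraMap P₀ P₁ g) = algebraMap P₀ Q g := by
    have h := PSLib.algHom_ext (I := Ibar) (R := k)
      ((σ₀.restrictScalars k).comp (IsScalarTower.toAlgHom k P₀ P₁))
      (IsScalarTower.toAlgHom k P₀ Q) (fun i => ?_) (fun i => ?_)
    · exact fun g => AlgHom.congr_fun h g
    · show σ₀ (algebraMap P₀ P₁ (MvPowerSeries.X i)) ∈ Ibar
      rw [MvPowerSeries.algebraMap_apply'', MvPowerSeries.map_X, hσ₀]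
      exact hb i
    · show σ₀ (algebraMap P₀ P₁ (MvPowerSeries.X i)) = _
      rw [MvPowerSeries.algebraMap_apply'', MvPowerSeries.map_X, hσ₀]
      rfl
  let σ : P₁ →ₐ[P₀] Q := { σ₀.toRingHom with commutes' := hσP }
  let ψ := Algebra.TensorProduct.lift (IsScalarTower.toAlgHom P₀ A Q) σ fun _ _ => Commute.all _ _
  have hψ : ψ.toRingHom.comp (toPSTensor k k' r A).toRingHom = Ideal.Quotient.mk (I₀ ^ j) := by
    refine Algebra.TensorProduct.ringHom_ext (RingHom.ext fun a => ?_) (RingHom.ext fun c => ?_)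
    · show ψ (toPSTensor k k' r A (a ⊗ₜ 1)) = Ideal.Quotient.mk _ (a ⊗ₜ 1)
      rw [toPSTensor_tmul, map_one, Algebra.TensorProduct.lift_tmul, map_one, mul_one]
      rfl
    · show ψ (toPSTensor k k' r A (1 ⊗ₜ c)) = Ideal.Quotient.mk _ (1 ⊗ₜ c)
      rw [toPSTensor_tmul, Algebra.TensorProduct.lift_tmul, map_one, one_mul]
      exact σ₀.commutes c
  refine ⟨ψ.toRingHom, hψ, fun y hy => ?_⟩
  have h1 : Ideal.map ψ.toRingHom (J₀ ^ j) = ⊥ := by
    rw [← map_I_eq k k' r A]
    refine (congrArg (Ideal.map ψ.toRingHom) (Ideal.map_pow _ _ j).symm).trans ?_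
    rw [Ideal.map_map]
    exact (congrArg (fun f => Ideal.map f (I₀ ^ j)) hψ).trans (Ideal.map_quotient_self _)
  exact (Ideal.mem_bot).1 (h1 ▸ Ideal.mem_map_of_mem _ hy)

theorem isNoetherianRing_psTensor : IsNoetherianRing (A ⊗[MvPowerSeries (Fin r) k] MvPowerSeries (Fin r) k') := by
  haveI : IsRegularLocalRing P₁ := PSLib.isRegularLocalRing (K := k') (n := r)
  haveI : IsNoetherianRing (P₁ ⊗[P₀] A) := IsNoetherianRing.of_finite P₁ _
  exact isNoetherianRing_of_ringEquiv _ (Algebra.TensorProduct.comm P₀ P₁ A).toRingEquiv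

theorem isAdicComplete_psTensor [IsNoetherianRing A] :
    IsAdicComplete J₀ (A ⊗[MvPowerSeries (Fin r) k] MvPowerSeries (Fin r) k') := by
  haveI : IsRegularLocalRing P₁ := PSLib.isRegularLocalRing (K := k') (n := r)
  letI : Algebra P₁ (A ⊗[P₀] P₁) := Algebra.TensorProduct.rightAlgebra
  haveI : Module.Finite P₁ (A ⊗[P₀] P₁) := by
    let e : (P₁ ⊗[P₀] A) ≃ₐ[P₁] (A ⊗[P₀] P₁) :=
      { Algebra.TensorProduct.comm P₀ P₁ A with commutes' := fun _ => rfl }
    exact Module.Finite.equiv e.toLinearEquiv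
  have h1 := (IsAdicComplete.map_algebraMap_iff (S := A ⊗[P₀] P₁) (PSLib.vars r k') (A ⊗[P₀] P₁)).mpr
    (AdicLib.isAdicComplete_of_finite (PSLib.vars r k') (A ⊗[P₀] P₁))
  have e : (PSLib.vars r k').map (algebraMap P₁ (A ⊗[P₀] P₁)) =
      ((PSLib.vars r k).map (algebraMap P₀ A)).map (algebraMap A (A ⊗[P₀] P₁)) := by
    rw [← map_vars_eq k k', Ideal.map_map, Ideal.map_map]
    refine congrArg (fun f => Ideal.map f (PSLib.vars r k)) (RingHom.ext fun g => ?_)
    show (1 : A) ⊗ₜ[P₀] algebraMap P₀ P₁ g = algebraMap P₀ A g ⊗ₜ[P₀] (1 : P₁)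
    rw [Algebra.algebraMap_eq_smul_one, Algebra.algebraMap_eq_smul_one, TensorProduct.smul_tmul]
  rw [e] at h1
  obtain ⟨N, hN⟩ := Ideal.exists_pow_le_of_le_radical_of_fg (le_radical_map_vars k r A) (IsNoetherian.noetherian _)
  refine (AdicLib.iff_of_pow_le (c := 1) (d := N + 1) Nat.one_pos (Nat.succ_pos N) ?_ ?_).1 h1
  · rw [pow_one]
    exact Ideal.map_mono ((PSLib.maximalIdeal_eq_vars (K := k) (n := r)) ▸ map_maximalIdeal_le (algebraMap P₀ A))
  · rw [← Ideal.map_pow]
    exact Ideal.map_mono ((Ideal.pow_le_pow_right N.le_succ).trans hN)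

/-- The completed tensor product is the finite algebra over the larger power series ring. -/
theorem exists_ctensor_equiv [IsNoetherianRing A] :
    ∃ Φ : A ⊗[MvPowerSeries (Fin r) k] MvPowerSeries (Fin r) k' ≃+* AdicCompletion I₀ (A ⊗[k] k'),
      ∀ x, Φ (toPSTensor k k' r A x) = algebraMap (A ⊗[k] k') (AdicCompletion I₀ (A ⊗[k] k')) x := by
  choose ψ hψ hψ0 using exists_quot_hom k k' r A
  haveI := isAdicComplete_psTensor k k' r A
  have hψx : ∀ j x, ψ j (toPSTensor k k' r A x) = Ideal.Quotient.mk (I₀ ^ j) x := fun j x =>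
    RingHom.congr_fun (hψ j) x
  have hcomp : ∀ {m n : ℕ} (hle : m ≤ n), (Ideal.Quotient.factorPow I₀ hle).comp (ψ n) = ψ m := by
    intro m n hle
    refine RingHom.ext fun y => ?_
    obtain ⟨x, hx⟩ := exists_approx k k' r A y n
    rw [← sub_add_cancel y (toPSTensor k k' r A x), map_add, map_add, RingHom.comp_apply, RingHom.comp_apply,
      hψ0 n _ hx, hψ0 m _ (Ideal.pow_le_pow_right hle hx), hψx, hψx, map_zero, zero_add, zero_add]
    rfl
  let Φ := AdicCompletion.liftRingHom I₀ ψ hcomp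
  have hΦ : ∀ j y, AdicCompletion.evalₐ I₀ j (Φ y) = ψ j y := fun j y =>
    AdicCompletion.evalₐ_liftRingHom _ _ _ j y
  have hinj : Function.Injective Φ := by
    rw [injective_iff_map_eq_zero]
    intro y hy
    refine IsHausdorff.haus (I := J₀) inferInstance y fun j => ?_
    rw [SModEq.zero, smul_eq_mul, Ideal.mul_top]
    obtain ⟨x, hx⟩ := exists_approx k k' r A y j
    have h1 : ψ j y = 0 := by rw [← hΦ, hy, map_zero]
    have h2 : Ideal.Quotient.mk (I₀ ^ j) x = 0 := by
      rw [← hψx, ← h1, ← sub_eq_zero, ← map_sub, ← neg_sub, map_neg, hψ0 j _ hx, neg_zero]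
    have h3 : toPSTensor k k' r A x ∈ J₀ ^ j := by
      rw [← map_I_eq k k' r A, ← Ideal.map_pow]
      exact Ideal.mem_map_of_mem _ (Ideal.Quotient.eq_zero_iff_mem.1 h2)
    simpa using add_mem hx h3
  have hsurj : Function.Surjective Φ := by
    intro z
    choose x hx using fun j => Ideal.Quotient.mk_surjective (AdicCompletion.evalₐ I₀ j z)
    have hcauchy : ∀ {m n : ℕ}, m ≤ n → toPSTensor k k' r A (x m) ≡ toPSTensor k k' r A (x n)
        [SMOD (J₀ ^ m • ⊤ : Submodule (A ⊗[P₀] P₁) (A ⊗[P₀] P₁))] := by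
      intro m n hmn
      rw [SModEq.sub_mem, smul_eq_mul, Ideal.mul_top, ← map_sub, ← map_I_eq k k' r A, ← Ideal.map_pow]
      refine Ideal.mem_map_of_mem _ ?_
      rw [← Ideal.Quotient.eq, hx]
      have h := congrArg (Ideal.Quotient.factorPow I₀ hmn) (hx n)
      rw [Ideal.Quotient.factor_mk] at h
      rw [h]
      obtain ⟨a, rfl⟩ := AdicCompletion.mk_surjective I₀ (A ⊗[k] k') z
      rw [AdicCompletion.evalₐ_mk, AdicCompletion.evalₐ_mk, Ideal.Quotient.factor_mk, Ideal.Quotient.eq]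
      have := (a.2 hmn)
      rw [SModEq.sub_mem, smul_eq_mul, Ideal.mul_top] at this
      exact this
    obtain ⟨y, hy⟩ := IsPrecomplete.prec (I := J₀) inferInstance hcauchy
    refine ⟨y, AdicCompletion.ext_evalₐ fun j => ?_⟩
    have h := hy j
    rw [SModEq.sub_mem, smul_eq_mul, Ideal.mul_top] at h
    rw [hΦ, ← hx j, ← hψx, eq_comm, ← sub_eq_zero, ← map_sub]
    exact hψ0 j _ h
  refine ⟨RingEquiv.ofBijective Φ ⟨hinj, hsurj⟩, fun x => AdicCompletion.ext_evalₐ fun j => ?_⟩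
  show AdicCompletion.evalₐ I₀ j (Φ _) = _
  rw [hΦ, hψx, AlgHom.commutes]
  rfl

end Groth.Agent.Ega41H93
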