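import Groth.Agent.Ega41H93.CTensorPS
import Groth.Agent.S9405
import Mathlib.RingTheory.Ideal.KrullsHeightTheorem
import Mathlib.RingTheory.Flat.FaithfullyFlat.Algebra

/-!
# Completed tensor products of complete local algebras with field extensions
-/

set_option linter.style.haveILetI false

namespace Groth.Agent.Ega41H93

open IsLocalRing TensorProduct

universe u

/-- A finite map from power series onto generators of the maximal ideal. -/
theorem exists_powerSeries_algebra (k A : Type u) [Field k] [CommRing A] [IsLocalRing A] [IsNoetherianRing A]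
    [Algebra k A] [IsAdicComplete (maximalIdeal A) A] [Module.Finite k (ResidueField A)] :
    ∃ (r : ℕ) (_ : Algebra (MvPowerSeries (Fin r) k) A) (_ : IsScalarTower k (MvPowerSeries (Fin r) k) A),
      Module.Finite (MvPowerSeries (Fin r) k) A ∧ IsLocalHom (algebraMap (MvPowerSeries (Fin r) k) A) := by
  obtain ⟨r, x, hx, -, hrad⟩ := CohenLib.exists_fin_sop A
  obtain ⟨ψ, -, hfin, hloc⟩ := CplKaehler4.exists_algHom_finite k x hx hrad
  letI : Algebra (MvPowerSeries (Fin r) k) A := ψ.toRingHom.toAlgebra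
  exact ⟨r, inferInstance, IsScalarTower.of_algebraMap_eq fun c => (ψ.commutes c).symm, hfin, hloc⟩

variable (k A k' : Type u) [Field k] [CommRing A] [IsLocalRing A] [IsNoetherianRing A] [Algebra k A]
  [IsAdicComplete (maximalIdeal A) A] [Module.Finite k (ResidueField A)] [Field k'] [Algebra k k']

theorem ctensor_props (I : Ideal (A ⊗[k] k')) (hI : I = (maximalIdeal A).map (algebraMap A (A ⊗[k] k'))) :
    IsNoetherianRing (AdicCompletion I (A ⊗[k] k')) ∧
      Finite (MaximalSpectrum (AdicCompletion I (A ⊗[k] k'))) ∧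
      IsAdicComplete ((maximalIdeal A).map (algebraMap A (AdicCompletion I (A ⊗[k] k'))))
        (AdicCompletion I (A ⊗[k] k')) ∧
      ∀ M : MaximalSpectrum (AdicCompletion I (A ⊗[k] k')),
        IsAdicComplete (maximalIdeal (Localization.AtPrime M.asIdeal)) (Localization.AtPrime M.asIdeal) ∧
          Module.FaithfullyFlat A (Localization.AtPrime M.asIdeal) ∧
          ringKrullDim (Localization.AtPrime M.asIdeal) = ringKrullDim A ∧
          (((Ideal.Quotient.mk M.asIdeal).comp (algebraMap (A ⊗[k] k') (AdicCompletion I (A ⊗[k] k')))).comp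
              Algebra.TensorProduct.includeRight.toRingHom).Finite := by
  subst hI
  obtain ⟨r, hPA, htow, hfin, hloc⟩ := exists_powerSeries_algebra k A
  haveI := hfin; haveI := hloc
  let I₀ : Ideal (A ⊗[k] k') := (maximalIdeal A).map (algebraMap A (A ⊗[k] k'))
  let C := A ⊗[MvPowerSeries (Fin r) k] MvPowerSeries (Fin r) k'
  let S := AdicCompletion I₀ (A ⊗[k] k')
  obtain ⟨Φ, hΦ⟩ : ∃ Φ : C ≃+* S, ∀ x, Φ (toPSTensor k k' r A x) = algebraMap (A ⊗[k] k') S x :=
    exists_ctensor_equiv k k' r A
  have hΦA : ∀ a, Φ (algebraMap A C a) = algebraMap A S a := fun a => by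
    rw [show algebraMap A C a = toPSTensor k k' r A (algebraMap A (A ⊗[k] k') a) by
      rw [Algebra.TensorProduct.algebraMap_apply, Algebra.TensorProduct.algebraMap_apply, toPSTensor_tmul, map_one], hΦ,
      ← IsScalarTower.algebraMap_apply]
  let Φ' : C ≃ₐ[A] S := AlgEquiv.ofRingEquiv (f := Φ) hΦA
  haveI : IsRegularLocalRing (MvPowerSeries (Fin r) k') := PSLib.isRegularLocalRing (K := k') (n := r)
  haveI : IsAdicComplete (maximalIdeal (MvPowerSeries (Fin r) k')) (MvPowerSeries (Fin r) k') := by
    rw [PSLib.maximalIdeal_eq_vars]; infer_instance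
  letI : Algebra (MvPowerSeries (Fin r) k') S :=
    (Φ.toRingHom.comp (Algebra.TensorProduct.includeRight :
      MvPowerSeries (Fin r) k' →ₐ[MvPowerSeries (Fin r) k] C).toRingHom).toAlgebra
  haveI hS : Module.Finite (MvPowerSeries (Fin r) k') S := by
    have h1 : (algebraMap (MvPowerSeries (Fin r) k')
        (MvPowerSeries (Fin r) k' ⊗[MvPowerSeries (Fin r) k] A)).Finite := RingHom.finite_algebraMap.2 inferInstance
    have e : algebraMap (MvPowerSeries (Fin r) k') S =
        (Φ.toRingHom.comp (Algebra.TensorProduct.comm (MvPowerSeries (Fin r) k) (MvPowerSeries (Fin r) k') A).toRingEquiv.toRingHom).comp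
          (algebraMap (MvPowerSeries (Fin r) k') (MvPowerSeries (Fin r) k' ⊗[MvPowerSeries (Fin r) k] A)) :=
      RingHom.ext fun f => by
        show Φ ((1 : A) ⊗ₜ f) = Φ (Algebra.TensorProduct.comm (MvPowerSeries (Fin r) k) (MvPowerSeries (Fin r) k') A (f ⊗ₜ 1))
        rw [Algebra.TensorProduct.comm_tmul]
    rw [← RingHom.finite_algebraMap, e]
    exact (RingHom.Finite.of_surjective _ (Φ.surjective.comp (AlgEquiv.surjective _))).comp h1
  haveI hN : IsNoetherianRing S := IsNoetherianRing.of_finite (MvPowerSeries (Fin r) k') S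
  obtain ⟨hfinM, -, hcpl⟩ := S9405.result (MvPowerSeries (Fin r) k') S
  haveI hflat : Module.Flat A S := by
    haveI := flat_powerSeries_baseField k k' r
    haveI : Module.Flat A C := inferInstance
    exact Module.Flat.of_linearEquiv Φ'.toLinearEquiv.symm
  have hcomplete : IsAdicComplete ((maximalIdeal A).map (algebraMap A S)) S := by
    have h1 : IsAdicComplete I₀ S := AdicCompletion.isAdicComplete (Ideal.FG.map (IsNoetherian.noetherian (maximalIdeal A)) _)
    have h2 := (IsAdicComplete.map_algebraMap_iff (S := S) I₀ S).mpr h1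
    rwa [show (maximalIdeal A).map (algebraMap A S) = I₀.map (algebraMap (A ⊗[k] k') S) by
      rw [Ideal.map_map, ← IsScalarTower.algebraMap_eq]]
  have hvars : ∀ f ∈ PSLib.vars r k', algebraMap (MvPowerSeries (Fin r) k') S f ∈ (maximalIdeal A).map (algebraMap A S) := by
    intro f hf
    have h1 := vars_mem_J k k' r A (j := 1) (f := f) (by rwa [Submodule.pow_one])
    rw [Submodule.pow_one] at h1
    have h2 := Ideal.mem_map_of_mem Φ.toRingHom h1
    rw [Ideal.map_map, show Φ.toRingHom.comp (algebraMap A C) = algebraMap A S from RingHom.ext hΦA] at h2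
    exact h2
  refine ⟨hN, hfinM, hcomplete, fun M => ?_⟩
  haveI := M.isMaximal
  let L := Localization.AtPrime M.asIdeal
  have hmM : (maximalIdeal A).map (algebraMap A S) ≤ M.asIdeal :=
    (IsAdicComplete.le_jacobson_bot _).trans (sInf_le ⟨bot_le, M.isMaximal⟩)
  have hzero : ∀ Q : Ideal S, Q.IsPrime → (maximalIdeal A).map (algebraMap A S) ≤ Q → Q.IsMaximal := by
    intro Q hQ hle
    haveI : Algebra.IsIntegral (MvPowerSeries (Fin r) k') S := Algebra.IsIntegral.of_finite _ _
    refine Ideal.isMaximal_of_isIntegral_of_isMaximal_comap (R := MvPowerSeries (Fin r) k') Q ?_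
    rw [show Q.comap (algebraMap (MvPowerSeries (Fin r) k') S) = maximalIdeal _ from
      le_antisymm (le_maximalIdeal (hQ.comap _).ne_top) (fun f hf => hle (hvars f (by rwa [← PSLib.maximalIdeal_eq_vars])))]
    exact maximalIdeal.isMaximal _
  haveI : M.asIdeal.LiesOver (maximalIdeal A) := ⟨((maximalIdeal.isMaximal A).eq_of_le
    (Ideal.IsPrime.ne_top (M.isMaximal.isPrime.comap _)) (Ideal.map_le_iff_le_comap.1 hmM))⟩
  refine ⟨(hcpl M).2, ?_, ?_, ?_⟩
  · haveI : Module.Flat A L := Module.Flat.trans A S L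
    haveI : IsLocalHom (algebraMap A L) := by
      refine ((IsLocalRing.local_hom_TFAE (algebraMap A L)).out 0 2).2 ?_
      rw [IsScalarTower.algebraMap_eq A S L, ← Ideal.map_map]
      exact (Ideal.map_mono hmM).trans (Localization.AtPrime.map_eq_maximalIdeal (I := M.asIdeal)).le
    exact Module.FaithfullyFlat.of_flat_of_isLocalHom
  · haveI : Algebra.HasGoingDown A S := inferInstance
    have h1 := Ideal.height_eq_height_add_of_liesOver_of_hasGoingDown (maximalIdeal A) M.asIdeal
    haveI : (M.asIdeal.map (Ideal.Quotient.mk ((maximalIdeal A).map (algebraMap A S)))).IsPrime :=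
      Ideal.map_isPrime_of_surjective Ideal.Quotient.mk_surjective (by rwa [Ideal.mk_ker])
    haveI : Ring.KrullDimLE 0 (S ⧸ (maximalIdeal A).map (algebraMap A S)) := by
      refine Ring.KrullDimLE.mk₀ fun Q hQ => ?_
      haveI := hzero (Q.comap (Ideal.Quotient.mk _)) (hQ.comap _) (fun x hx => by
        rw [Ideal.mem_comap, Ideal.Quotient.eq_zero_iff_mem.2 hx]; exact Q.zero_mem)
      rw [← Ideal.map_comap_of_surjective _ Ideal.Quotient.mk_surjective Q]
      exact Ideal.IsMaximal.map_of_surjective_of_ker_le Ideal.Quotient.mk_surjective (by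
        rw [Ideal.mk_ker]; intro x hx
        rw [Ideal.mem_comap, Ideal.Quotient.eq_zero_iff_mem.2 hx]; exact Q.zero_mem)
    rw [Ideal.height_eq_zero_iff.mpr (Ideal.mem_minimalPrimes_of_krullDimLE_zero
      (M.asIdeal.map (Ideal.Quotient.mk ((maximalIdeal A).map (algebraMap A S))))), add_zero] at h1
    rw [IsLocalization.AtPrime.ringKrullDim_eq_height M.asIdeal L, h1, IsLocalRing.maximalIdeal_height_eq_ringKrullDim]
  · letI : Algebra k' (S ⧸ M.asIdeal) :=
      (((Ideal.Quotient.mk M.asIdeal).comp (algebraMap (A ⊗[k] k') S)).comp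
        (Algebra.TensorProduct.includeRight : k' →ₐ[k] A ⊗[k] k').toRingHom).toAlgebra
    show Module.Finite k' (S ⧸ M.asIdeal)
    haveI : Module.Finite (MvPowerSeries (Fin r) k') (S ⧸ M.asIdeal) :=
      Module.Finite.of_surjective (IsScalarTower.toAlgHom (MvPowerSeries (Fin r) k') S (S ⧸ M.asIdeal)).toLinearMap
        Ideal.Quotient.mk_surjective
    obtain ⟨n, b, hb⟩ := Submodule.fg_iff_exists_fin_generating_family.1
      (Module.Finite.fg_top (R := MvPowerSeries (Fin r) k') (M := S ⧸ M.asIdeal))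
    refine ⟨Submodule.fg_def.2 ⟨Set.range b, Set.finite_range b, eq_top_iff.2 fun y _ => ?_⟩⟩
    obtain ⟨c, rfl⟩ := (Submodule.mem_span_range_iff_exists_fun (MvPowerSeries (Fin r) k')).1
      (hb ▸ (Submodule.mem_top : y ∈ ⊤))
    refine sum_mem fun i _ => ?_
    have hc : algebraMap (MvPowerSeries (Fin r) k') (S ⧸ M.asIdeal) (c i) =
        algebraMap k' (S ⧸ M.asIdeal) (MvPowerSeries.constantCoeff (c i)) := by
      have h1 : c i - MvPowerSeries.C (MvPowerSeries.constantCoeff (c i)) ∈ PSLib.vars r k' :=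
        PSLib.mem_vars_iff.2 (by simp)
      have h2 := Ideal.Quotient.eq_zero_iff_mem.2 (hmM (hvars _ h1))
      rw [map_sub, map_sub, sub_eq_zero] at h2
      refine h2.trans (congrArg (Ideal.Quotient.mk M.asIdeal) ?_)
      show Φ ((1 : A) ⊗ₜ MvPowerSeries.C (MvPowerSeries.constantCoeff (c i))) = algebraMap (A ⊗[k] k') S ((1 : A) ⊗ₜ _)
      rw [← toPSTensor_tmul, hΦ]
    rw [Algebra.smul_def, hc, ← Algebra.smul_def]
    exact Submodule.smul_mem _ _ (Submodule.subset_span ⟨i, rfl⟩)

end Groth.Agent.Ega41H93
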