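import Groth.Agent.Ega41H93.PSKaehler

/-!
# Differentials of a finite extension of a separable extension
-/

set_option linter.style.haveILetI false

namespace Groth.Agent.Ega41H93

open TensorProduct IsLocalRing

universe u

theorem finrank_map_add {L U V V' : Type*} [Field L] [AddCommGroup U] [Module L U] [AddCommGroup V] [Module L V]
    [AddCommGroup V'] [Module L V'] (W : Submodule L V) [Module.Finite L W] (π : V →ₗ[L] V') (ι : U →ₗ[L] V)
    (hι : Function.Injective ι) (Y : Submodule L U) (hY : Submodule.map ι Y = W ⊓ LinearMap.ker π) :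
    Module.Finite L Y ∧ Module.Finite L (W.map π) ∧
      Module.finrank L (W.map π) + Module.finrank L Y = Module.finrank L W := by
  let e := Submodule.equivMapOfInjective ι hι Y
  haveI : Module.Finite L ↥(Submodule.map ι Y) :=
    Module.Finite.of_injective (Submodule.inclusion (hY.le.trans inf_le_left)) (Submodule.inclusion_injective _)
  haveI : Module.Finite L Y := Module.Finite.equiv e.symm
  have h1 := (π.domRestrict W).finrank_range_add_finrank_ker
  rw [LinearMap.range_domRestrict, LinearMap.ker_domRestrict] at h1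
  have h2 : Module.finrank L ((LinearMap.ker π).comap W.subtype) = Module.finrank L Y := by
    rw [e.finrank_eq, hY, ← Submodule.map_comap_subtype,
      ← (Submodule.equivMapOfInjective W.subtype W.injective_subtype _).finrank_eq]
  refine ⟨inferInstance, ?_, by omega⟩
  rw [← LinearMap.range_domRestrict]
  exact Module.Finite.range _

set_option maxHeartbeats 800000 in
theorem finrank_kaehler_finite_extension (k L₀ L : Type u) [Field k] [Field L₀] [Field L] [Algebra k L₀] [Algebra L₀ L]
    [Algebra k L] [IsScalarTower k L₀ L] [Module.Finite L₀ L]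
    (hinj₀ : Function.Injective (KaehlerDifferential.mapBaseChange ℤ k L₀)) :
    Module.Finite L (EGA41.imperfection ℤ k L) ∧
      (Module.Finite L₀ (Ω[L₀⁄k]) ↔ Module.Finite L (Ω[L⁄k])) ∧
      (Module.Finite L (Ω[L⁄k]) → Module.finrank L (Ω[L⁄k]) =
        Module.finrank L₀ (Ω[L₀⁄k]) + Module.finrank L (EGA41.imperfection ℤ k L)) := by
  classical
  haveI : Algebra.EssFiniteType L₀ L := inferInstance
  obtain ⟨hΩ, hH, heq⟩ := CartierEq4.finrank_kaehler_eq L₀ L
  haveI : Algebra.IsAlgebraic L₀ L := Algebra.IsAlgebraic.of_finite L₀ L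
  rw [trdeg_eq_zero (R := L₀) (A := L), map_zero, zero_add] at heq
  haveI hW := (CartierEq4.finite_imperfection ℤ L₀ L).1
  have hWd : Module.finrank L (EGA41.imperfection ℤ L₀ L) = Module.finrank L (Ω[L⁄L₀]) := by
    rw [CartierEq4.finrank_imperfection_int L₀ L, heq]
  let W : Submodule L (L ⊗[L₀] Ω[L₀⁄ℤ]) := EGA41.imperfection ℤ L₀ L
  let q := KaehlerDifferential.mapBaseChange ℤ L₀ L
  let g := KaehlerDifferential.mapBaseChange k L₀ L
  let ι : L ⊗[k] Ω[k⁄ℤ] →ₗ[L] L ⊗[L₀] Ω[L₀⁄ℤ] :=
    (LinearMap.baseChange L (KaehlerDifferential.mapBaseChange ℤ k L₀)).comp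
      (AlgebraTensorModule.cancelBaseChange k L₀ L L (Ω[k⁄ℤ])).symm.toLinearMap
  have hιinj : Function.Injective ι := by
    refine Function.Injective.comp (g := LinearMap.baseChange L (KaehlerDifferential.mapBaseChange ℤ k L₀)) ?_
      (LinearEquiv.injective _)
    exact Module.Flat.lTensor_preserves_injective_linearMap (M := L)
      ((KaehlerDifferential.mapBaseChange ℤ k L₀).restrictScalars L₀) hinj₀
  let π : L ⊗[L₀] Ω[L₀⁄ℤ] →ₗ[L] L ⊗[L₀] Ω[L₀⁄k] := LinearMap.baseChange L (KaehlerDifferential.map ℤ k L₀ L₀)
  have hπι : LinearMap.ker π = LinearMap.range ι := by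
    have h := (lTensor_exact L (KaehlerDifferential.exact_mapBaseChange_map ℤ k L₀)
      (KaehlerDifferential.map_surjective ℤ k L₀)).linearMap_ker_eq
    rw [LinearMap.range_comp, LinearEquiv.range, Submodule.map_top]
    refine Submodule.restrictScalars_injective L₀ _ _ ?_
    exact h
  have hπs : Function.Surjective π :=
    LinearMap.lTensor_surjective L (g := KaehlerDifferential.map ℤ k L₀ L₀) (KaehlerDifferential.map_surjective ℤ k L₀)
  have hqι : ∀ z, q (ι z) = KaehlerDifferential.mapBaseChange ℤ k L z := by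
    intro z
    induction z using TensorProduct.induction_on with
    | zero => simp
    | add x y hx hy => simp only [map_add, hx, hy]
    | tmul c x =>
      simp only [ι, q, LinearMap.comp_apply, LinearEquiv.coe_coe, AlgebraTensorModule.cancelBaseChange_symm_tmul,
        LinearMap.baseChange_tmul, KaehlerDifferential.mapBaseChange_tmul, one_smul]
      congr 1
      have hx : x ∈ Submodule.span k (Set.range (KaehlerDifferential.D ℤ k)) := by
        rw [KaehlerDifferential.span_range_derivation]; trivial
      induction hx using Submodule.span_induction with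
      | mem y hy =>
        obtain ⟨y, rfl⟩ := hy
        simp only [KaehlerDifferential.map_D, ← IsScalarTower.algebraMap_apply]
      | zero => simp
      | add y z _ _ hy hz => simp only [map_add, hy, hz]
      | smul c y _ hy => simp only [map_smul, LinearMap.map_smul_of_tower, hy]
  have hgπ : ∀ z, g (π z) = KaehlerDifferential.map ℤ k L L (q z) := by
    intro z
    induction z using TensorProduct.induction_on with
    | zero => simp
    | add x y hx hy => simp only [map_add, hx, hy]
    | tmul c x =>
      simp only [π, g, q, LinearMap.baseChange_tmul, KaehlerDifferential.mapBaseChange_tmul, map_smul]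
      congr 1
      have hx : x ∈ Submodule.span L₀ (Set.range (KaehlerDifferential.D ℤ L₀)) := by
        rw [KaehlerDifferential.span_range_derivation]; trivial
      induction hx using Submodule.span_induction with
      | mem y hy =>
        obtain ⟨y, rfl⟩ := hy
        simp only [KaehlerDifferential.map_D, Algebra.algebraMap_self, RingHom.id_apply]
      | zero => simp
      | add y z _ _ hy hz => simp only [map_add, hy, hz]
      | smul c y _ hy => simp only [map_smul, LinearMap.map_smul_of_tower, hy]
  have hkerg : LinearMap.ker g = W.map π := by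
    refine le_antisymm ?_ ?_
    · intro w hw
      obtain ⟨z, rfl⟩ := hπs w
      rw [LinearMap.mem_ker, hgπ] at hw
      obtain ⟨y, hy⟩ := (KaehlerDifferential.exact_mapBaseChange_map ℤ k L (q z)).1 hw
      refine ⟨z - ι y, ?_, ?_⟩
      · show q (z - ι y) = 0
        rw [map_sub, hqι, hy, sub_self]
      · rw [map_sub, show π (ι y) = 0 from LinearMap.mem_ker.1 (hπι ▸ ⟨y, rfl⟩), sub_zero]
    · rintro _ ⟨z, hz, rfl⟩
      rw [LinearMap.mem_ker, hgπ, show q z = 0 from hz, map_zero]
  haveI hWf : Module.Finite L W := hW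
  haveI : IsNoetherian L W := isNoetherian_of_isNoetherianRing_of_finite L W
  have hU : Submodule.map ι (EGA41.imperfection ℤ k L) = W ⊓ LinearMap.ker π := by
    refine le_antisymm ?_ ?_
    · rintro _ ⟨y, hy, rfl⟩
      exact ⟨(hqι y).trans hy, hπι ▸ ⟨y, rfl⟩⟩
    · rintro z ⟨hz, hz'⟩
      obtain ⟨y, rfl⟩ : z ∈ LinearMap.range ι := hπι ▸ hz'
      exact ⟨y, (hqι y).symm.trans hz, rfl⟩
  obtain ⟨hUf, hmf, h1⟩ := finrank_map_add W π ι hιinj (EGA41.imperfection ℤ k L) hU
  haveI hgf : Module.Finite L (LinearMap.ker g) := hkerg ▸ hmf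
  rw [← hkerg] at h1
  have hex := (KaehlerDifferential.exact_mapBaseChange_map k L₀ L).linearMap_ker_eq
  refine ⟨hUf, ⟨fun hf => ?_, fun hf => ?_⟩, fun hf => ?_⟩
  · haveI := hf
    refine ⟨Submodule.fg_of_fg_map_of_fg_inf_ker (KaehlerDifferential.map k L₀ L L) (IsNoetherian.noetherian _) ?_⟩
    rw [top_inf_eq, hex]
    exact (Submodule.fg_top _).1 (Module.Finite.range g).fg_top
  · haveI := hf
    haveI : Module.Finite L (L ⊗[L₀] Ω[L₀⁄k]) :=
      ⟨Submodule.fg_of_fg_map_of_fg_inf_ker g (IsNoetherian.noetherian _) (by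
        rw [top_inf_eq]; exact (Submodule.fg_top _).1 hgf.fg_top)⟩
    exact Module.Finite.of_finite_tensorProduct_of_faithfullyFlat L
  · haveI := hf
    haveI : Module.Finite L (L ⊗[L₀] Ω[L₀⁄k]) :=
      ⟨Submodule.fg_of_fg_map_of_fg_inf_ker g (IsNoetherian.noetherian _) (by
        rw [top_inf_eq]; exact (Submodule.fg_top _).1 hgf.fg_top)⟩
    have h3 := g.finrank_range_add_finrank_ker
    rw [Module.finrank_baseChange] at h3
    have h4 := (KaehlerDifferential.map k L₀ L L).finrank_range_add_finrank_ker
    rw [LinearMap.range_eq_top.2 (KaehlerDifferential.map_surjective k L₀ L), finrank_top, hex] at h4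
    change _ = Module.finrank L (EGA41.imperfection ℤ L₀ L) at h1
    rw [hWd] at h1
    change Module.finrank L (LinearMap.range g) + Module.finrank L (LinearMap.ker g) = _ at h3
    change Module.finrank L (Ω[L⁄L₀]) + Module.finrank L (LinearMap.range g) = _ at h4
    omega

variable (k C L : Type u) [Field k] [CommRing C] [IsDomain C] [IsNoetherianRing C] [IsLocalRing C]
  [Algebra k C] [IsAdicComplete (maximalIdeal C) C] [Module.Finite k (ResidueField C)]
  (n : ℕ) [Field L] [Algebra C L] [IsFractionRing C L] [Algebra k L] [IsScalarTower k C L]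

/-- Differentials of the fraction field of a complete local domain. -/
theorem kaehler_fractionField (hn : ringKrullDim C = n) :
    Module.Finite L (EGA41.imperfection ℤ k L) ∧
      (Module.Finite L (Ω[L⁄k]) → n + Module.finrank L (EGA41.imperfection ℤ k L) ≤ Module.finrank L (Ω[L⁄k])) ∧
      (∀ (p : ℕ) [Fact p.Prime] [CharP k p], (frobenius k p).Finite →
        Module.finrank L (Ω[L⁄k]) = n + Module.finrank L (EGA41.imperfection ℤ k L) ∧ Module.Finite C (Ω[C⁄k])) := by
  classical
  obtain ⟨r, x, hx, hr, hrad⟩ := CohenLib.exists_fin_sop C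
  have hrn : r = n := by exact_mod_cast hr.symm.trans hn
  subst hrn
  obtain ⟨ψ, hψ, hfin, hloc⟩ := CplKaehler4.exists_algHom_finite k x hx hrad
  letI : Algebra (MvPowerSeries (Fin r) k) C := ψ.toRingHom.toAlgebra
  haveI : IsScalarTower k (MvPowerSeries (Fin r) k) C := IsScalarTower.of_algebraMap_eq fun c => (ψ.commutes c).symm
  haveI : Module.Finite (MvPowerSeries (Fin r) k) C := hfin
  haveI : IsDomain (MvPowerSeries (Fin r) k) := NoZeroDivisors.to_isDomain _
  have hinj : Function.Injective ψ.toRingHom :=
    CohenLib.injective_of_finite ψ.toRingHom hfin hr (PSLib.ringKrullDim_eq k r).le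
  let L₀ := FractionRing (MvPowerSeries (Fin r) k)
  letI : Algebra (MvPowerSeries (Fin r) k) L := ((algebraMap C L).comp ψ.toRingHom).toAlgebra
  haveI : IsScalarTower (MvPowerSeries (Fin r) k) C L := IsScalarTower.of_algebraMap_eq fun _ => rfl
  haveI : IsScalarTower k (MvPowerSeries (Fin r) k) L := IsScalarTower.to₁₂₄ k (MvPowerSeries (Fin r) k) C L
  haveI : FaithfulSMul (MvPowerSeries (Fin r) k) L :=
    (faithfulSMul_iff_algebraMap_injective _ _).2 ((IsFractionRing.injective C L).comp hinj)
  letI : Algebra L₀ L := FractionRing.liftAlgebra (MvPowerSeries (Fin r) k) L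
  haveI : IsScalarTower k L₀ L := IsScalarTower.of_algebraMap_eq fun c => by
    rw [IsScalarTower.algebraMap_apply k (MvPowerSeries (Fin r) k) L₀,
      ← IsScalarTower.algebraMap_apply (MvPowerSeries (Fin r) k) L₀ L, ← IsScalarTower.algebraMap_apply]
  haveI : Module.Finite L₀ L := CplKaehler4.finite_fractionField (MvPowerSeries (Fin r) k) C L₀ L
  obtain ⟨hU, hiff, heq⟩ := finrank_kaehler_finite_extension k L₀ L
    (injective_mapBaseChange_int (k := k) (n := r) L₀)
  refine ⟨hU, fun hf => ?_, fun p _ _ hk => ?_⟩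
  · rw [heq hf]
    haveI := hiff.2 hf
    have h := (linearIndependent_D_X (k := k) (n := r) L₀).fintype_card_le_finrank
    rw [Fintype.card_fin] at h
    omega
  · obtain ⟨h1, h2⟩ := finrank_kaehler_fraction (k := k) (n := r) L₀ p hk
    refine ⟨?_, finite_kaehler_of_finite_powerSeries (n := r) p hk C⟩
    rw [heq (hiff.1 h1), h2]

end Groth.Agent.Ega41H93
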