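import Groth.Agent.Ega41H93.ResidueKaehlerFS
import Groth.Agent.Ega41H93.KaehlerFinExt
import Groth.Agent.CplKaehler4.Domain
import Groth.Agent.LC.CompleteCatenary
import Groth.Agent.RegFS6.Field
import Groth.Agent.RegLoc6.Normal

/-!
# Completed differentials at a geometrically regular point of a complete local algebra
-/

set_option linter.style.haveILetI false

namespace Groth.Agent.Ega41H93

open IsLocalRing TensorProduct

universe u

attribute [local instance 10000] Ring.toIntAlgebra

/-- Generators of a prime at that prime, as many as the dimension of the regular local ring. -/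
theorem exists_generators_at {A : Type u} [CommRing A] (P : Ideal A) [P.IsPrime]
    [IsRegularLocalRing (Localization.AtPrime P)] {h : ℕ} (hh : ringKrullDim (Localization.AtPrime P) = h) :
    ∃ g : Fin h → A, (∀ i, g i ∈ P) ∧ ∀ x ∈ P, ∃ c ∉ P, c * x ∈ Ideal.span (Set.range g) := by
  classical
  let R := Localization.AtPrime P
  have hs : (maximalIdeal R).spanFinrank = h := by
    exact_mod_cast ((isRegularLocalRing_iff R).1 inferInstance).trans hh
  have hfg : (maximalIdeal R).FG := (maximalIdeal R).fg_of_isNoetherianRing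
  obtain ⟨s, hcard, hspan⟩ := Submodule.FG.exists_span_set_encard_eq_spanFinrank hfg
  have hfin : s.Finite := Set.finite_of_encard_eq_coe hcard
  have hc : hfin.toFinset.card = h := by
    have e : ((hfin.toFinset.card : ℕ) : ℕ∞) = (h : ℕ∞) := by rw [← hfin.encard_eq_coe_toFinset_card, hcard, hs]
    exact_mod_cast e
  let e := (hfin.toFinset.equivFinOfCardEq hc).symm
  choose z hz using fun i => IsLocalization.surj P.primeCompl ((e i : hfin.toFinset) : R)
  have hmem : ∀ i, ((e i : hfin.toFinset) : R) ∈ maximalIdeal R := fun i =>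
    hspan ▸ Submodule.subset_span (hfin.mem_toFinset.1 (e i).2)
  refine ⟨fun i => (z i).1, fun i => ?_, fun x hx => ?_⟩
  · have := Ideal.mul_mem_right (algebraMap A R (z i).2) (maximalIdeal R) (hmem i)
    rw [hz i, IsLocalization.AtPrime.to_map_mem_maximal_iff R P] at this
    exact this
  · have hle : maximalIdeal R ≤ (Ideal.span (Set.range fun i => (z i).1)).map (algebraMap A R) := by
      rw [← hspan]
      refine Submodule.span_le.2 fun y hy => ?_
      obtain ⟨i, hi⟩ := e.surjective ⟨y, hfin.mem_toFinset.2 hy⟩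
      have hu := IsLocalization.map_units R (z i).2
      have hy' : ((e i : hfin.toFinset) : R) = y := by rw [hi]
      rw [SetLike.mem_coe, ← hy', ← Ideal.mul_unit_mem_iff_mem _ hu, hz i]
      exact Ideal.mem_map_of_mem _ (Ideal.subset_span ⟨i, rfl⟩)
    have h1 : algebraMap A R x ∈ (Ideal.span (Set.range fun i => (z i).1)).map (algebraMap A R) :=
      hle ((IsLocalization.AtPrime.to_map_mem_maximal_iff R P x).2 hx)
    obtain ⟨⟨a, t⟩, ht⟩ := (IsLocalization.mem_map_algebraMap_iff P.primeCompl R).1 h1
    rw [← map_mul] at ht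
    obtain ⟨c, hc⟩ := IsLocalization.exists_of_eq (M := P.primeCompl) ht
    refine ⟨(c : A) * t, Submonoid.mul_mem _ c.2 t.2, ?_⟩
    rw [mul_assoc, mul_comm (t : A) x, hc]
    exact Ideal.mul_mem_left _ _ a.2

/-- In a local domain at `P`, the minimal prime below `P` dies. -/
theorem exists_smul_eq_zero_of_mem_minimalPrimes {A : Type u} [CommRing A] (P q : Ideal A) [P.IsPrime]
    [IsDomain (Localization.AtPrime P)] (hq : q ∈ minimalPrimes A) (hqP : q ≤ P) :
    ∀ a ∈ q, ∃ c ∉ P, c * a = 0 := by
  haveI := hq.1.1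
  let R := Localization.AtPrime P
  have hd : Disjoint (P.primeCompl : Set A) (q : Set A) := Set.disjoint_left.2 fun a ha ha' => ha (hqP ha')
  haveI : (q.map (algebraMap A R)).IsPrime := IsLocalization.isPrime_of_isPrime_disjoint P.primeCompl R q inferInstance hd
  have hbot : q.map (algebraMap A R) = ⊥ := by
    have h1 : q ≤ (⊥ : Ideal R).comap (algebraMap A R) := by
      refine hq.2 ⟨Ideal.IsPrime.comap _ (hK := Ideal.isPrime_bot), bot_le⟩ ?_
      calc (⊥ : Ideal R).comap (algebraMap A R) ≤ (q.map (algebraMap A R)).comap (algebraMap A R) :=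
            Ideal.comap_mono bot_le
        _ = q := IsLocalization.under_map_of_isPrime_disjoint P.primeCompl R inferInstance hd
    exact le_bot_iff.1 (Ideal.map_le_iff_le_comap.2 h1)
  intro a ha
  have : algebraMap A R a = 0 := (Ideal.mem_bot).1 (hbot ▸ Ideal.mem_map_of_mem _ ha)
  obtain ⟨c, hc⟩ := (IsLocalization.map_eq_zero_iff P.primeCompl R a).1 this
  exact ⟨c, c.2, hc⟩

variable {k A : Type u} [Field k] [CommRing A] [IsLocalRing A] [IsNoetherianRing A] [Algebra k A]
  [IsAdicComplete (maximalIdeal A) A] [Module.Finite k (ResidueField A)]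

local notation "Om" => AdicCompletion (maximalIdeal A) (Ω[A⁄k])

omit [IsLocalRing A] [IsAdicComplete (maximalIdeal A) A] [Module.Finite k (ResidueField A)] in
theorem height_le_height_map_quotient (P q : Ideal A) [P.IsPrime] (hz : ∀ a ∈ q, ∃ c ∉ P, c * a = 0) (hqP : q ≤ P) :
    P.height = (P.map (Ideal.Quotient.mk q)).height := by
  have hker : ∀ (Q : Ideal A) [Q.IsPrime], Q ≤ P → q ≤ Q := fun Q _ hQ a ha => by
    obtain ⟨c, hc, h0⟩ := hz a ha
    exact (Ideal.IsPrime.mem_or_mem ‹_› (h0 ▸ Q.zero_mem : c * a ∈ Q)).resolve_left fun h => hc (hQ h)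
  haveI : (P.map (Ideal.Quotient.mk q)).IsPrime :=
    Ideal.map_isPrime_of_surjective Ideal.Quotient.mk_surjective (by rwa [Ideal.mk_ker])
  have hcm : ∀ (Q : Ideal A), q ≤ Q → (Q.map (Ideal.Quotient.mk q)).comap (Ideal.Quotient.mk q) = Q := fun Q h => by
    rw [Ideal.comap_map_of_surjective _ Ideal.Quotient.mk_surjective, ← RingHom.ker_eq_comap_bot, Ideal.mk_ker,
      sup_eq_left.2 h]
  rw [PrimeSpectrum.height_eq_orderHeight ⟨P, inferInstance⟩,
    PrimeSpectrum.height_eq_orderHeight ⟨P.map (Ideal.Quotient.mk q), inferInstance⟩]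
  refine le_antisymm (Order.height_le fun l hl => ?_) ?_
  · have hle : ∀ i, q ≤ (l i).asIdeal := fun i => hker _ ((l.monotone (Fin.le_last i)).trans hl.le)
    let l' : LTSeries (PrimeSpectrum (A ⧸ q)) := LTSeries.mk l.length
      (fun i => ⟨(l i).asIdeal.map (Ideal.Quotient.mk q),
        Ideal.map_isPrime_of_surjective Ideal.Quotient.mk_surjective (by rw [Ideal.mk_ker]; exact hle i)⟩)
      (fun i j hij => by
        have h := l.strictMono hij
        refine lt_of_le_of_ne (Ideal.map_mono h.le) fun e => h.ne (PrimeSpectrum.ext ?_)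
        rw [← hcm _ (hle i), ← hcm _ (hle j)]
        exact congrArg (fun z : PrimeSpectrum (A ⧸ q) => z.asIdeal.comap (Ideal.Quotient.mk q)) e)
    exact Order.length_le_height (p := l') (show (l'.last) ≤ _ from Ideal.map_mono hl.le)
  · have h := Order.height_le_height_apply_of_strictMono (PrimeSpectrum.comap (Ideal.Quotient.mk q))
      (Monotone.strictMono_of_injective (fun a b h => Ideal.comap_mono h)
        (PrimeSpectrum.comap_injective_of_surjective _ Ideal.Quotient.mk_surjective))
      ⟨P.map (Ideal.Quotient.mk q), inferInstance⟩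
    rwa [show PrimeSpectrum.comap (Ideal.Quotient.mk q) ⟨P.map (Ideal.Quotient.mk q), inferInstance⟩ =
      ⟨P, inferInstance⟩ from PrimeSpectrum.ext (hcm P hqP)] at h

/-- The quotient by a prime keeps a residue field finite over `k`. -/
theorem finite_residueField_quot (P : Ideal A) [P.IsPrime] [IsLocalRing (A ⧸ P)] :
    Module.Finite k (ResidueField (A ⧸ P)) := by
  haveI : IsLocalHom (Ideal.Quotient.mk P) := .of_surjective _ Ideal.Quotient.mk_surjective
  let g : ResidueField A →ₐ[k] ResidueField (A ⧸ P) :=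
    { ResidueField.map (Ideal.Quotient.mk P) with commutes' := fun c => rfl }
  refine Module.Finite.of_surjective g.toLinearMap fun z => ?_
  obtain ⟨x, rfl⟩ := residue_surjective z
  obtain ⟨a, rfl⟩ := Ideal.Quotient.mk_surjective x
  exact ⟨residue A a, rfl⟩

set_option maxHeartbeats 1200000 in
/-- Bound on the generators in characteristic zero. -/
theorem finrank_fibre_le_of_charZero [CharZero k] (P : Ideal A) [P.IsPrime]
    [IsRegularLocalRing (Localization.AtPrime P)] {h s : ℕ} (hh : ringKrullDim (Localization.AtPrime P) = h)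
    (hs : ringKrullDim (A ⧸ P) = s) : Module.finrank P.ResidueField (P.ResidueField ⊗[A] Om) ≤ h + s := by
  classical
  obtain ⟨g, hgP, hg⟩ := exists_generators_at P hh
  haveI : IsLocalRing (A ⧸ P) := .of_surjective' (Ideal.Quotient.mk P) Ideal.Quotient.mk_surjective
  haveI := CplKaehler4.isAdicComplete_quot P
  haveI := finite_residueField_quot (k := k) P
  obtain ⟨r, x, hx, hr, hrad⟩ := CohenLib.exists_fin_sop (A ⧸ P)
  have hrs : r = s := by exact_mod_cast hr.symm.trans hs
  subst hrs
  obtain ⟨ψ, hψ, hfin, hloc⟩ := CplKaehler4.exists_algHom_finite k x hx hrad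
  letI : Algebra (MvPowerSeries (Fin r) k) (A ⧸ P) := ψ.toRingHom.toAlgebra
  haveI : IsScalarTower k (MvPowerSeries (Fin r) k) (A ⧸ P) :=
    IsScalarTower.of_algebraMap_eq fun c => (ψ.commutes c).symm
  haveI : Module.Finite (MvPowerSeries (Fin r) k) (A ⧸ P) := hfin
  haveI : IsRegularLocalRing (MvPowerSeries (Fin r) k) := PSLib.isRegularLocalRing (K := k) (n := r)
  haveI : IsDomain (MvPowerSeries (Fin r) k) := NoZeroDivisors.to_isDomain _
  haveI : IsIntegrallyClosed (MvPowerSeries (Fin r) k) := RegLoc6.isIntegrallyClosed_of_isRegularLocalRing _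
  haveI : CharZero (MvPowerSeries (Fin r) k) :=
    charZero_of_injective_ringHom (algebraMap k (MvPowerSeries (Fin r) k)).injective
  haveI : Module.IsTorsionFree (MvPowerSeries (Fin r) k) (A ⧸ P) := by
    haveI : FaithfulSMul (MvPowerSeries (Fin r) k) (A ⧸ P) := (faithfulSMul_iff_algebraMap_injective _ _).2
      (CohenLib.injective_of_finite ψ.toRingHom hfin hr (PSLib.ringKrullDim_eq k r).le)
    infer_instance
  choose t ht using fun j => Ideal.Quotient.mk_surjective (x j)
  let κ := P.ResidueField
  let v : Fin h ⊕ Fin r → Om := fun i => AdicCompletion.of (maximalIdeal A) (Ω[A⁄k])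
    (KaehlerDifferential.D k A (Sum.elim g t i))
  let W : Submodule κ (κ ⊗[A] Om) := Submodule.span κ (Set.range fun i => (1 : κ) ⊗ₜ[A] v i)
  haveI := CplKaehler4.finite_completion k A
  suffices hW : W = ⊤ by
    have h1 := finrank_range_le_card (R := κ) fun i => (1 : κ) ⊗ₜ[A] v i
    rw [Set.finrank, show Submodule.span κ (Set.range fun i => (1 : κ) ⊗ₜ[A] v i) = ⊤ from hW, finrank_top] at h1
    simpa using h1
  let Φ : Om →ₗ[A] (κ ⊗[A] Om) ⧸ W := (W.mkQ.restrictScalars A).comp (TensorProduct.mk A κ Om 1)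
  let N : Submodule A ((κ ⊗[A] Om) ⧸ W) := LinearMap.range Φ
  let E₀ : Derivation k A ((κ ⊗[A] Om) ⧸ W) :=
    (Φ.comp (AdicCompletion.of (maximalIdeal A) (Ω[A⁄k]))).compDer (KaehlerDifferential.D k A)
  have hP0 : ∀ a ∈ P, ∀ z : (κ ⊗[A] Om) ⧸ W, a • z = 0 := fun a ha z => by
    rw [← algebraMap_smul κ a z, Ideal.algebraMap_residueField_eq_zero.2 ha, zero_smul]
  have hv : ∀ i, E₀ (Sum.elim g t i) = 0 := fun i => (Submodule.Quotient.mk_eq_zero W).2 (Submodule.subset_span ⟨i, rfl⟩)
  have hEP : ∀ a ∈ P, E₀ a = 0 := by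
    intro a ha
    obtain ⟨c, hc, hca⟩ := hg a ha
    obtain ⟨b, hb⟩ := Ideal.mem_span_range_iff_exists_fun.1 hca
    have h1 : c • E₀ a = 0 := by
      have h2 := congrArg E₀ hb
      rw [map_sum, E₀.leibniz c a, hP0 a ha, add_zero] at h2
      rw [← h2]
      refine Finset.sum_eq_zero fun i _ => ?_
      rw [Derivation.leibniz, hP0 _ (hgP i), show E₀ (g i) = 0 from hv (Sum.inl i), smul_zero, add_zero]
    rwa [← algebraMap_smul κ c, smul_eq_zero_iff_right] at h1
    rwa [Ne, Ideal.algebraMap_residueField_eq_zero]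
  have hNP : Module.IsTorsionBySet A N (P : Set A) := fun z a => Subtype.ext (hP0 _ a.2 z.1)
  letI : Module (A ⧸ P) N := hNP.module
  haveI : IsScalarTower A (A ⧸ P) N := hNP.isScalarTower
  haveI : IsScalarTower k (A ⧸ P) N := hNP.isScalarTower
  haveI : Module.Finite A N := Module.Finite.range Φ
  haveI : Module.Finite (A ⧸ P) N := Module.Finite.of_restrictScalars_finite A (A ⧸ P) N
  let EB : A ⧸ P →ₗ[k] N :=
    Submodule.liftQ (P.restrictScalars k) (E₀.toLinearMap.codRestrict (N.restrictScalars k) fun a => ⟨_, rfl⟩)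
      fun a ha => Subtype.ext (hEP a ha)
  have hEB : ∀ a, (EB (Ideal.Quotient.mk P a) : (κ ⊗[A] Om) ⧸ W) = E₀ a := fun a => rfl
  let D : Derivation k (A ⧸ P) N := Derivation.mk' EB fun a b => by
    obtain ⟨a, rfl⟩ := Ideal.Quotient.mk_surjective a
    obtain ⟨b, rfl⟩ := Ideal.Quotient.mk_surjective b
    refine Subtype.ext ?_
    rw [← map_mul, hEB, Derivation.leibniz]
    rfl
  have hDP : ∀ f : MvPowerSeries (Fin r) k, D (algebraMap (MvPowerSeries (Fin r) k) (A ⧸ P) f) = 0 := fun f => by
    rw [CplKaehler4.derivation_algebraMap D f]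
    refine Finset.sum_eq_zero fun j _ => ?_
    rw [show D (algebraMap (MvPowerSeries (Fin r) k) (A ⧸ P) (MvPowerSeries.X j)) = 0 from by
      show EB (ψ (MvPowerSeries.X j)) = 0
      rw [hψ, ← ht j]
      exact Subtype.ext ((hEB (t j)).trans (hv (Sum.inr j))), smul_zero]
  letI : Module (MvPowerSeries (Fin r) k) N := Module.compHom N (algebraMap (MvPowerSeries (Fin r) k) (A ⧸ P))
  haveI : IsScalarTower (MvPowerSeries (Fin r) k) (A ⧸ P) N := IsScalarTower.of_algebraMap_smul fun _ _ => rfl
  let E : Derivation (MvPowerSeries (Fin r) k) (A ⧸ P) N := Derivation.mk'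
    { toFun := D
      map_add' := map_add D
      map_smul' := fun c b => by
        rw [RingHom.id_apply, Algebra.smul_def, Derivation.leibniz, hDP, smul_zero, add_zero, algebraMap_smul] }
    D.leibniz
  have hE0 : ∀ a, E₀ a = 0 := by
    intro a
    let b := Ideal.Quotient.mk P a
    have hint : IsIntegral (MvPowerSeries (Fin r) k) b :=
      (Algebra.IsIntegral.of_finite (MvPowerSeries (Fin r) k) (A ⧸ P)).isIntegral b
    let F := minpoly (MvPowerSeries (Fin r) k) b
    have hpos : F.natDegree ≠ 0 := (minpoly.natDegree_pos hint).ne'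
    have hder : F.derivative ≠ 0 := fun h0 => hpos (Polynomial.natDegree_eq_zero_of_derivative_eq_zero h0)
    have hne : Polynomial.aeval b F.derivative ≠ 0 := fun h0 =>
      absurd (Polynomial.natDegree_le_of_dvd (minpoly.isIntegrallyClosed_dvd hint h0) hder)
        (not_le.2 (Polynomial.natDegree_derivative_lt hpos))
    obtain ⟨c, hc⟩ := Ideal.Quotient.mk_surjective (Polynomial.aeval b F.derivative)
    have h1 : Polynomial.aeval b F.derivative • E b = 0 := by
      rw [← Derivation.map_aeval, minpoly.aeval, map_zero]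
    have h2 : c • E₀ a = 0 := by
      rw [← hc] at h1
      exact congrArg Subtype.val h1
    rwa [← algebraMap_smul κ c, smul_eq_zero_iff_right] at h2
    rw [Ne, Ideal.algebraMap_residueField_eq_zero]
    intro hcP
    exact hne (hc ▸ Ideal.Quotient.eq_zero_iff_mem.2 hcP)
  refine eq_top_iff.2 fun z hz0 => ?_
  clear hz0
  induction z using TensorProduct.induction_on with
  | zero => exact zero_mem _
  | add a b ha hb => exact add_mem ha hb
  | tmul c w =>
    rw [← mul_one c, ← smul_eq_mul, ← TensorProduct.smul_tmul']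
    refine W.smul_mem _ ((Submodule.Quotient.mk_eq_zero W).1 ?_)
    show Φ w = 0
    refine LinearMap.congr_fun (LinearMap.ext_on_range (CplKaehler4.span_d k A) (f := Φ) (g := 0) fun a => ?_) w
    exact hE0 a

/-- The localization at a prime has the same fibre of differentials. -/
theorem finrank_fibre_eq_local (P : Ideal A) [P.IsPrime] [Module.Finite A (Ω[A⁄k])] :
    Module.finrank P.ResidueField (P.ResidueField ⊗[A] Om) =
      Module.finrank P.ResidueField (P.ResidueField ⊗[Localization.AtPrime P] Ω[Localization.AtPrime P⁄k]) := by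
  haveI := AdicLib.isAdicComplete_of_finite (maximalIdeal A) (Ω[A⁄k])
  let R := Localization.AtPrime P
  let e₀ : Ω[A⁄k] ≃ₗ[A] Om := LinearEquiv.ofBijective (AdicCompletion.of (maximalIdeal A) (Ω[A⁄k]))
    (AdicCompletion.of_bijective (maximalIdeal A) (Ω[A⁄k]))
  haveI : Algebra.FormallyEtale A R := .of_isLocalization P.primeCompl
  let e₁ := KaehlerDifferential.tensorKaehlerEquivOfFormallyEtale k A R
  let e : P.ResidueField ⊗[A] Om ≃ₗ[P.ResidueField] P.ResidueField ⊗[R] Ω[R⁄k] :=
    (AlgebraTensorModule.congr (LinearEquiv.refl P.ResidueField P.ResidueField) e₀.symm) ≪≫ₗ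
      (AlgebraTensorModule.cancelBaseChange A R P.ResidueField P.ResidueField (Ω[A⁄k])).symm ≪≫ₗ
      AlgebraTensorModule.congr (LinearEquiv.refl P.ResidueField P.ResidueField) e₁
  exact e.finrank_eq

/-- Generators at a prime whose local ring is a domain, as many as the dimension, form a basis. -/
theorem free_of_genAt (P : Ideal A) [P.IsPrime] [IsDomain (Localization.AtPrime P)] (q : Ideal A)
    (hq : q ∈ minimalPrimes A) (hqP : q ≤ P) (n : ℕ) (hn : ringKrullDim (A ⧸ q) = n) (v' : Fin n → Om)
    (hv' : CplKaehler4.GenAt P v') :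
    Module.Free (Localization.AtPrime P) (LocalizedModule P.primeCompl Om) ∧
      Module.finrank (Localization.AtPrime P) (LocalizedModule P.primeCompl Om) = n := by
  classical
  let R := Localization.AtPrime P
  haveI := hq.1.1
  have hz := exists_smul_eq_zero_of_mem_minimalPrimes P q hq hqP
  let w : Fin n → LocalizedModule P.primeCompl Om := fun i => LocalizedModule.mkLinearMap P.primeCompl Om (v' i)
  have hli : LinearIndependent R w := by
    refine Fintype.linearIndependent_iff.2 fun c hc i => ?_
    by_contra hci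
    obtain ⟨t, ht⟩ := IsLocalization.exist_integer_multiples_of_finite P.primeCompl c
    choose a ha using ht
    have h1 : LocalizedModule.mkLinearMap P.primeCompl Om (∑ j, a j • v' j) = 0 := by
      rw [map_sum]
      simp only [map_smul, ← algebraMap_smul R (a _), ha, smul_assoc]
      rw [← Finset.smul_sum]
      exact (congrArg ((t : A) • ·) hc).trans (smul_zero _)
    obtain ⟨u, hu⟩ := (IsLocalizedModule.eq_zero_iff P.primeCompl _).1 h1
    have hai : a i ∉ q := fun h2 => hci (by
      obtain ⟨d, hd, hd0⟩ := hz _ h2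
      have h3 : algebraMap A R (a i) = 0 := (IsLocalization.map_eq_zero_iff P.primeCompl R _).2 ⟨⟨d, hd⟩, hd0⟩
      rw [ha, Algebra.smul_def] at h3
      exact (IsLocalization.map_units R t).mul_right_eq_zero.1 h3)
    have huq : (u : A) ∉ q := fun h2 => u.2 (hqP h2)
    obtain ⟨m, rfl⟩ : ∃ m, n = m + 1 := ⟨n - 1, by have := i.2; omega⟩
    let S := Submodule.span A (Set.range fun j => v' (i.succAbove j))
    have hi : ((u : A) * a i) • v' i ∈ S := by
      rw [Submonoid.smul_def, Finset.smul_sum, Fin.sum_univ_succAbove _ i, add_eq_zero_iff_eq_neg] at hu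
      rw [mul_smul, hu]
      refine neg_mem (sum_mem fun j _ => S.smul_mem _ (S.smul_mem _ (Submodule.subset_span ⟨j, rfl⟩)))
    have hgen : CplKaehler4.GenAt q (fun j => v' (i.succAbove j)) := by
      intro y
      obtain ⟨d, hd, hy⟩ := hv' y
      refine ⟨(u : A) * a i * d, fun h2 => ?_, ?_⟩
      · rcases Ideal.IsPrime.mem_or_mem ‹_› h2 with h3 | h3
        · rcases Ideal.IsPrime.mem_or_mem ‹_› h3 with h4 | h4
          · exact huq h4
          · exact hai h4
        · exact hd (hqP h3)
      · obtain ⟨e, he⟩ := (Submodule.mem_span_range_iff_exists_fun A).1 hy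
        rw [mul_smul, ← he, Finset.smul_sum]
        refine sum_mem fun j _ => ?_
        rw [smul_comm]
        refine S.smul_mem _ ?_
        rcases Fin.eq_self_or_eq_succAbove i j with rfl | ⟨j, rfl⟩
        · exact hi
        · exact S.smul_mem _ (Submodule.subset_span ⟨j, rfl⟩)
    have h2 := CplKaehler4.dim_quot_le_of_genAt k A q q le_rfl _ hgen
    rw [hn] at h2
    have : m + 1 ≤ m := by exact_mod_cast h2
    omega
  let bas := Module.Basis.mk hli ((CplKaehler4.genAt_iff_localized P v').1 hv').ge
  exact ⟨Module.Free.of_basis bas, by rw [Module.finrank_eq_card_basis bas, Fintype.card_fin]⟩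

theorem free_of_geometricallyRegular (p : ℕ) [ExpChar k p] (hk : (frobenius k p).Finite) (P : Ideal A) [P.IsPrime]
    (hP : CAlg.IsGeometricallyRegular k (Localization.AtPrime P)) (q : Ideal A) (hq : q ∈ minimalPrimes A)
    (hqP : q ≤ P) (n : ℕ) (hn : ringKrullDim (A ⧸ q) = n) :
    Module.Free (Localization.AtPrime P) (LocalizedModule P.primeCompl Om) ∧
      Module.finrank (Localization.AtPrime P) (LocalizedModule P.primeCompl Om) = n := by
  classical
  let R := Localization.AtPrime P
  haveI : IsNoetherianRing R := IsLocalization.isNoetherianRing P.primeCompl _ inferInstance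
  haveI := FlatLoc6.isRegularRing_of_geometricallyRegular hP
  haveI : IsRegularLocalRing R := IsRegularLocalRing.of_isRegularRing_of_isLocalRing R
  haveI : IsDomain R := RegLoc6.isDomain_of_isRegularLocalRing R
  haveI := hq.1.1
  have hz := exists_smul_eq_zero_of_mem_minimalPrimes P q hq hqP
  obtain ⟨h, hh⟩ : ∃ h : ℕ, ringKrullDim R = h := ⟨_, ((isRegularLocalRing_iff R).1 inferInstance).symm⟩
  obtain ⟨s, hs⟩ := LC.exists_dim_quot (I := P) Ideal.IsPrime.ne_top'
  have hdim : n = h + s := by
    have h1 := LC.dim_quot_eq_add_height q P hqP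
    rw [hn, ← height_le_height_map_quotient P q hz hqP,
      ← IsLocalization.AtPrime.ringKrullDim_eq_height P R, hh, hs, add_comm] at h1
    exact_mod_cast h1
  haveI := CplKaehler4.finite_completion k A
  have hr : Module.finrank P.ResidueField (P.ResidueField ⊗[A] Om) ≤ n := by
    rcases CharP.exists' k with h0 | ⟨ℓ, hℓ, hℓk⟩
    · exact hdim ▸ finrank_fibre_le_of_charZero P hh hs
    · haveI := hℓ
      haveI : ExpChar k ℓ := ExpChar.prime hℓ.out
      obtain rfl : p = ℓ := ExpChar.eq ‹_› ‹_›
      haveI : IsLocalRing (A ⧸ P) := .of_surjective' (Ideal.Quotient.mk P) Ideal.Quotient.mk_surjective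
      haveI := CplKaehler4.isAdicComplete_quot P
      haveI := finite_residueField_quot (k := k) P
      obtain ⟨hU, -, hC⟩ := kaehler_fractionField k (A ⧸ P) P.ResidueField s hs
      obtain ⟨hC1, -⟩ := hC p hk
      haveI : Module.Finite A (Ω[A⁄k]) := by
        obtain ⟨r, x, hx, -, hrad⟩ := CohenLib.exists_fin_sop A
        obtain ⟨ψ, -, hfin, -⟩ := CplKaehler4.exists_algHom_finite k x hx hrad
        letI : Algebra (MvPowerSeries (Fin r) k) A := ψ.toRingHom.toAlgebra
        haveI : IsScalarTower k (MvPowerSeries (Fin r) k) A := IsScalarTower.of_algebraMap_eq fun c => (ψ.commutes c).symm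
        haveI : Module.Finite (MvPowerSeries (Fin r) k) A := hfin
        exact finite_kaehler_of_finite_powerSeries (n := r) p hk A
      haveI : Algebra.FormallyEtale A R := .of_isLocalization P.primeCompl
      haveI : Module.Finite R (Ω[R⁄k]) :=
        Module.Finite.equiv (KaehlerDifferential.tensorKaehlerEquivOfFormallyEtale k A R)
      haveI : Module.Finite (ResidueField R) (Ω[ResidueField R⁄k]) := by
        haveI : Module.Finite (ResidueField R) ((ResidueField R) ⊗[R] Ω[R⁄k]) := inferInstance
        exact Module.Finite.of_surjective (KaehlerDifferential.mapBaseChange k R (ResidueField R))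
          (KaehlerDifferential.mapBaseChange_surjective k R (ResidueField R) residue_surjective)
      haveI : Module.Finite (ResidueField R) (EGA41.imperfection ℤ k (ResidueField R)) := hU
      obtain ⟨-, hf⟩ := finrank_residue_kaehler_add_imperfection (RegFS6.fs_iff_geometricallyRegular.2 hP)
      rw [hh] at hf
      rw [finrank_fibre_eq_local P]
      change ((Module.finrank P.ResidueField (P.ResidueField ⊗[Localization.AtPrime P] Ω[Localization.AtPrime P⁄k]) +
        Module.finrank P.ResidueField (EGA41.imperfection ℤ k P.ResidueField) : ℕ) : WithBot ℕ∞) =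
          (h : WithBot ℕ∞) + ((Module.finrank P.ResidueField (Ω[P.ResidueField⁄k]) : ℕ) : WithBot ℕ∞) at hf
      rw [hC1, ← Nat.cast_add] at hf
      have := Nat.cast_inj.1 hf
      omega
  obtain ⟨v, hv⟩ := CplKaehler4.exists_genAt P (M := Om)
  have hge : n ≤ Module.finrank P.ResidueField (P.ResidueField ⊗[A] Om) := by
    have h1 := CplKaehler4.dim_quot_le_of_genAt k A P q hqP v hv
    rw [hn] at h1
    exact_mod_cast h1
  obtain ⟨v', hv'⟩ : ∃ v' : Fin n → Om, CplKaehler4.GenAt P v' := by
    rw [le_antisymm hge hr]; exact ⟨v, hv⟩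
  exact free_of_genAt P q hq hqP n hn v' hv'

end Groth.Agent.Ega41H93
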