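import Groth.Agent.Ega41H93.KerReduction
import Groth.Agent.Ega41H93.KaehlerGeomReg
import Groth.Agent.S0564
import Groth.Agent.S0565
import Groth.Agent.RegFS6.Perfect

/-!
# Completed differentials and regularity of completed base changes
-/

set_option linter.style.haveILetI false

namespace Groth.Agent.Ega41H93

open IsLocalRing TensorProduct

universe u

/-- A regular local algebra over a perfect field is geometrically regular. -/
theorem isGeometricallyRegular_of_perfect (k A : Type u) [Field k] [PerfectField k] [CommRing A]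
    [IsRegularLocalRing A] [Algebra k A] : CAlg.IsGeometricallyRegular k A :=
  RegFS6.geometricallyRegular_of_fs (RegFS6.fs_of_regular k A)

/-- Elements killed outside a prime extend to elements killed outside any prime over it. -/
theorem exists_killed_of_mem_map {A C : Type u} [CommRing A] [CommRing C] (f : A →+* C) (p : Ideal A)
    (Q : Ideal C) [Q.IsPrime] (hQ : Q.comap f = p) (J : Ideal A) (hJ : ∀ a ∈ J, ∃ c ∉ p, c * a = 0) :
    ∀ x ∈ J.map f, ∃ c ∉ Q, c * x = 0 := by
  intro x hx
  refine Submodule.span_induction (p := fun x _ => ∃ c ∉ Q, c * x = 0) ?_ ?_ ?_ ?_ hx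
  · rintro _ ⟨a, ha, rfl⟩
    obtain ⟨c, hc, h0⟩ := hJ a ha
    exact ⟨f c, fun h => hc (hQ ▸ h), by rw [← map_mul, h0, map_zero]⟩
  · exact ⟨1, fun h => Ideal.IsPrime.ne_top' (Q.eq_top_iff_one.2 h), mul_zero _⟩
  · rintro y z - - ⟨c, hc, hy⟩ ⟨d, hd, hz⟩
    exact ⟨c * d, fun h => (Ideal.IsPrime.mem_or_mem ‹_› h).elim hc hd, by
      rw [mul_add, mul_assoc c d z, hz, mul_comm c d, mul_assoc, hy, mul_zero, mul_zero, add_zero]⟩
  · rintro r y - ⟨c, hc, hy⟩
    exact ⟨c, hc, by rw [smul_eq_mul, mul_left_comm, hy, mul_zero]⟩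

section Reduction

variable (k A : Type u) [Field k] [CommRing A] [IsLocalRing A] [IsNoetherianRing A] [Algebra k A]
  [IsAdicComplete (maximalIdeal A) A] [Module.Finite k (ResidueField A)] (p : Ideal A) [p.IsPrime]
  (hp : p ≠ maximalIdeal A) (n : ℕ) (hn₁ : ∀ q ∈ minimalPrimes A, q ≤ p → ringKrullDim (A ⧸ q) ≤ n)
  (hn₂ : ∃ q ∈ minimalPrimes A, q ≤ p ∧ ringKrullDim (A ⧸ q) = n)
  (hgen : ∃ s : Fin n → LocalizedModule p.primeCompl (AdicCompletion (maximalIdeal A) (Ω[A⁄k])),
    Submodule.span (Localization.AtPrime p) (Set.range s) = ⊤)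

include hp hn₁ hn₂ hgen in
/-- Modulo the kernel of localization, the point is étale over a power series ring. -/
theorem exists_etale_reduction : ∃ (J : Ideal A) (_ : (p.map (Ideal.Quotient.mk J)).IsPrime)
    (_ : IsLocalRing (A ⧸ J)) (_ : Algebra (MvPowerSeries (Fin n) k) (A ⧸ J))
    (_ : IsScalarTower k (MvPowerSeries (Fin n) k) (A ⧸ J)) (_ : Module.Finite (MvPowerSeries (Fin n) k) (A ⧸ J))
    (_ : IsLocalHom (algebraMap (MvPowerSeries (Fin n) k) (A ⧸ J))),
    J ≤ p ∧ (∀ a ∈ J, ∃ c ∉ p, c * a = 0) ∧
      Algebra.IsEtaleAt (MvPowerSeries (Fin n) k) (p.map (Ideal.Quotient.mk J)) := by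
  classical
  obtain ⟨J, hJp, hz, hdim, q, hq, hqp, hdimq⟩ := exists_reduction p n hn₁ hn₂
  let B := A ⧸ J
  let π : A →+* B := Ideal.Quotient.mk J
  have hπ : Function.Surjective π := Ideal.Quotient.mk_surjective
  haveI hprime : (p.map π).IsPrime := Ideal.map_isPrime_of_surjective hπ (by rwa [Ideal.mk_ker])
  have hcomap : (p.map π).comap π = p := by
    rw [Ideal.comap_map_of_surjective _ hπ, ← RingHom.ker_eq_comap_bot, Ideal.mk_ker, sup_eq_left.2 hJp]
  haveI : Nontrivial B := Ideal.Quotient.nontrivial_iff.2 fun h => Ideal.IsPrime.ne_top' (top_le_iff.1 (h ▸ hJp))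
  haveI : IsLocalRing B := .of_surjective' π hπ
  haveI := CplKaehler4.isAdicComplete_quot J
  haveI : IsLocalHom π := .of_surjective _ hπ
  haveI : Module.Finite k (ResidueField B) := by
    let g : ResidueField A →ₐ[k] ResidueField B := { ResidueField.map π with commutes' := fun c => rfl }
    refine Module.Finite.of_surjective g.toLinearMap fun z => ?_
    obtain ⟨x, rfl⟩ := residue_surjective z
    obtain ⟨a, rfl⟩ := hπ x
    exact ⟨residue A a, rfl⟩
  have hpB : p.map π ≠ maximalIdeal B := fun h => hp (by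
    rw [← hcomap, h, maximalIdeal_comap])
  let OmB := AdicCompletion (maximalIdeal B) (Ω[B⁄k])
  haveI : Module.Finite B OmB := CplKaehler4.finite_completion k B
  haveI : IsScalarTower A B OmB := inferInstance
  haveI : IsScalarTower k A OmB := inferInstance
  haveI : Module.Finite A OmB := Module.Finite.trans B OmB
  let D : Derivation k A OmB := Derivation.mk'
    { toFun := fun a => AdicCompletion.of _ _ (KaehlerDifferential.D k B (π a))
      map_add' := fun a b => by simp
      map_smul' := fun c a => by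
        show AdicCompletion.of _ _ (KaehlerDifferential.D k B (c • π a)) = _
        rw [Derivation.map_smul, LinearMap.map_smul_of_tower]
        rfl }
    fun a b => by
      show AdicCompletion.of _ _ (KaehlerDifferential.D k B (π (a * b))) = _
      rw [map_mul, Derivation.leibniz, map_add, map_smul, map_smul]
      rfl
  obtain ⟨φ, hφ⟩ := CplKaehler4.exists_lift k A D
  have hφs : Function.Surjective φ := by
    intro y
    have hy : y ∈ Submodule.span B (Set.range fun b : B =>
        AdicCompletion.of (maximalIdeal B) (Ω[B⁄k]) (KaehlerDifferential.D k B b)) := CplKaehler4.span_d k B ▸ trivial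
    show y ∈ LinearMap.range φ
    induction hy using Submodule.span_induction with
    | mem z hz =>
      obtain ⟨b, rfl⟩ := hz
      obtain ⟨a, rfl⟩ := hπ b
      exact ⟨_, hφ a⟩
    | zero => exact zero_mem _
    | add y z _ _ hy hz => exact add_mem hy hz
    | smul b y _ hy =>
      obtain ⟨a, rfl⟩ := hπ b
      exact (LinearMap.range φ).smul_mem a hy
  obtain ⟨s, hs⟩ := CplKaehler4.exists_genAt_of_localized p hgen
  have hsB : CplKaehler4.GenAt (p.map π) (fun i => φ (s i)) := by
    intro y
    obtain ⟨x, rfl⟩ := hφs y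
    obtain ⟨c, hc, hx⟩ := hs x
    refine ⟨π c, fun h => hc (hcomap ▸ h), ?_⟩
    show c • φ x ∈ _
    rw [← map_smul]
    obtain ⟨a, ha⟩ := (Submodule.mem_span_range_iff_exists_fun A).1 hx
    rw [← ha, map_sum]
    refine sum_mem fun i _ => ?_
    rw [map_smul]
    exact Submodule.smul_mem _ (π (a i)) (Submodule.subset_span ⟨i, rfl⟩)
  obtain ⟨i1, i2, i3, i4, i5⟩ := exists_finite_unramifiedAt k B (p.map π) hpB
    ⟨q, hq, hqp, hdimq.trans hdim.symm⟩ n ⟨_, (CplKaehler4.genAt_iff_localized _ _).1 hsB⟩
  exact ⟨J, hprime, inferInstance, i1, i2, i4, i3, hJp, hz, etaleAt_of_unramifiedAt k B n (p.map π) ⟨q, hq, hqp, hdimq⟩⟩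

include hp hn₁ hn₂ hgen in
/-- Generators as many as the dimension give geometric regularity. -/
theorem geometricallyRegular_of_generators : CAlg.IsGeometricallyRegular k (Localization.AtPrime p) := by
  obtain ⟨J, _, _, _, _, _, _, hJp, hz, het⟩ := exists_etale_reduction k A p hp n hn₁ hn₂ hgen
  haveI := het
  let B := A ⧸ J
  let pB := p.map (Ideal.Quotient.mk J)
  have h1 := geometricallyRegular_of_etaleAt k B n pB
  obtain ⟨i, hi, hloc⟩ := isLocalization_atPrime_quot (Ideal.Quotient.mk J) Ideal.Quotient.mk_surjective p pB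
    (by rw [Ideal.comap_map_of_surjective _ Ideal.Quotient.mk_surjective, ← RingHom.ker_eq_comap_bot, Ideal.mk_ker,
      sup_eq_left.2 hJp])
    (by rw [Ideal.mk_ker]; exact hz)
  haveI : IsScalarTower k B (Localization.AtPrime p) := IsScalarTower.of_algebraMap_eq fun c => by
    show _ = algebraMap B (Localization.AtPrime p) (Ideal.Quotient.mk J (algebraMap k A c))
    rw [hi, ← IsScalarTower.algebraMap_apply]
  let e : Localization.AtPrime pB ≃ₐ[k] Localization.AtPrime p :=
    (IsLocalization.algEquiv pB.primeCompl (Localization.AtPrime pB) (Localization.AtPrime p)).restrictScalars k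
  intro k' _ _ hf
  haveI := h1 k' hf
  exact IsRegularRing.of_ringEquiv
    (Algebra.TensorProduct.congr (AlgEquiv.refl (A₁ := k') (R := k)) e).toRingEquiv

variable (k' : Type u) [Field k'] [Algebra k k']

include hp hn₁ hn₂ hgen in
/-- Generators as many as the dimension give regularity of every completed base change. -/
theorem regular_ctensor_of_generators
    (p' : Ideal (AdicCompletion ((maximalIdeal A).map (Algebra.TensorProduct.includeLeft : A →ₐ[k] A ⊗[k] k'))
      (A ⊗[k] k'))) [p'.IsPrime]
    (hp' : (p'.comap (algebraMap (A ⊗[k] k') _)).comap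
      (Algebra.TensorProduct.includeLeft : A →ₐ[k] A ⊗[k] k').toRingHom = p) :
    IsRegularLocalRing (Localization.AtPrime p') := by
  classical
  obtain ⟨J, _, _, _, _, _, _, hJp, hz, het⟩ := exists_etale_reduction k A p hp n hn₁ hn₂ hgen
  haveI := het
  obtain ⟨N, _, _, hfin, hloc⟩ := exists_powerSeries_algebra k A
  haveI := hfin; haveI := hloc
  let S := AdicCompletion ((maximalIdeal A).map (Algebra.TensorProduct.includeLeft : A →ₐ[k] A ⊗[k] k')) (A ⊗[k] k')
  let B := A ⧸ J
  let C := A ⊗[MvPowerSeries (Fin N) k] MvPowerSeries (Fin N) k'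
  let E := B ⊗[MvPowerSeries (Fin n) k] MvPowerSeries (Fin n) k'
  obtain ⟨e⟩ : Nonempty (C ≃ₐ[A] S) := exists_ctensor_algEquiv k k' N A
  haveI : IsLocalHom (Ideal.Quotient.mk J) := .of_surjective _ Ideal.Quotient.mk_surjective
  haveI : IsLocalHom (algebraMap (MvPowerSeries (Fin N) k) B) :=
    RingHom.isLocalHom_comp (Ideal.Quotient.mk J) (algebraMap (MvPowerSeries (Fin N) k) A)
  obtain ⟨eB⟩ := exists_ctensor_algEquiv k k' N B
  obtain ⟨fB⟩ := exists_ctensor_algEquiv k k' n B
  let g : B ⊗[MvPowerSeries (Fin N) k] MvPowerSeries (Fin N) k' ≃ₐ[B] E := eB.trans fB.symm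
  let π : C →ₐ[MvPowerSeries (Fin N) k] B ⊗[MvPowerSeries (Fin N) k] MvPowerSeries (Fin N) k' :=
    Algebra.TensorProduct.map (IsScalarTower.toAlgHom (MvPowerSeries (Fin N) k) A B)
      (AlgHom.id (MvPowerSeries (Fin N) k) (MvPowerSeries (Fin N) k'))
  let Q : Ideal C := p'.comap e.toRingEquiv.toRingHom
  have hQ : Q.comap (algebraMap A C) = p := by
    rw [← hp', Ideal.comap_comap, Ideal.comap_comap]
    exact congrArg (p'.comap ·) (RingHom.ext fun a => (e.commutes a).trans
      (IsScalarTower.algebraMap_apply A (A ⊗[k] k') S a))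
  let F : C →+* E := g.toRingEquiv.toRingHom.comp π.toRingHom
  have hπ : Function.Surjective π :=
    Algebra.TensorProduct.map_surjective _ _ Ideal.Quotient.mk_surjective Function.surjective_id
  have hF : Function.Surjective F := g.surjective.comp hπ
  have hker : ∀ x ∈ RingHom.ker F, ∃ c ∉ Q, c * x = 0 := by
    intro x hx
    have h0 : x ∈ RingHom.ker π := g.injective (hx.trans (map_zero g).symm)
    rw [Algebra.TensorProduct.map_ker _ _ Ideal.Quotient.mk_surjective Function.surjective_id] at h0
    refine exists_killed_of_mem_map (algebraMap A C) p Q hQ J hz x ?_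
    refine (sup_le ?_ ?_ : _ ≤ J.map (algebraMap A C)) h0
    · refine le_of_eq ?_
      rw [show RingHom.ker (IsScalarTower.toAlgHom (MvPowerSeries (Fin N) k) A B) = J from Ideal.mk_ker]
      rfl
    · exact Ideal.map_le_iff_le_comap.2 fun y hy => by
        rw [Ideal.mem_comap, show y = 0 from hy, map_zero]; exact zero_mem _
  have hkQ : RingHom.ker F ≤ Q := fun x hx => by
    obtain ⟨c, hc, h0⟩ := hker x hx
    exact (Ideal.IsPrime.mem_or_mem (inferInstance : Q.IsPrime) (h0 ▸ Q.zero_mem : c * x ∈ Q)).resolve_left hc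
  haveI : (Q.map F).IsPrime := Ideal.map_isPrime_of_surjective hF hkQ
  have hQF : (Q.map F).comap F = Q := by
    rw [Ideal.comap_map_of_surjective _ hF, ← RingHom.ker_eq_comap_bot, sup_eq_left.2 hkQ]
  have hFA : F.comp (algebraMap A C) = (algebraMap B E).comp (Ideal.Quotient.mk J) := RingHom.ext fun a => by
    show g (π (algebraMap A C a)) = algebraMap B E (Ideal.Quotient.mk J a)
    rw [← g.commutes (Ideal.Quotient.mk J a)]
    rfl
  have hpB : (Q.map F).comap (algebraMap B E) = p.map (Ideal.Quotient.mk J) := by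
    rw [← Ideal.map_comap_of_surjective _ Ideal.Quotient.mk_surjective ((Q.map F).comap (algebraMap B E))]
    refine congrArg (Ideal.map (Ideal.Quotient.mk J)) ?_
    rw [Ideal.comap_comap, ← hFA, ← Ideal.comap_comap, hQF, hQ]
  haveI := regular_psTensor_of_etaleAt k k' n B (p.map (Ideal.Quotient.mk J)) (Q.map F) hpB
  haveI := regular_of_quot F hF Q (Q.map F) hQF hker
  refine regular_of_quot e.toRingEquiv.symm.toRingHom e.symm.surjective p' Q ?_ fun x hx =>
    ⟨1, fun h => Ideal.IsPrime.ne_top' (p'.eq_top_iff_one.2 h), by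
      rw [one_mul]; exact e.symm.injective (hx.trans (map_zero _).symm)⟩
  ext x
  show e (e.symm x) ∈ p' ↔ x ∈ p'
  rw [e.apply_symm_apply]

end Reduction

section Descent

variable (k k' : Type u) [Field k] [Field k'] [Algebra k k'] (r : ℕ) (A : Type u) [CommRing A] [Algebra k A]
  [Algebra (MvPowerSeries (Fin r) k) A] [IsScalarTower k (MvPowerSeries (Fin r) k) A]

theorem pderiv_map (i : Fin r) (g : MvPowerSeries (Fin r) k) :
    MvPowerSeries.pderiv k' i (MvPowerSeries.map (algebraMap k k') g) =
      MvPowerSeries.map (algebraMap k k') (MvPowerSeries.pderiv k i g) := by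
  ext m
  rw [MvPowerSeries.coeff_pderiv, MvPowerSeries.coeff_map, MvPowerSeries.coeff_map, MvPowerSeries.coeff_pderiv,
    map_mul, map_add, map_natCast, map_one]

variable (W : Type u) [AddCommGroup W] [Module A W] [Module k W]

omit [IsScalarTower k (MvPowerSeries (Fin r) k) A] in
/-- A derivation extends to the completed tensor product, killing the new scalars. -/
theorem exists_tensor_derivation (d : Derivation k A W)
    (hd : ∀ g : MvPowerSeries (Fin r) k, d (algebraMap (MvPowerSeries (Fin r) k) A g) =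
      ∑ i, algebraMap (MvPowerSeries (Fin r) k) A (MvPowerSeries.pderiv k i g) •
        d (algebraMap (MvPowerSeries (Fin r) k) A (MvPowerSeries.X i)))
    (S : Type u) [CommRing S] [Algebra A S] [Algebra k' S] [SMulCommClass A k' S]
    (Φ : (A ⊗[MvPowerSeries (Fin r) k] MvPowerSeries (Fin r) k') ≃ₐ[A] S)
    (hΦ : ∀ c : k', algebraMap k' S c = Φ (1 ⊗ₜ MvPowerSeries.C c)) :
    ∃ D : Derivation k' S (S ⊗[A] W), ∀ a, D (algebraMap A S a) = 1 ⊗ₜ d a := by
  classical
  let P := MvPowerSeries (Fin r) k
  let P' := MvPowerSeries (Fin r) k'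
  let V := S ⊗[A] W
  let j : W →ₗ[A] V := TensorProduct.mk A S W 1
  let ι : A →+* S := algebraMap A S
  let ρ : P' →+* S :=
    Φ.toRingEquiv.toRingHom.comp (Algebra.TensorProduct.includeRight : P' →ₐ[P] A ⊗[P] P').toRingHom
  have hιρ : ∀ g : P, ρ (algebraMap P P' g) = ι (algebraMap P A g) := fun g => by
    show Φ ((1 : A) ⊗ₜ[P] algebraMap P P' g) = algebraMap A S (algebraMap P A g)
    rw [← Φ.commutes, Algebra.TensorProduct.algebraMap_apply]
    refine congrArg Φ ?_
    rw [Algebra.algebraMap_self, RingHom.id_apply, Algebra.algebraMap_eq_smul_one, Algebra.algebraMap_eq_smul_one,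
      ← TensorProduct.smul_tmul]
  have hprod : ∀ (a : A) (f : P'), Φ (a ⊗ₜ f) = ι a * ρ f := fun a f => by
    show Φ (a ⊗ₜ f) = algebraMap A S a * Φ (1 ⊗ₜ f)
    rw [← Φ.commutes, ← map_mul, Algebra.TensorProduct.algebraMap_apply, Algebra.algebraMap_self, RingHom.id_apply,
      Algebra.TensorProduct.tmul_mul_tmul, mul_one, one_mul]
  let T : Fin r → W := fun i => d (algebraMap P A (MvPowerSeries.X i))
  let E : P' → V := fun f => ∑ i, ρ (MvPowerSeries.pderiv k' i f) • j (T i)
  have hj : ∀ (a : A) (w : W), j (a • w) = ι a • j w := fun a w => by rw [map_smul, algebraMap_smul]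
  have hE0 : ∀ g : P, E (algebraMap P P' g) = j (d (algebraMap P A g)) := fun g => by
    rw [hd, map_sum]
    refine Finset.sum_congr rfl fun i _ => ?_
    rw [hj, ← hιρ, MvPowerSeries.algebraMap_apply'', MvPowerSeries.algebraMap_apply'', pderiv_map]
  have hEadd : ∀ f g, E (f + g) = E f + E g := fun f g => by
    simp only [E, map_add, add_smul, Finset.sum_add_distrib]
  have hEmul : ∀ f g, E (f * g) = ρ f • E g + ρ g • E f := fun f g => by
    simp only [E, Derivation.leibniz, smul_eq_mul, map_add, map_mul, add_smul, mul_smul, Finset.sum_add_distrib,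
      Finset.smul_sum]
  let F₀ : A → P' → V := fun a f => ρ f • j (d a) + ι a • E f
  let F : A →+ P' →+ V := AddMonoidHom.mk' (fun a => AddMonoidHom.mk' (F₀ a) fun f g => by
      simp only [F₀, map_add, hEadd, smul_add, add_smul]; abel)
    fun a b => AddMonoidHom.ext fun f => by
      show F₀ (a + b) f = F₀ a f + F₀ b f
      simp only [F₀, map_add, smul_add, add_smul]; abel
  have hbal : ∀ (g : P) (a : A) (f : P'), F (g • a) f = F a (g • f) := fun g a f => by
    show F₀ (g • a) f = F₀ a (g • f)
    simp only [F₀, Algebra.smul_def, Derivation.leibniz, hEmul, hE0, map_mul, map_add, hj, ← hιρ]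
    module
  let G : A ⊗[P] P' →+ V := TensorProduct.liftAddHom F hbal
  have hG : ∀ a f, G (a ⊗ₜ f) = F₀ a f := fun _ _ => rfl
  have hleib : ∀ x y, G (x * y) = Φ x • G y + Φ y • G x := by
    intro x y
    induction x using TensorProduct.induction_on with
    | zero => simp
    | add x x' hx hx' => rw [add_mul, map_add, map_add, map_add, hx, hx', add_smul, smul_add]; abel
    | tmul a f =>
      induction y using TensorProduct.induction_on with
      | zero => simp
      | add y y' hy hy' => rw [mul_add, map_add, map_add, map_add, hy, hy', add_smul, smul_add]; abel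
      | tmul b g =>
        rw [Algebra.TensorProduct.tmul_mul_tmul, hG, hG, hG, hprod, hprod]
        simp only [F₀, Derivation.leibniz, hEmul, map_mul, map_add, hj]
        module
  have hC : ∀ c : k', G (1 ⊗ₜ MvPowerSeries.C c) = 0 := fun c => by
    rw [hG]
    simp [F₀, E]
  have hD : ∀ s t : S, G (Φ.symm (s * t)) = s • G (Φ.symm t) + t • G (Φ.symm s) := fun s t => by
    rw [map_mul, hleib, AlgEquiv.apply_symm_apply, AlgEquiv.apply_symm_apply]
  have hk : ∀ c : k', G (Φ.symm (algebraMap k' S c)) = 0 := fun c => by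
    rw [hΦ, AlgEquiv.symm_apply_apply, hC]
  refine ⟨Derivation.mk'
    { toFun := fun s => G (Φ.symm s)
      map_add' := fun s t => by simp
      map_smul' := fun c s => by
        show G (Φ.symm (c • s)) = c • G (Φ.symm s)
        rw [Algebra.smul_def, hD, hk, smul_zero, add_zero, algebraMap_smul] } hD, fun a => ?_⟩
  show G (Φ.symm (algebraMap A S a)) = j (d a)
  rw [AlgEquiv.commutes, Algebra.TensorProduct.algebraMap_apply, hG]
  simp [F₀, E]

end Descent

/-- The residue field at a maximal ideal is finite when the quotient is. -/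
theorem finite_residueField_localization (K S : Type u) [Field K] [CommRing S] [Algebra K S] (M : Ideal S) [M.IsMaximal]
    (h : Module.Finite K (S ⧸ M)) : Module.Finite K (ResidueField (Localization.AtPrime M)) := by
  let e := IsLocalization.AtPrime.equivQuotMaximalIdeal M (Localization.AtPrime M)
  let g : (S ⧸ M) →ₐ[K] ResidueField (Localization.AtPrime M) :=
    { e.toRingHom with
      commutes' := fun c => by
        show e (Ideal.Quotient.mk M (algebraMap K S c)) = _
        rw [IsLocalization.AtPrime.equivQuotMaximalIdeal_apply_mk, ← IsScalarTower.algebraMap_apply]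
        rfl }
  exact Module.Finite.of_surjective g.toLinearMap e.surjective

/-- A local map with zero-dimensional closed fibre does not raise the dimension of a prime quotient. -/
theorem dim_quot_le_of_comap {A L : Type u} [CommRing A] [CommRing L] [IsLocalRing A] [IsNoetherianRing A]
    [IsLocalRing L] [IsNoetherianRing L] [Algebra A L] [IsLocalHom (algebraMap A L)]
    (hzero : ∀ Q : Ideal L, Q.IsPrime → (maximalIdeal A).map (algebraMap A L) ≤ Q → Q = maximalIdeal L)
    (q : Ideal A) [q.IsPrime] (q' : Ideal L) [q'.IsPrime] (hq : q ≤ q'.comap (algebraMap A L))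
    (d : ℕ) (hd : ringKrullDim (A ⧸ q) = d) : ringKrullDim (L ⧸ q') ≤ d := by
  classical
  haveI : IsLocalRing (A ⧸ q) := .of_surjective' (Ideal.Quotient.mk q) Ideal.Quotient.mk_surjective
  obtain ⟨r, x, hx, hr, hrad⟩ := CohenLib.exists_fin_sop (A ⧸ q)
  have hrd : r = d := by exact_mod_cast hr.symm.trans hd
  subst hrd
  choose t ht using fun j => Ideal.Quotient.mk_surjective (x j)
  haveI : IsLocalRing (L ⧸ q') := .of_surjective' (Ideal.Quotient.mk q') Ideal.Quotient.mk_surjective
  haveI : IsLocalHom (Ideal.Quotient.mk q) := .of_surjective _ Ideal.Quotient.mk_surjective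
  let z : Fin r → L ⧸ q' := fun j => Ideal.Quotient.mk q' (algebraMap A L (t j))
  have hmA : algebraMap A L '' (maximalIdeal A : Set A) ⊆ maximalIdeal L := by
    rintro _ ⟨a, ha, rfl⟩
    exact (mem_maximalIdeal _).2 fun h => (mem_maximalIdeal _).1 ha (isUnit_of_map_unit (algebraMap A L) a h)
  have hmin : maximalIdeal (L ⧸ q') ∈ (Ideal.span (Set.range z)).minimalPrimes := by
    refine ⟨⟨inferInstance, Ideal.span_le.2 ?_⟩, fun Q ⟨hQ, hle⟩ _ => ?_⟩
    · rintro _ ⟨j, rfl⟩
      rw [SetLike.mem_coe, ← IsLocalRing.map_maximalIdeal_of_surjective (Ideal.Quotient.mk q') Ideal.Quotient.mk_surjective]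
      refine Ideal.mem_map_of_mem _ (hmA ⟨t j, ?_, rfl⟩)
      exact (mem_maximalIdeal _).2 fun h => (mem_maximalIdeal _).1 (ht j ▸ hx j) (h.map _)
    · haveI := hQ
      let R := (Q.comap (Ideal.Quotient.mk q')).comap (algebraMap A L)
      haveI : R.IsPrime := (hQ.comap _).comap _
      have hR : maximalIdeal A ≤ R := by
        intro b hb
        have h2 : Ideal.Quotient.mk q b ∈ (Ideal.span (Set.range x)).radical :=
          hrad ((mem_maximalIdeal _).2 fun h4 => (mem_maximalIdeal _).1 hb (isUnit_of_map_unit (Ideal.Quotient.mk q) b h4))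
        obtain ⟨m, hm⟩ := h2
        rw [← map_pow, show Set.range x = Ideal.Quotient.mk q '' Set.range t by
          rw [← Set.range_comp]; exact congrArg Set.range (funext fun j => (ht j).symm), ← Ideal.map_span,
          Ideal.mem_quotient_iff_mem_sup] at hm
        refine (inferInstance : R.IsPrime).mem_of_pow_mem m ((sup_le ?_ ?_ : _ ≤ R) hm)
        · rw [Ideal.span_le]
          rintro _ ⟨j, rfl⟩
          exact hle (Ideal.subset_span ⟨j, rfl⟩)
        · intro a ha
          show Ideal.Quotient.mk q' (algebraMap A L a) ∈ Q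
          rw [show Ideal.Quotient.mk q' (algebraMap A L a) = 0 from Ideal.Quotient.eq_zero_iff_mem.2 (hq ha)]
          exact Q.zero_mem
      rw [← IsLocalRing.map_maximalIdeal_of_surjective (Ideal.Quotient.mk q') Ideal.Quotient.mk_surjective,
        ← hzero (Q.comap (Ideal.Quotient.mk q')) (hQ.comap _) (Ideal.map_le_iff_le_comap.2 hR)]
      exact Ideal.map_comap_le
  have h1 := Ideal.height_le_card_of_mem_minimalPrimes_span (Set.finite_range z) hmin
  rw [← IsLocalRing.maximalIdeal_height_eq_ringKrullDim]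
  have h2 : (Set.range z).ncard ≤ r := by
    rw [← Set.image_univ]
    exact (Set.ncard_image_le (Set.finite_univ)).trans (by simp [Set.ncard_univ])
  exact_mod_cast h1.trans (Nat.cast_le.2 h2)

section Converse

variable (k A : Type u) [Field k] [CommRing A] [IsLocalRing A] [IsNoetherianRing A] [Algebra k A]
  [IsAdicComplete (maximalIdeal A) A] [Module.Finite k (ResidueField A)] (p : Ideal A) [p.IsPrime]
  (k' : Type u) [Field k'] [Algebra k k']

/-- A prime of the completed base change lies over every prime. -/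
theorem exists_prime_over :
    ∃ (p' : Ideal (AdicCompletion ((maximalIdeal A).map (Algebra.TensorProduct.includeLeft : A →ₐ[k] A ⊗[k] k'))
      (A ⊗[k] k'))) (_ : p'.IsPrime), (p'.comap (algebraMap (A ⊗[k] k') _)).comap
        (Algebra.TensorProduct.includeLeft : A →ₐ[k] A ⊗[k] k').toRingHom = p := by
  let I := (maximalIdeal A).map (Algebra.TensorProduct.includeLeft : A →ₐ[k] A ⊗[k] k')
  let S := AdicCompletion I (A ⊗[k] k')
  obtain ⟨-, -, -, hM⟩ := ctensor_props k A k' I rfl
  have hI : I ≠ ⊤ := by
    intro h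
    have h1 : ((maximalIdeal A).map (algebraMap A (A ⊗[k] k'))).comap (algebraMap A (A ⊗[k] k')) = maximalIdeal A :=
      Ideal.comap_map_eq_self_of_faithfullyFlat _
    rw [show (maximalIdeal A).map (algebraMap A (A ⊗[k] k')) = ⊤ from h, Ideal.comap_top] at h1
    exact (maximalIdeal.isMaximal A).ne_top h1.symm
  haveI : Nontrivial S := by
    haveI : Nontrivial ((A ⊗[k] k') ⧸ I ^ 1) := Ideal.Quotient.nontrivial_iff.2 (by rwa [pow_one])
    exact (AdicCompletion.evalₐ I 1).toRingHom.domain_nontrivial
  obtain ⟨M, hMmax⟩ := Ideal.exists_maximal S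
  obtain ⟨-, hff, -⟩ := hM ⟨M, hMmax⟩
  haveI : Module.FaithfullyFlat A (Localization.AtPrime M) := hff
  obtain ⟨P, hP⟩ := PrimeSpectrum.comap_surjective_of_faithfullyFlat (A := A) (B := Localization.AtPrime M) ⟨p, inferInstance⟩
  refine ⟨P.asIdeal.comap (algebraMap S (Localization.AtPrime M)), Ideal.IsPrime.comap _, ?_⟩
  rw [Ideal.comap_comap, Ideal.comap_comap]
  refine Eq.trans (congrArg (P.asIdeal.comap ·) ?_) (congrArg PrimeSpectrum.asIdeal hP)
  exact RingHom.ext fun a => ((IsScalarTower.algebraMap_apply A S (Localization.AtPrime M) a).trans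
    (congrArg (algebraMap S _) (IsScalarTower.algebraMap_apply A (A ⊗[k] k') S a))).symm

variable [PerfectField k']

set_option maxHeartbeats 1600000 in
/-- Regularity of one perfect base change forces free completed differentials. -/
theorem free_of_regular_ctensor
    (p' : Ideal (AdicCompletion ((maximalIdeal A).map (Algebra.TensorProduct.includeLeft : A →ₐ[k] A ⊗[k] k'))
      (A ⊗[k] k'))) [p'.IsPrime] [IsRegularLocalRing (Localization.AtPrime p')]
    (hp' : (p'.comap (algebraMap (A ⊗[k] k') _)).comap
      (Algebra.TensorProduct.includeLeft : A →ₐ[k] A ⊗[k] k').toRingHom = p)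
    (n : ℕ) (hn₁ : ∀ q ∈ minimalPrimes A, q ≤ p → ringKrullDim (A ⧸ q) ≤ n)
    (hn₂ : ∃ q ∈ minimalPrimes A, q ≤ p ∧ ringKrullDim (A ⧸ q) = n) :
    Module.Free (Localization.AtPrime p) (LocalizedModule p.primeCompl (AdicCompletion (maximalIdeal A) (Ω[A⁄k]))) ∧
      Module.finrank (Localization.AtPrime p)
        (LocalizedModule p.primeCompl (AdicCompletion (maximalIdeal A) (Ω[A⁄k]))) = n := by
  classical
  let I := (maximalIdeal A).map (Algebra.TensorProduct.includeLeft : A →ₐ[k] A ⊗[k] k')
  let S := AdicCompletion I (A ⊗[k] k')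
  let W := AdicCompletion (maximalIdeal A) (Ω[A⁄k])
  haveI : Module.Finite A W := CplKaehler4.finite_completion k A
  obtain ⟨hN, -, -, hM⟩ := ctensor_props k A k' I rfl
  haveI : IsNoetherianRing S := hN
  obtain ⟨M, hMmax, hp'M⟩ := Ideal.exists_le_maximal p' Ideal.IsPrime.ne_top'
  obtain ⟨hcpl, hff, hdimL, hres⟩ := hM ⟨M, hMmax⟩
  letI : Algebra k' S := ((algebraMap (A ⊗[k] k') S).comp
    (Algebra.TensorProduct.includeRight : k' →ₐ[k] A ⊗[k] k').toRingHom).toAlgebra
  let L := Localization.AtPrime M
  haveI : IsNoetherianRing L := IsLocalization.isNoetherianRing M.primeCompl L inferInstance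
  haveI : IsAdicComplete (maximalIdeal L) L := hcpl
  haveI : Module.FaithfullyFlat A L := hff
  haveI : Module.Finite k' (ResidueField L) := finite_residueField_localization k' S M hres
  haveI : SMulCommClass A k' S := ⟨fun a c x => by
    simp only [Algebra.smul_def]; exact mul_left_comm _ _ _⟩
  haveI : SMulCommClass A k' L := ⟨fun a c x => by
    simp only [Algebra.smul_def]; exact mul_left_comm _ _ _⟩
  obtain ⟨r, hPA, htow, hfin, hloc⟩ := exists_powerSeries_algebra k A
  haveI := hfin; haveI := hloc
  obtain ⟨Φ₀, hΦ₀⟩ := exists_ctensor_equiv k k' r A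
  let Φ : (A ⊗[MvPowerSeries (Fin r) k] MvPowerSeries (Fin r) k') ≃ₐ[A] S := AlgEquiv.ofRingEquiv (f := Φ₀) fun a => by
    rw [show algebraMap A (A ⊗[MvPowerSeries (Fin r) k] MvPowerSeries (Fin r) k') a =
        toPSTensor k k' r A (algebraMap A (A ⊗[k] k') a) by
      rw [Algebra.TensorProduct.algebraMap_apply, Algebra.TensorProduct.algebraMap_apply, toPSTensor_tmul, map_one],
      hΦ₀, ← IsScalarTower.algebraMap_apply]
  let d : Derivation k A W :=
    (AdicCompletion.of (maximalIdeal A) (Ω[A⁄k])).compDer (KaehlerDifferential.D k A)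
  obtain ⟨D, hD⟩ := exists_tensor_derivation k k' r A W d (CplKaehler4.derivation_algebraMap d) S Φ fun c => by
    show algebraMap (A ⊗[k] k') S ((1 : A) ⊗ₜ c) = Φ₀ _
    rw [← toPSTensor_tmul k k' r A, hΦ₀]
  let V := L ⊗[A] W
  let j : S ⊗[A] W →ₗ[S] V :=
    AlgebraTensorModule.map (IsScalarTower.toAlgHom S S L).toLinearMap LinearMap.id
  let DS : Derivation k' S V := j.compDer D
  have hDS : ∀ a, DS (algebraMap A S a) = 1 ⊗ₜ d a := fun a => by
    show j (D (algebraMap A S a)) = _
    rw [hD]
    show (algebraMap S L 1) ⊗ₜ[A] d a = _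
    rw [map_one]
  let e := KaehlerDifferential.tensorKaehlerEquivOfFormallyEtale k' S L
  let DL : Derivation k' L V :=
    ((LinearMap.liftBaseChange L DS.liftKaehlerDifferential).comp e.symm.toLinearMap).compDer
      (KaehlerDifferential.D k' L)
  have hDL : ∀ a, DL (algebraMap A L a) = 1 ⊗ₜ d a := fun a => by
    show LinearMap.liftBaseChange L _ (e.symm (KaehlerDifferential.D k' L (algebraMap A L a))) = _
    rw [IsScalarTower.algebraMap_apply A S L, KaehlerDifferential.tensorKaehlerEquivOfFormallyEtale_symm_D_algebraMap,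
      LinearMap.liftBaseChange_tmul, one_smul, Derivation.liftKaehlerDifferential_comp_D, hDS]
  obtain ⟨φ, hφ⟩ := CplKaehler4.exists_lift k' L DL
  have hφs : LinearMap.range φ = ⊤ := by
    refine eq_top_iff.2 fun z hz0 => ?_
    clear hz0
    induction z using TensorProduct.induction_on with
    | zero => exact zero_mem _
    | add a b ha hb => exact add_mem ha hb
    | tmul c w =>
      rw [← mul_one c, ← smul_eq_mul, ← TensorProduct.smul_tmul']
      refine (LinearMap.range φ).smul_mem c ?_
      have hw : w ∈ Submodule.span A (Set.range fun a : A =>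
          AdicCompletion.of (maximalIdeal A) (Ω[A⁄k]) (KaehlerDifferential.D k A a)) := CplKaehler4.span_d k A ▸ trivial
      induction hw using Submodule.span_induction with
      | mem y hy => obtain ⟨a, rfl⟩ := hy; exact ⟨_, (hφ _).trans (hDL a)⟩
      | zero => rw [TensorProduct.tmul_zero]; exact zero_mem _
      | add y z _ _ hy hz => rw [TensorProduct.tmul_add]; exact add_mem hy hz
      | smul a y _ hy =>
        rw [TensorProduct.tmul_smul, ← algebraMap_smul L a]
        exact (LinearMap.range φ).smul_mem _ hy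
  let p'' : Ideal L := p'.map (algebraMap S L)
  have hdisj : Disjoint (M.primeCompl : Set S) (p' : Set S) := Set.disjoint_left.2 fun a ha ha' => ha (hp'M ha')
  haveI : p''.IsPrime := IsLocalization.isPrime_of_isPrime_disjoint M.primeCompl L p' inferInstance hdisj
  have hc1 : p''.comap (algebraMap S L) = p' :=
    IsLocalization.under_map_of_isPrime_disjoint M.primeCompl L inferInstance hdisj
  have hc : p''.comap (algebraMap A L) = p := by
    rw [IsScalarTower.algebraMap_eq A S L, ← Ideal.comap_comap, hc1, IsScalarTower.algebraMap_eq A (A ⊗[k] k') S,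
      ← Ideal.comap_comap]
    exact hp'
  haveI : IsRegularLocalRing (Localization.AtPrime p'') := by
    have h1 : ∀ (q' : Ideal S) [q'.IsPrime], q' = p' → IsRegularLocalRing (Localization.AtPrime q') := by
      rintro q' _ rfl; infer_instance
    haveI := h1 (p''.comap (algebraMap S L)) hc1
    exact IsRegularLocalRing.of_ringEquiv
      (IsLocalization.localizationLocalizationAtPrimeIsoLocalization M.primeCompl p'').toRingEquiv
  obtain ⟨ℓ, _⟩ := ExpChar.exists k'
  have hk : (frobenius k' ℓ).Finite := RingHom.Finite.of_surjective _ (bijective_frobenius k' ℓ).surjective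
  obtain ⟨q', hq', hq'p⟩ := Ideal.exists_minimalPrimes_le (I := (⊥ : Ideal L)) (J := p'') bot_le
  haveI := hq'.1.1
  obtain ⟨n', hn'⟩ := LC.exists_dim_quot (I := q') Ideal.IsPrime.ne_top'
  obtain ⟨hfree', hrank'⟩ := free_of_geometricallyRegular (k := k') (A := L) ℓ hk p''
    (isGeometricallyRegular_of_perfect k' _) q' hq' hq'p n' hn'
  haveI := hfree'
  haveI : Module.Finite L (AdicCompletion (maximalIdeal L) (Ω[L⁄k'])) := CplKaehler4.finite_completion k' L
  haveI : Module.Finite (Localization.AtPrime p'') (LocalizedModule p''.primeCompl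
      (AdicCompletion (maximalIdeal L) (Ω[L⁄k']))) := inferInstance
  obtain ⟨v, hv⟩ := CplKaehler4.exists_genAt_of_localized p''
    ⟨fun i => (Module.finBasisOfFinrankEq _ _ hrank') i, (Module.finBasisOfFinrankEq _ _ hrank').span_eq⟩
  have hv' : CplKaehler4.GenAt p'' (fun i => φ (v i)) := by
    intro y
    obtain ⟨x, rfl⟩ : y ∈ LinearMap.range φ := hφs ▸ trivial
    obtain ⟨c, hc', hx⟩ := hv x
    refine ⟨c, hc', ?_⟩
    rw [← map_smul]
    obtain ⟨a, ha⟩ := (Submodule.mem_span_range_iff_exists_fun L).1 hx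
    rw [← ha, map_sum]
    exact sum_mem fun i _ => by rw [map_smul]; exact Submodule.smul_mem _ _ (Submodule.subset_span ⟨i, rfl⟩)
  let κ := p.ResidueField
  let κ' := p''.ResidueField
  letI : Algebra κ κ' := (Ideal.ResidueField.map p p'' (algebraMap A L) hc.symm).toAlgebra
  haveI : IsScalarTower A κ κ' := IsScalarTower.of_algebraMap_eq fun a => by
    rw [IsScalarTower.algebraMap_apply A L κ']
    exact (Ideal.ResidueField.map_algebraMap p p'' (algebraMap A L) hc.symm a).symm
  have hfib : Module.finrank κ (κ ⊗[A] W) ≤ n' := by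
    have h1 := CplKaehler4.finrank_fibre_le p'' hv'
    rw [(AlgebraTensorModule.cancelBaseChange A L κ' κ' W).finrank_eq,
      ← (AlgebraTensorModule.cancelBaseChange A κ κ' κ' W).finrank_eq, Module.finrank_baseChange] at h1
    exact h1
  have hzero : ∀ Q : Ideal L, Q.IsPrime → (maximalIdeal A).map (algebraMap A L) ≤ Q → Q = maximalIdeal L := by
    haveI : (maximalIdeal L).LiesOver (maximalIdeal A) := ⟨(maximalIdeal_comap (algebraMap A L)).symm⟩
    intro Q hQ hle
    have h1 := Ideal.height_eq_height_add_of_liesOver_of_hasGoingDown (maximalIdeal A) (maximalIdeal L)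
    have h2 : (maximalIdeal L).height = (maximalIdeal A).height := by
      have h3 := hdimL
      rw [← IsLocalRing.maximalIdeal_height_eq_ringKrullDim, ← IsLocalRing.maximalIdeal_height_eq_ringKrullDim] at h3
      exact_mod_cast h3
    rw [h2] at h1
    have hmL : (maximalIdeal A).map (algebraMap A L) ≤ maximalIdeal L :=
      Ideal.map_le_iff_le_comap.2 (maximalIdeal_comap (algebraMap A L)).ge
    haveI : ((maximalIdeal L).map (Ideal.Quotient.mk ((maximalIdeal A).map (algebraMap A L)))).IsPrime :=
      Ideal.map_isPrime_of_surjective Ideal.Quotient.mk_surjective (by rwa [Ideal.mk_ker])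
    have h4 : ((maximalIdeal L).map (Ideal.Quotient.mk ((maximalIdeal A).map (algebraMap A L)))).height = 0 := by
      have hfin : (maximalIdeal A).height ≠ ⊤ := Ideal.height_ne_top Ideal.IsPrime.ne_top'
      exact (ENat.add_right_injective_of_ne_top hfin ((add_zero _).trans h1)).symm
    have h5 := (Ideal.height_eq_zero_iff (I := (maximalIdeal L).map (Ideal.Quotient.mk
      ((maximalIdeal A).map (algebraMap A L))))).1 h4
    haveI : (Q.map (Ideal.Quotient.mk ((maximalIdeal A).map (algebraMap A L)))).IsPrime :=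
      Ideal.map_isPrime_of_surjective Ideal.Quotient.mk_surjective (by rwa [Ideal.mk_ker])
    have h6 := congrArg (Ideal.comap (Ideal.Quotient.mk ((maximalIdeal A).map (algebraMap A L))))
      (le_antisymm (h5.2 ⟨inferInstance, bot_le⟩ (Ideal.map_mono (IsLocalRing.le_maximalIdeal hQ.ne_top)))
        (Ideal.map_mono (IsLocalRing.le_maximalIdeal hQ.ne_top)))
    rw [Ideal.comap_map_of_surjective _ Ideal.Quotient.mk_surjective, Ideal.comap_map_of_surjective _
      Ideal.Quotient.mk_surjective, ← RingHom.ker_eq_comap_bot, Ideal.mk_ker, sup_eq_left.2 hle, sup_eq_left.2 hmL] at h6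
    exact h6.symm
  let q := q'.comap (algebraMap A L)
  have hq : q ∈ minimalPrimes A := by
    haveI : q.IsPrime := Ideal.IsPrime.comap _
    obtain ⟨q₀, hq₀, hq₀q⟩ := Ideal.exists_minimalPrimes_le (I := (⊥ : Ideal A)) (J := q) bot_le
    haveI := hq₀.1.1
    haveI : q'.LiesOver q := ⟨rfl⟩
    obtain ⟨P, hP, hPp, hPo⟩ := Ideal.exists_ideal_le_liesOver_of_le (p := q₀) (q := q) q' hq₀q
    have : P = q' := le_antisymm hP (hq'.2 ⟨hPp, bot_le⟩ hP)
    subst this
    rwa [show q = q₀ from hPo.over.symm]
  haveI := hq.1.1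
  have hqp : q ≤ p := (Ideal.comap_mono hq'p).trans_eq hc
  have hn'n : n' ≤ n := by
    obtain ⟨d₀, hd₀⟩ := LC.exists_dim_quot (I := q) Ideal.IsPrime.ne_top'
    have h1 := (dim_quot_le_of_comap hzero q q' le_rfl d₀ hd₀).trans (hd₀ ▸ hn₁ q hq hqp)
    rw [hn'] at h1
    exact_mod_cast h1
  obtain ⟨q₀, hq₀, hq₀p, hdim₀⟩ := hn₂
  haveI := hq₀.1.1
  obtain ⟨w, hw⟩ := CplKaehler4.exists_genAt p (M := W)
  have hge := CplKaehler4.dim_quot_le_of_genAt k A p q₀ hq₀p w hw
  rw [hdim₀, Nat.cast_le] at hge
  obtain ⟨w', hw'⟩ : ∃ w' : Fin n → W, CplKaehler4.GenAt p w' := by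
    rw [show n = Module.finrank κ (κ ⊗[A] W) from le_antisymm hge (hfib.trans hn'n)]; exact ⟨w, hw⟩
  haveI : IsRegularLocalRing (Localization.AtPrime p) := by
    letI : Algebra (Localization.AtPrime p) (Localization.AtPrime p'') :=
      (Localization.localRingHom p p'' (algebraMap A L) hc.symm).toAlgebra
    haveI : IsScalarTower A (Localization.AtPrime p) (Localization.AtPrime p'') :=
      IsScalarTower.of_algebraMap_eq fun a => by
        rw [IsScalarTower.algebraMap_apply A L (Localization.AtPrime p'')]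
        exact (Localization.localRingHom_to_map p p'' (algebraMap A L) hc.symm a).symm
    haveI : IsLocalHom (algebraMap (Localization.AtPrime p) (Localization.AtPrime p'')) :=
      Localization.isLocalHom_localRingHom p p'' (algebraMap A L) hc.symm
    haveI : Module.Flat A (Localization.AtPrime p'') := Module.Flat.trans A L _
    haveI : Module.Flat (Localization.AtPrime p) (Localization.AtPrime p'') :=
      (Module.flat_iff_of_isLocalization (Localization.AtPrime p) p.primeCompl _).2 inferInstance
    haveI : IsNoetherianRing (Localization.AtPrime p) := IsLocalization.isNoetherianRing p.primeCompl _ inferInstance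
    exact S0565.result (Localization.AtPrime p) (Localization.AtPrime p'')
  haveI : IsDomain (Localization.AtPrime p) := RegLoc6.isDomain_of_isRegularLocalRing _
  exact free_of_genAt p q₀ hq₀ hq₀p n hdim₀ w' hw'

end Converse

end Groth.Agent.Ega41H93
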