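import Groth.Agent.LC.DepthExt
import Groth.Agent.LC.ExtDim
import Groth.Agent.Alg6.LocLoc
import Mathlib.RingTheory.Regular.Flat
import Mathlib.Algebra.Module.LocalizedModule.Submodule
import Mathlib.RingTheory.KrullDimension.Regular

/-!
# Depth and dimension of localized quotients by sequences
-/

universe u

open RingTheory.Sequence IsLocalRing

namespace Groth.Agent.Ega41H93

variable {A : Type u} [CommRing A] (q : Ideal A) [q.IsPrime] {M : Type u} [AddCommGroup M] [Module A M]

theorem localized'_smul_top (C : Type u) [CommRing C] [Algebra A C] [IsLocalization.AtPrime C q]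
    {N : Type u} [AddCommGroup N] [Module A N] [Module C N] [IsScalarTower A C N]
    (f : M →ₗ[A] N) [IsLocalizedModule q.primeCompl f] (J : Ideal A) :
    (J • (⊤ : Submodule A M)).localized' C q.primeCompl f =
      J.map (algebraMap A C) • (⊤ : Submodule C N) := by
  rw [Submodule.localized'_smul, Submodule.localized'_top, Submodule.localized'_eq_span]
  rfl

/-- The local depth and dimension of `M ⧸ J M` are those of the quotient of the localization. -/
theorem depth_supportDim_localized_quot (J : Ideal A) :
    LocCoh.depth (Localization.AtPrime q)
        (LocalizedModule q.primeCompl (M ⧸ (J • (⊤ : Submodule A M)))) =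
      LocCoh.depth (Localization.AtPrime q) (LocalizedModule q.primeCompl M ⧸
        (J.map (algebraMap A (Localization.AtPrime q)) •
          (⊤ : Submodule (Localization.AtPrime q) (LocalizedModule q.primeCompl M)))) ∧
    Module.supportDim (Localization.AtPrime q)
        (LocalizedModule q.primeCompl (M ⧸ (J • (⊤ : Submodule A M)))) =
      Module.supportDim (Localization.AtPrime q) (LocalizedModule q.primeCompl M ⧸
        (J.map (algebraMap A (Localization.AtPrime q)) •
          (⊤ : Submodule (Localization.AtPrime q) (LocalizedModule q.primeCompl M)))) := by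
  rw [← localized'_smul_top q (Localization.AtPrime q) (LocalizedModule.mkLinearMap q.primeCompl M) J]
  exact ⟨(Alg6.depth_localized_eq q (Localization.AtPrime q)
      ((J • (⊤ : Submodule A M)).toLocalizedQuotient' (Localization.AtPrime q) q.primeCompl
        (LocalizedModule.mkLinearMap q.primeCompl M))).symm,
    (Alg6.supportDim_localized_eq q (Localization.AtPrime q)
      ((J • (⊤ : Submodule A M)).toLocalizedQuotient' (Localization.AtPrime q) q.primeCompl
        (LocalizedModule.mkLinearMap q.primeCompl M))).symm⟩

/-- A regular sequence inside a prime cuts depth and dimension at that prime by its length. -/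
theorem depth_supportDim_add_length [IsNoetherianRing A] [Module.Finite A M] (rs : List A)
    (hrs : IsWeaklyRegular M rs) (hmem : ∀ r ∈ rs, r ∈ q) [Nontrivial (LocalizedModule q.primeCompl M)] :
    LocCoh.depth (Localization.AtPrime q)
        (LocalizedModule q.primeCompl (M ⧸ (Ideal.ofList rs • (⊤ : Submodule A M)))) + rs.length =
      LocCoh.depth (Localization.AtPrime q) (LocalizedModule q.primeCompl M) ∧
    Module.supportDim (Localization.AtPrime q)
        (LocalizedModule q.primeCompl (M ⧸ (Ideal.ofList rs • (⊤ : Submodule A M)))) + rs.length =
      Module.supportDim (Localization.AtPrime q) (LocalizedModule q.primeCompl M) := by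
  haveI : Module.Finite (Localization.AtPrime q) (LocalizedModule q.primeCompl M) :=
    Module.Finite.of_isLocalizedModule q.primeCompl (LocalizedModule.mkLinearMap _ M)
  obtain ⟨h1, h2⟩ := depth_supportDim_localized_quot q (M := M) (Ideal.ofList rs)
  rw [Ideal.map_ofList] at h1 h2
  rw [h1, h2]
  have hreg := hrs.isRegular_of_isLocalizedModule_of_mem (Localization.AtPrime q) q
    (LocalizedModule.mkLinearMap q.primeCompl M) hmem
  refine ⟨?_, ?_⟩
  · have := LC.idealDepth_quot_ofList (maximalIdeal (Localization.AtPrime q)) hreg.toIsWeaklyRegular
      (fun r hr => by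
        obtain ⟨a, ha, rfl⟩ := List.mem_map.1 hr
        exact (IsLocalization.AtPrime.to_map_mem_maximal_iff _ q a).2 (hmem a ha))
    rwa [List.length_map] at this
  · have := Module.supportDim_add_length_eq_supportDim_of_isRegular _ hreg
    rwa [List.length_map] at this

end Groth.Agent.Ega41H93
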