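import Groth.Agent.Ega41H93.CplKaehlerGen
import Groth.Agent.CotTLib.CI
import Groth.Agent.FlatLoc6.Miracle
import Groth.Agent.RegLoc6.Normal
import Groth.Agent.RegFS6.NormalPS
import Groth.Agent.SmoothingLib.GeomRegDiff
import Groth.Agent.S9408
import Mathlib.RingTheory.Smooth.Fiber

/-!
# Algebras finite over power series and unramified at a prime of top coheight
-/

set_option linter.style.haveILetI false

namespace Groth.Agent.Ega41H93

open IsLocalRing TensorProduct

universe u

/-- The residual tensor product of an unramified local algebra is formally smooth. -/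
theorem formallySmooth_residue_tensor (R S : Type u) [CommRing R] [CommRing S] [IsLocalRing R] [IsLocalRing S]
    [Algebra R S] [IsLocalHom (algebraMap R S)] [Algebra.EssFiniteType R S] [Algebra.FormallyUnramified R S] :
    Algebra.FormallySmooth (ResidueField R) (ResidueField R ⊗[R] S) := by
  let ψ : ResidueField R ⊗[R] S →ₐ[ResidueField R] ResidueField S :=
    Algebra.TensorProduct.lift (Algebra.ofId _ _) (IsScalarTower.toAlgHom R S (ResidueField S)) fun _ _ => Commute.all _ _
  have hψ : ∀ s, ψ (1 ⊗ₜ s) = residue S s := fun s => by simp [ψ, ResidueField.algebraMap_eq]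
  have hone : ∀ x : ResidueField R ⊗[R] S, ∃ s, 1 ⊗ₜ[R] s = x :=
    TensorProduct.mk_surjective _ _ _ residue_surjective
  have hbij : Function.Bijective ψ := by
    refine ⟨(injective_iff_map_eq_zero ψ).2 fun x hx => ?_, fun y => ?_⟩
    · obtain ⟨s, rfl⟩ := hone x
      rw [hψ, residue_eq_zero_iff, ← Algebra.FormallyUnramified.map_maximalIdeal (R := R) (S := S)] at hx
      have : Ideal.map (algebraMap R S) (maximalIdeal R) ≤
          RingHom.ker (Algebra.TensorProduct.includeRight : S →ₐ[R] ResidueField R ⊗[R] S).toRingHom := by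
        refine Ideal.map_le_iff_le_comap.2 fun r hr => ?_
        show (1 : ResidueField R) ⊗ₜ[R] algebraMap R S r = 0
        rw [Algebra.algebraMap_eq_smul_one, TensorProduct.tmul_smul, TensorProduct.smul_tmul',
          Algebra.smul_def, mul_one, ResidueField.algebraMap_eq, (residue_eq_zero_iff r).2 hr, TensorProduct.zero_tmul]
      exact this hx
    · obtain ⟨s, rfl⟩ := residue_surjective y
      exact ⟨1 ⊗ₜ s, hψ s⟩
  haveI : Algebra.FormallyEtale (ResidueField R) (ResidueField S) :=
    Algebra.FormallyEtale.of_isSeparable (ResidueField R) (ResidueField S)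
  exact Algebra.FormallySmooth.of_equiv (AlgEquiv.ofBijective ψ hbij).symm

/-- Power series over a field are geometrically regular. -/
theorem isGeometricallyRegular_powerSeries (k : Type u) [Field k] (n : ℕ) :
    CAlg.IsGeometricallyRegular k (MvPowerSeries (Fin n) k) := by
  haveI : IsNoetherianRing (MvPowerSeries (Fin n) k) := by
    haveI := PSLib.isRegularLocalRing (K := k) (n := n)
    infer_instance
  have h := PopescuLib.geometricallyRegular_baseChange
    (CplFib6.isRegularHom_mvPowerSeries (RegFS6.isGRing_field k) n) k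
  intro k' _ _ hf
  haveI := h k' hf
  exact IsRegularRing.of_ringEquiv (R := k' ⊗[k] (k ⊗[k] MvPowerSeries (Fin n) k))
    (Algebra.TensorProduct.congr (AlgEquiv.refl (A₁ := k') (R := k)) (Algebra.TensorProduct.lid k (MvPowerSeries (Fin n) k))).toRingEquiv

variable (k A : Type u) [Field k] [CommRing A] [IsLocalRing A] [IsNoetherianRing A] [Algebra k A]
  (n : ℕ) [Algebra (MvPowerSeries (Fin n) k) A] [IsScalarTower k (MvPowerSeries (Fin n) k) A]
  [Module.Finite (MvPowerSeries (Fin n) k) A] (p : Ideal A) [p.IsPrime]
  [Algebra.IsUnramifiedAt (MvPowerSeries (Fin n) k) p]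

omit [IsLocalRing A] [IsScalarTower k (MvPowerSeries (Fin n) k) A] in
theorem etaleAt_of_unramifiedAt (hq : ∃ q ∈ minimalPrimes A, q ≤ p ∧ ringKrullDim (A ⧸ q) = n) :
    Algebra.IsEtaleAt (MvPowerSeries (Fin n) k) p := by
  classical
  let P := MvPowerSeries (Fin n) k
  haveI : IsRegularLocalRing P := PSLib.isRegularLocalRing (K := k) (n := n)
  haveI : IsDomain P := NoZeroDivisors.to_isDomain _
  haveI : IsIntegrallyClosed P := RegLoc6.isIntegrallyClosed_of_isRegularLocalRing P
  let p0 := p.under P
  haveI : p.LiesOver p0 := ⟨rfl⟩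
  let Rp := Localization.AtPrime p0
  let Sq := Localization.AtPrime p
  letI := Localization.AtPrime.algebraOfLiesOver p0 p
  haveI : IsLocalHom (algebraMap Rp Sq) := by
    rw [Localization.AtPrime.IsLiesOverAlgebra.algebraMap_eq (p := p0) (P := p)]
    infer_instance
  haveI : IsRegularLocalRing Rp := RegLoc6.isRegularLocalRing_localization P p0
  haveI : IsNoetherianRing Sq := IsLocalization.isNoetherianRing p.primeCompl _ inferInstance
  haveI : Algebra.FiniteType P A := Module.Finite.finiteType A
  haveI : Algebra.EssFiniteType Rp Sq := .of_comp P _ _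
  haveI : Algebra.FormallyUnramified Rp Sq := .of_restrictScalars P _ _
  -- the height inequality
  have hht : p0.height ≤ p.height := by
    obtain ⟨q, hq, hqp, hdim⟩ := hq
    haveI := hq.1.1
    let D := A ⧸ q
    haveI : Module.Finite P D := Module.Finite.of_surjective (IsScalarTower.toAlgHom P A D).toLinearMap
      Ideal.Quotient.mk_surjective
    have hfin : (algebraMap P D).Finite := RingHom.finite_algebraMap.2 inferInstance
    haveI : FaithfulSMul P D := (faithfulSMul_iff_algebraMap_injective _ _).2
      (CohenLib.injective_of_finite (algebraMap P D) hfin hdim (PSLib.ringKrullDim_eq k n).le)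
    haveI : Algebra.IsIntegral P D := Algebra.IsIntegral.of_finite _ _
    haveI : IsNoetherianRing D := inferInstance
    let pD : Ideal D := p.map (Ideal.Quotient.mk q)
    haveI : pD.IsPrime := Ideal.map_isPrime_of_surjective Ideal.Quotient.mk_surjective (by rwa [Ideal.mk_ker])
    have hc : pD.comap (Ideal.Quotient.mk q) = p := by
      rw [Ideal.comap_map_of_surjective _ Ideal.Quotient.mk_surjective, ← RingHom.ker_eq_comap_bot, Ideal.mk_ker,
        sup_eq_left.2 hqp]
    haveI : pD.LiesOver p0 := ⟨by
      show p.comap (algebraMap P A) = pD.comap ((Ideal.Quotient.mk q).comp (algebraMap P A))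
      rw [← Ideal.comap_comap, hc]⟩
    have h1 := Ideal.height_eq_height_add_of_liesOver_of_hasGoingDown p0 pD
    have h2 : pD.height ≤ p.height := by
      rw [PrimeSpectrum.height_eq_orderHeight ⟨pD, inferInstance⟩, PrimeSpectrum.height_eq_orderHeight ⟨p, inferInstance⟩]
      have h3 := Order.height_le_height_apply_of_strictMono (PrimeSpectrum.comap (Ideal.Quotient.mk q))
        (Monotone.strictMono_of_injective (fun a b h => Ideal.comap_mono h)
          (PrimeSpectrum.comap_injective_of_surjective _ Ideal.Quotient.mk_surjective)) ⟨pD, inferInstance⟩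
      rwa [show PrimeSpectrum.comap (Ideal.Quotient.mk q) ⟨pD, inferInstance⟩ = ⟨p, inferInstance⟩ from
        PrimeSpectrum.ext hc] at h3
    exact le_trans (h1 ▸ le_self_add) h2
  have hdim : ringKrullDim Rp ≤ ringKrullDim Sq := by
    rw [IsLocalization.AtPrime.ringKrullDim_eq_height p0 Rp, IsLocalization.AtPrime.ringKrullDim_eq_height p Sq]
    exact_mod_cast hht
  have hmap : (maximalIdeal Rp).map (algebraMap Rp Sq) = maximalIdeal Sq :=
    Algebra.FormallyUnramified.map_maximalIdeal
  have hspan : ((maximalIdeal Sq).spanFinrank : WithBot ℕ∞) ≤ ringKrullDim Rp := by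
    rw [← (isRegularLocalRing_iff Rp).1 inferInstance]
    have h1 := (maximalIdeal Rp).fg_of_isNoetherianRing
    have h2 : (maximalIdeal Sq).spanFinrank ≤ (maximalIdeal Rp).spanFinrank := by
      obtain ⟨s, hs, hs'⟩ := Submodule.FG.exists_span_set_encard_eq_spanFinrank h1
      have hf : s.Finite := Set.finite_of_encard_eq_coe hs
      rw [← hmap, ← hs', Ideal.map_span]
      refine (Submodule.spanFinrank_span_le_ncard_of_finite (hf.image _)).trans ((Set.ncard_image_le hf).trans ?_)
      rw [hs', Set.ncard_def, hs, ENat.toNat_coe]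
    exact_mod_cast h2
  haveI : IsRegularLocalRing Sq := IsRegularLocalRing.of_spanFinrank_maximalIdeal_le Sq (hspan.trans hdim)
  have heq : ringKrullDim Sq = ringKrullDim Rp :=
    le_antisymm (((isRegularLocalRing_iff Sq).1 inferInstance) ▸ hspan) hdim
  haveI : Module.Flat Rp Sq := by
    refine FlatLoc6.flat_of_isCM (B := Sq) (M := Sq) (CotTLib.isCM_of_isRegularLocalRing Sq) ?_
    rw [Module.supportDim_self_eq_ringKrullDim, heq,
      Module.supportDim_eq_of_equiv (Submodule.quotEquivOfEq (FlatLoc6.mN Rp Sq Sq) (maximalIdeal Sq)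
        (by rw [FlatLoc6.mN, hmap, Ideal.smul_eq_mul, Ideal.mul_top])),
      Module.supportDim_eq_ringKrullDim_quotient_annihilator, Ideal.annihilator_quotient]
    letI := Ideal.Quotient.field (maximalIdeal Sq)
    rw [ringKrullDim_eq_zero_of_field, add_zero]
  let Sp := Localization (Algebra.algebraMapSubmonoid A p0.primeCompl)
  let f : Sp →ₐ[A] Sq := IsLocalization.liftAlgHom (M := Algebra.algebraMapSubmonoid A p0.primeCompl)
    (f := Algebra.ofId _ _) (by
      rintro ⟨_, x, hx, rfl⟩
      simpa using! IsLocalization.map_units (M := p.primeCompl) Sq ⟨algebraMap _ _ x,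
        by simp_all [p.over_def p0]⟩)
  algebraize [f.toRingHom]
  haveI : IsScalarTower P Sp Sq := .to₁₃₄ _ A _ _
  haveI : IsScalarTower Rp Sp Sq := .of_algebraMap_eq' <| by
    apply IsLocalization.ringHom_ext p0.primeCompl
    simp only [RingHom.comp_assoc, ← IsScalarTower.algebraMap_eq]
  haveI : IsLocalization (Algebra.algebraMapSubmonoid Sp p.primeCompl) Sq :=
    .isLocalization_of_submonoid_le _ _ (Algebra.algebraMapSubmonoid A p0.primeCompl) _
    (by rintro _ ⟨x, hx, rfl⟩; simp_all [p.over_def p0])
  haveI : Algebra.FinitePresentation P A := Algebra.FinitePresentation.of_finiteType.1 inferInstance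
  haveI : Algebra.FinitePresentation Rp Sp := by
    have : Algebra.IsPushout P Rp A Sp :=
      .symm <| Algebra.isPushout_of_isLocalization p0.primeCompl _ _ _
    exact Algebra.FinitePresentation.equiv (A := Rp ⊗[P] A) (Algebra.IsPushout.equiv P Rp A Sp)
  haveI := formallySmooth_residue_tensor Rp Sq
  haveI : Algebra.FormallySmooth Rp Sq := Algebra.FormallySmooth.of_formallySmooth_residueField_tensor
    (R := Rp) (S := Sq) (P := Sp) (Algebra.algebraMapSubmonoid Sp p.primeCompl)
  haveI : Algebra.FormallySmooth P Sq := Algebra.FormallySmooth.comp P Rp Sq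
  exact Algebra.FormallyEtale.iff_formallyUnramified_and_formallySmooth.2 ⟨inferInstance, inferInstance⟩

variable [IsAdicComplete (maximalIdeal A) A] [Module.Finite k (ResidueField A)]

local notation "Om" => AdicCompletion (maximalIdeal A) (Ω[A⁄k])

theorem free_of_etaleAt [Algebra.IsEtaleAt (MvPowerSeries (Fin n) k) p] :
    Module.Free (Localization.AtPrime p) (LocalizedModule p.primeCompl Om) ∧
      Module.finrank (Localization.AtPrime p) (LocalizedModule p.primeCompl Om) = n := by
  classical
  let P := MvPowerSeries (Fin n) k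
  let Ap := Localization.AtPrime p
  let e := KaehlerDifferential.tensorKaehlerEquivOfFormallyEtale k P Ap
  let Δ : Fin n → Derivation k Ap Ap := fun i =>
    ((LinearMap.liftBaseChange Ap ((Algebra.linearMap P Ap).comp (MvPowerSeries.pderiv k i).liftKaehlerDifferential)).comp
      e.symm.toLinearMap).compDer (KaehlerDifferential.D k Ap)
  have hΔ : ∀ i (a : P), Δ i (algebraMap P Ap a) = algebraMap P Ap (MvPowerSeries.pderiv k i a) := fun i a => by
    show LinearMap.liftBaseChange Ap _ (e.symm (KaehlerDifferential.D k Ap (algebraMap P Ap a))) = _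
    rw [KaehlerDifferential.tensorKaehlerEquivOfFormallyEtale_symm_D_algebraMap, LinearMap.liftBaseChange_tmul,
      one_smul, LinearMap.comp_apply, Derivation.liftKaehlerDifferential_comp_D]
    rfl
  obtain ⟨m, b, hb⟩ := Submodule.fg_iff_exists_fin_generating_family.1 (Module.Finite.fg_top (R := P) (M := A))
  have hφ : ∀ i, ∃ φ : Om →ₗ[A] Ap,
      ∀ a, φ (AdicCompletion.of (maximalIdeal A) _ (KaehlerDifferential.D k A a)) = Δ i (algebraMap A Ap a) := by
    intro i
    let N : Submodule A Ap :=
      Submodule.span A (insert (1 : Ap) (Set.range fun j => Δ i (algebraMap A Ap (b j))))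
    have hN : ∀ a, Δ i (algebraMap A Ap a) ∈ N := by
      intro a
      obtain ⟨c, rfl⟩ := (Submodule.mem_span_range_iff_exists_fun P).1 (hb ▸ (Submodule.mem_top : a ∈ ⊤))
      rw [map_sum, map_sum]
      refine sum_mem fun j _ => ?_
      rw [Algebra.smul_def, map_mul, ← IsScalarTower.algebraMap_apply P A Ap, Derivation.leibniz, hΔ]
      refine add_mem ?_ ?_
      · rw [IsScalarTower.algebraMap_apply P A Ap, algebraMap_smul]
        exact N.smul_mem _ (Submodule.subset_span (Or.inr ⟨j, rfl⟩))
      · rw [algebraMap_smul, IsScalarTower.algebraMap_apply P A Ap, Algebra.algebraMap_eq_smul_one]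
        exact N.smul_mem _ (N.smul_mem _ (Submodule.subset_span (Or.inl rfl)))
    haveI : Module.Finite A N := Module.Finite.iff_fg.2 (Submodule.fg_span ((Set.finite_range _).insert _))
    let D' : Derivation k A N := Derivation.mk'
      { toFun := fun a => ⟨Δ i (algebraMap A Ap a), hN a⟩
        map_add' := fun a a' => Subtype.ext (by simp)
        map_smul' := fun c a => Subtype.ext (by
          show Δ i (algebraMap A Ap (c • a)) = c • Δ i (algebraMap A Ap a)
          rw [← (Δ i).map_smul]
          exact congrArg _ ((IsScalarTower.toAlgHom k A Ap).toLinearMap.map_smul c a)) }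
      fun a a' => Subtype.ext (by
        show Δ i (algebraMap A Ap (a * a')) = a • Δ i (algebraMap A Ap a') + a' • Δ i (algebraMap A Ap a)
        rw [map_mul, Derivation.leibniz, algebraMap_smul, algebraMap_smul])
    obtain ⟨φ, hφ⟩ := CplKaehler4.exists_lift k A D'
    exact ⟨N.subtype.comp φ, fun a => congrArg Subtype.val (hφ a)⟩
  choose φ hφ using hφ
  let L := LocalizedModule.mkLinearMap p.primeCompl Om
  let Φ : Fin n → (LocalizedModule p.primeCompl Om →ₗ[Ap] Ap) := fun i =>
    LinearMap.extendScalarsOfIsLocalization p.primeCompl Ap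
      (IsLocalizedModule.lift p.primeCompl L (φ i) (IsLocalizedModule.map_units (Algebra.linearMap A Ap)))
  let v : Fin n → LocalizedModule p.primeCompl Om := fun j =>
    L (AdicCompletion.of (maximalIdeal A) _ (KaehlerDifferential.D k A (algebraMap P A (MvPowerSeries.X j))))
  have hΦ : ∀ i j, Φ i (v j) = if j = i then 1 else 0 := by
    intro i j
    show IsLocalizedModule.lift p.primeCompl L (φ i) (IsLocalizedModule.map_units (Algebra.linearMap A Ap)) (L _) = _
    rw [IsLocalizedModule.lift_apply, hφ, ← IsScalarTower.algebraMap_apply, hΔ, MvPowerSeries.pderiv_X]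
    by_cases h : j = i
    · subst h; simp
    · simp [Ne.symm h, h]
  have hli : LinearIndependent Ap v := Fintype.linearIndependent_iff.2 fun g hg i => by
    have := congrArg (Φ i) hg
    simpa [hΦ] using this
  have hsp : Submodule.span Ap (Set.range v) = ⊤ :=
    (CplKaehler4.genAt_iff_localized p _).1 ((CplKaehler4.genAt_iff_unramifiedAt p).2 inferInstance)
  let bas := Module.Basis.mk hli hsp.ge
  exact ⟨Module.Free.of_basis bas, by rw [Module.finrank_eq_card_basis bas, Fintype.card_fin]⟩

omit [IsLocalRing A] [IsNoetherianRing A] [IsAdicComplete (maximalIdeal A) A] [Module.Finite k (ResidueField A)]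
  [Algebra.IsUnramifiedAt (MvPowerSeries (Fin n) k) p] in
theorem geometricallyRegular_of_etaleAt [Algebra.IsEtaleAt (MvPowerSeries (Fin n) k) p] :
    CAlg.IsGeometricallyRegular k (Localization.AtPrime p) := by
  haveI : IsNoetherianRing (MvPowerSeries (Fin n) k) := by
    haveI := PSLib.isRegularLocalRing (K := k) (n := n)
    infer_instance
  haveI : Algebra.FiniteType (MvPowerSeries (Fin n) k) A := Module.Finite.finiteType A
  haveI : Algebra.FinitePresentation (MvPowerSeries (Fin n) k) A :=
    Algebra.FinitePresentation.of_finiteType.1 inferInstance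
  obtain ⟨f, hf, hef⟩ := Algebra.exists_etale_of_isEtaleAt (R := MvPowerSeries (Fin n) k) p
  have hAf := S9408.result k (MvPowerSeries (Fin n) k) (Localization.Away f) (isGeometricallyRegular_powerSeries k n)
  have hle : Submonoid.powers f ≤ p.primeCompl := Submonoid.powers_le.2 hf
  letI := IsLocalization.localizationAlgebraOfSubmonoidLe (Localization.Away f) (Localization.AtPrime p)
    (Submonoid.powers f) p.primeCompl hle
  haveI : IsScalarTower A (Localization.Away f) (Localization.AtPrime p) :=
    IsLocalization.localization_isScalarTower_of_submonoid_le _ _ _ _ hle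
  haveI : IsScalarTower k (Localization.Away f) (Localization.AtPrime p) := IsScalarTower.to₁₃₄ k A _ _
  haveI : IsLocalization (p.primeCompl.map (algebraMap A (Localization.Away f))) (Localization.AtPrime p) :=
    IsLocalization.isLocalization_of_submonoid_le _ _ _ _ hle
  exact SmoothingLib.GeomDiff.isGeometricallyRegular_of_isLocalization hAf
    (p.primeCompl.map (algebraMap A (Localization.Away f))) _

end Groth.Agent.Ega41H93
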