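import Groth.Agent.S2471
import Groth.Agent.AdicFS4.Graded
import Groth.Agent.CplKaehler4.Basic
import Groth.Agent.CartierEq4.Imperf
import Groth.Agent.CoeffField.Smooth
import Groth.Agent.AdicLib.Basic

/-!
# Completed differentials of a formally smooth complete local algebra
-/

set_option linter.style.haveILetI false

namespace Groth.Agent.Ega41H93

open IsLocalRing TensorProduct

universe u

theorem fs_pow {k A : Type u} [CommRing k] [CommRing A] [Algebra k A] {I : Ideal A}
    (h : CAlgX.IsAdicFormallySmooth k A I) (j : ℕ) : CAlgX.IsAdicFormallySmooth k A (I ^ j) := by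
  intro E _ _ J hJ ψ ⟨m, hm⟩
  exact h E J hJ ψ ⟨j * m, fun x hx => hm x (by rwa [← pow_mul])⟩

theorem length_cotangent_congr {A : Type u} [CommRing A] {I J : Ideal A} (h : I = J) :
    Module.length A I.Cotangent = Module.length A J.Cotangent := by
  subst h; rfl

variable {k A : Type u} [Field k] [CommRing A] [IsLocalRing A] [IsNoetherianRing A] [Algebra k A]
  [IsAdicComplete (maximalIdeal A) A]

theorem one_tmul_eq_zero_iff {M : Type u} [AddCommGroup M] [Module A M] (I : Ideal A) (x : M) :
    (1 : A ⧸ I) ⊗ₜ[A] x = 0 ↔ x ∈ I • (⊤ : Submodule A M) := by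
  rw [← (TensorProduct.quotTensorEquivQuotSMul M I).map_eq_zero_iff, ← map_one (Ideal.Quotient.mk I),
    TensorProduct.quotTensorEquivQuotSMul_mk_tmul, one_smul, Submodule.Quotient.mk_eq_zero]

/-- The completed differentials are free, of rank the dimension of their reduction. -/
theorem free_completion_of_fs (hfs : CAlgX.IsAdicFormallySmooth k A (maximalIdeal A))
    [Module.Finite (ResidueField A) ((ResidueField A) ⊗[A] Ω[A⁄k])] :
    Module.Finite A (AdicCompletion (maximalIdeal A) (Ω[A⁄k])) ∧
      Module.Free A (AdicCompletion (maximalIdeal A) (Ω[A⁄k])) ∧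
      Module.finrank A (AdicCompletion (maximalIdeal A) (Ω[A⁄k])) =
        Module.finrank (ResidueField A) ((ResidueField A) ⊗[A] Ω[A⁄k]) := by
  classical
  let m := maximalIdeal A
  let K := ResidueField A
  let b := Module.finBasis K (K ⊗[A] Ω[A⁄k])
  choose v hv using fun i => TensorProduct.mk_surjective A (Ω[A⁄k]) K residue_surjective (b i)
  have hspan : Submodule.span A (Set.range v) ⊔ m • ⊤ = ⊤ := by
    refine eq_top_iff.2 fun ω _ => ?_
    choose a ha using fun i => residue_surjective (b.repr ((1 : K) ⊗ₜ ω) i)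
    have h : (1 : A ⧸ m) ⊗ₜ[A] (ω - ∑ i, a i • v i) = 0 := by
      show (1 : K) ⊗ₜ[A] (ω - ∑ i, a i • v i) = 0
      rw [TensorProduct.tmul_sub, TensorProduct.tmul_sum, sub_eq_zero]
      conv_lhs => rw [← b.sum_repr ((1 : K) ⊗ₜ ω)]
      refine Finset.sum_congr rfl fun i _ => ?_
      rw [← ha i, TensorProduct.tmul_smul, ← hv i, ← ResidueField.algebraMap_eq, algebraMap_smul]
      rfl
    rw [one_tmul_eq_zero_iff] at h
    rw [show ω = (∑ i, a i • v i) + (ω - ∑ i, a i • v i) by abel]
    exact Submodule.add_mem_sup (sum_mem fun i _ => Submodule.smul_mem _ _ (Submodule.subset_span ⟨i, rfl⟩)) h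
  let n := Module.finrank K (K ⊗[A] Ω[A⁄k])
  let φ : (Fin n → A) →ₗ[A] AdicCompletion m (Ω[A⁄k]) :=
    Fintype.linearCombination A fun i => AdicCompletion.of m _ (v i)
  have hφ : Function.Surjective φ := by
    rw [← LinearMap.range_eq_top, Fintype.range_linearCombination]
    exact CplKaehler4.span_eq_top m v hspan
  have hkey : ∀ j, 1 ≤ j → ∀ c : Fin n → A, (∑ i, c i • v i) ∈ (m ^ j) • (⊤ : Submodule A (Ω[A⁄k])) →
      ∀ i, c i ∈ m ^ j := by
    intro j hj c hc i
    let B := A ⧸ m ^ j
    let M := B ⊗[A] Ω[A⁄k]
    haveI := AdicFS4.projective_tensor_kaehler (J := m ^ j) (fs_pow hfs j)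
    let g : (Fin n → B) →ₗ[B] M := Fintype.linearCombination B fun i => (1 : B) ⊗ₜ[A] v i
    have hg : ∀ d : Fin n → A, g (fun i => Ideal.Quotient.mk _ (d i)) = (1 : B) ⊗ₜ[A] ∑ i, d i • v i := by
      intro d
      rw [Fintype.linearCombination_apply, TensorProduct.tmul_sum]
      refine Finset.sum_congr rfl fun i _ => ?_
      rw [← Ideal.Quotient.algebraMap_eq, algebraMap_smul, TensorProduct.tmul_smul]
    have hsurj : Function.Surjective g := by
      intro y
      obtain ⟨ω, rfl⟩ := TensorProduct.mk_surjective A (Ω[A⁄k]) B Ideal.Quotient.mk_surjective y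
      obtain ⟨d, hd⟩ := hφ (AdicCompletion.of m _ ω)
      refine ⟨fun i => Ideal.Quotient.mk _ (d i), ?_⟩
      rw [hg, TensorProduct.mk_apply, ← sub_eq_zero, ← TensorProduct.tmul_sub, one_tmul_eq_zero_iff]
      have h1 := congrArg (AdicCompletion.eval m _ j) hd
      rw [show φ d = AdicCompletion.of m _ (∑ i, d i • v i) by
        rw [Fintype.linearCombination_apply, map_sum]; simp only [map_smul],
        AdicCompletion.eval_of, AdicCompletion.eval_of, Submodule.mkQ_apply, Submodule.mkQ_apply,
        Submodule.Quotient.eq] at h1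
      exact h1
    have hred : ∀ d ∈ LinearMap.ker g, ∀ i, d i ∈ m.map (Ideal.Quotient.mk (m ^ j)) := by
      intro d hd i
      choose a ha using fun i => Ideal.Quotient.mk_surjective (d i)
      have h1 : (1 : B) ⊗ₜ[A] ∑ i, a i • v i = 0 := by
        rw [← hg, funext ha]; exact hd
      rw [one_tmul_eq_zero_iff] at h1
      have h2 : (1 : A ⧸ m) ⊗ₜ[A] ∑ i, a i • v i = 0 :=
        (one_tmul_eq_zero_iff m _).2 (Submodule.smul_mono_left (Ideal.pow_le_self (by omega)) h1)
      have h3 : ∑ i, residue A (a i) • b i = 0 := by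
        refine Eq.trans ?_ (show (1 : K) ⊗ₜ[A] ∑ i, a i • v i = 0 from h2)
        rw [TensorProduct.tmul_sum]
        refine Finset.sum_congr rfl fun i _ => ?_
        rw [← hv i, TensorProduct.tmul_smul, ← ResidueField.algebraMap_eq, algebraMap_smul]
        rfl
      rw [← ha i]
      exact Ideal.mem_map_of_mem _ ((residue_eq_zero_iff _).1 (Fintype.linearIndependent_iff.1 b.linearIndependent _ h3 i))
    obtain ⟨s, hs⟩ := Module.projective_lifting_property g LinearMap.id hsurj
    let e : (Fin n → B) →ₗ[B] (Fin n → B) := LinearMap.id - s.comp g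
    have he : ∀ x, e x ∈ LinearMap.ker g := by
      intro x
      rw [LinearMap.mem_ker, LinearMap.sub_apply, map_sub, LinearMap.id_apply, LinearMap.comp_apply,
        ← LinearMap.comp_apply g s, hs, LinearMap.id_apply, sub_self]
    have hker : LinearMap.ker g = ⊥ := by
      haveI : IsNoetherianRing B := inferInstance
      refine Submodule.eq_bot_of_le_smul_of_le_jacobson_bot (m.map (Ideal.Quotient.mk (m ^ j))) _
        (IsNoetherian.noetherian _) (fun x hx => ?_) ?_
      · have hx' : e x = x := by simp [e, LinearMap.mem_ker.1 hx]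
        rw [← hx', pi_eq_sum_univ x, map_sum]
        refine sum_mem fun i _ => ?_
        rw [map_smul]
        exact Submodule.smul_mem_smul (hred x hx i) (he _)
      · haveI : Nontrivial B := Ideal.Quotient.nontrivial_iff.2
          (ne_top_of_le_ne_top (maximalIdeal.isMaximal A).ne_top (Ideal.pow_le_self (by omega)))
        haveI : IsLocalRing B := IsLocalRing.of_surjective' (Ideal.Quotient.mk (m ^ j)) Ideal.Quotient.mk_surjective
        rw [IsLocalRing.map_maximalIdeal_of_surjective _ Ideal.Quotient.mk_surjective]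
        exact IsLocalRing.maximalIdeal_le_jacobson ⊥
    have h0 : g (fun i => Ideal.Quotient.mk _ (c i)) = 0 := by rw [hg, one_tmul_eq_zero_iff]; exact hc
    rw [← LinearMap.mem_ker, hker, Submodule.mem_bot] at h0
    exact Ideal.Quotient.eq_zero_iff_mem.1 (congrFun h0 i)
  have hinj : Function.Injective φ := by
    rw [injective_iff_map_eq_zero]
    intro c hc
    funext i
    have hmem : ∀ j, c i ∈ m ^ j := by
      intro j
      rcases Nat.eq_zero_or_pos j with rfl | hj
      · simp
      refine hkey j hj c ?_ i
      have h1 := congrArg (AdicCompletion.eval m _ j) hc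
      rw [show φ c = AdicCompletion.of m _ (∑ i, c i • v i) by
        rw [Fintype.linearCombination_apply, map_sum]; simp only [map_smul],
        AdicCompletion.eval_of, map_zero, Submodule.mkQ_apply, Submodule.Quotient.mk_eq_zero] at h1
      exact h1
    exact IsHausdorff.haus (inferInstance : IsHausdorff m A) (c i) fun j => by
      rw [SModEq.zero, smul_eq_mul, Ideal.mul_top]; exact hmem j
  let e := LinearEquiv.ofBijective φ ⟨hinj, hφ⟩
  exact ⟨Module.Finite.equiv e, Module.Free.of_equiv e, by rw [← e.finrank_eq, Module.finrank_fin_fun]⟩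

/-- The rank of the reduced differentials of a formally smooth local algebra. -/
theorem finrank_residue_kaehler_of_fs (hfs : CAlgX.IsAdicFormallySmooth k A (maximalIdeal A))
    [Algebra.EssFiniteType k (ResidueField A)] :
    Module.Finite (ResidueField A) ((ResidueField A) ⊗[A] Ω[A⁄k]) ∧
      ((Module.finrank (ResidueField A) ((ResidueField A) ⊗[A] Ω[A⁄k]) : ℕ) : WithBot ℕ∞) =
        ringKrullDim A + ((Cardinal.toNat (Algebra.trdeg k (ResidueField A)) : ℕ) : WithBot ℕ∞) := by
  classical
  obtain ⟨hreg, hinj⟩ := S2471.result.1 hfs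
  let K := ResidueField A
  have hsurj : Function.Surjective (algebraMap A K) := residue_surjective
  obtain ⟨hΩ, hH, heq⟩ := CartierEq4.finrank_kaehler_eq k K
  obtain ⟨hU, -⟩ := CartierEq4.finite_imperfection ℤ k K
  let I := RingHom.ker (algebraMap A K)
  let dZ : I.Cotangent →ₗ[A] K ⊗[A] Ω[A⁄ℤ] := KaehlerDifferential.kerCotangentToTensor ℤ A K
  let g : I.Cotangent →ₗ[A] K ⊗[A] Ω[A⁄k] := KaehlerDifferential.kerCotangentToTensor k A K
  let π : K ⊗[A] Ω[A⁄ℤ] →ₗ[A] K ⊗[A] Ω[A⁄k] := (KaehlerDifferential.map ℤ k A A).lTensor K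
  let q := KaehlerDifferential.mapBaseChange ℤ A K
  let ι : K ⊗[k] Ω[k⁄ℤ] →ₗ[K] K ⊗[A] Ω[A⁄ℤ] :=
    LinearMap.liftBaseChange K (((TensorProduct.mk A K (Ω[A⁄ℤ]) 1).restrictScalars k).comp (KaehlerDifferential.map ℤ ℤ k A))
  have hι_eq : ∀ z, ι z = (KaehlerDifferential.mapBaseChange ℤ k A).lTensor K
      ((AlgebraTensorModule.cancelBaseChange k A K K (Ω[k⁄ℤ])).symm z) := by
    intro z
    induction z using TensorProduct.induction_on with
    | zero => simp
    | add x y hx hy => simp only [map_add, hx, hy]
    | tmul c x => simp [ι, TensorProduct.smul_tmul']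
  have hιinj : Function.Injective ι := fun x y h => (LinearEquiv.injective _) (hinj ((hι_eq x).symm.trans (h.trans (hι_eq y))))
  have hπι : LinearMap.ker π = LinearMap.range (ι.restrictScalars A) := by
    rw [(lTensor_exact K (KaehlerDifferential.exact_mapBaseChange_map ℤ k A)
      (KaehlerDifferential.map_surjective ℤ k A)).linearMap_ker_eq]
    refine le_antisymm ?_ ?_
    · rintro _ ⟨z, rfl⟩
      exact ⟨AlgebraTensorModule.cancelBaseChange k A K K (Ω[k⁄ℤ]) z, by
        show ι _ = _
        rw [hι_eq, LinearEquiv.symm_apply_apply]⟩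
    · rintro _ ⟨z, rfl⟩
      exact ⟨_, (hι_eq z).symm⟩
  have hqι : ∀ z, q (ι z) = KaehlerDifferential.mapBaseChange ℤ k K z := by
    intro z
    induction z using TensorProduct.induction_on with
    | zero => simp
    | add x y hx hy => simp only [map_add, hx, hy]
    | tmul c x =>
      simp only [ι, LinearMap.liftBaseChange_tmul, LinearMap.comp_apply, LinearMap.restrictScalars_apply,
        TensorProduct.mk_apply, map_smul, q, KaehlerDifferential.mapBaseChange_tmul, one_smul]
      congr 1
      have hx : x ∈ Submodule.span k (Set.range (KaehlerDifferential.D ℤ k)) := by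
        rw [KaehlerDifferential.span_range_derivation]; trivial
      induction hx using Submodule.span_induction with
      | mem y hy =>
        obtain ⟨y, rfl⟩ := hy
        simp only [KaehlerDifferential.map_D, ← IsScalarTower.algebraMap_apply]
      | zero => simp
      | add y z _ _ hy hz => simp only [map_add, hy, hz]
      | smul c y _ hy => simp only [map_smul, LinearMap.map_smul_of_tower, hy]
  have hπd : π.comp dZ = g := by
    refine LinearMap.ext fun y => ?_
    obtain ⟨x, rfl⟩ := Ideal.toCotangent_surjective _ y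
    show (KaehlerDifferential.map ℤ k A A).lTensor K ((1 : K) ⊗ₜ[A] KaehlerDifferential.D ℤ A x.1) =
      (1 : K) ⊗ₜ[A] KaehlerDifferential.D k A x.1
    rw [LinearMap.lTensor_tmul, KaehlerDifferential.map_D, Algebra.algebraMap_self, RingHom.id_apply]
  -- the differential over `ℤ` is injective on the cotangent space
  have hdZ : Function.Injective dZ := by
    obtain ⟨σ, hσ⟩ := CoeffField.exists_ringHom_section k A
    letI : Module A I.Cotangent := inferInstance
    let δ : A → I.Cotangent := fun a => I.toCotangent ⟨a - σ (residue A a), by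
      rw [RingHom.mem_ker, map_sub, ResidueField.algebraMap_eq, hσ, sub_self]⟩
    have hadd : ∀ a a', δ (a + a') = δ a + δ a' := by
      intro a a'
      rw [← map_add]
      refine congrArg _ (Subtype.ext ?_)
      show a + a' - σ (residue A (a + a')) = a - σ (residue A a) + (a' - σ (residue A a'))
      rw [map_add, map_add]; ring
    have hmul : ∀ a a', δ (a * a') = a • δ a' + a' • δ a := by
      intro a a'
      rw [← map_smul, ← map_smul, ← map_add, Ideal.toCotangent_eq]
      show a * a' - σ (residue A (a * a')) - (a * (a' - σ (residue A a')) + a' * (a - σ (residue A a))) ∈ I ^ 2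
      rw [map_mul, map_mul, show a * a' - σ (residue A a) * σ (residue A a') -
          (a * (a' - σ (residue A a')) + a' * (a - σ (residue A a))) =
          -((a - σ (residue A a)) * (a' - σ (residue A a'))) by ring, sq]
      refine neg_mem (Ideal.mul_mem_mul ?_ ?_) <;>
        rw [RingHom.mem_ker, map_sub, ResidueField.algebraMap_eq, hσ, sub_self]
    let D : Derivation ℤ A I.Cotangent := Derivation.mk' (AddMonoidHom.mk' δ hadd).toIntLinearMap hmul
    have hK : ∀ (a : A), a ∈ I → ∀ y : I.Cotangent, a • y = 0 := fun a ha y => by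
      obtain ⟨x, rfl⟩ := Ideal.toCotangent_surjective _ y
      rw [← map_smul, Ideal.toCotangent_eq_zero, sq]
      exact Ideal.mul_mem_mul ha x.2
    let η : K →ₗ[A] (Ω[A⁄ℤ] →ₗ[A] I.Cotangent) :=
      Submodule.liftQ (maximalIdeal A) (LinearMap.toSpanSingleton A _ D.liftKaehlerDifferential) fun a ha => by
        refine LinearMap.ext fun ω => ?_
        exact hK a (by rwa [RingHom.mem_ker, ResidueField.algebraMap_eq, residue_eq_zero_iff]) _
    refine Function.LeftInverse.injective (g := TensorProduct.lift η) fun y => ?_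
    obtain ⟨x, rfl⟩ := Ideal.toCotangent_surjective _ y
    rw [KaehlerDifferential.kerCotangentToTensor_toCotangent, TensorProduct.lift.tmul]
    show ((1 : A) • D.liftKaehlerDifferential) (KaehlerDifferential.D ℤ A x.1) = _
    rw [one_smul, Derivation.liftKaehlerDifferential_comp_D]
    refine congrArg _ (Subtype.ext ?_)
    have : residue A x.1 = 0 := RingHom.mem_ker.1 x.2
    show x.1 - σ (residue A x.1) = x.1
    rw [this, map_zero, sub_zero]
  -- the kernel is the imperfection module
  have hmapeq : Submodule.map dZ (LinearMap.ker g) =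
      Submodule.map (ι.restrictScalars A) ((EGA41.imperfection ℤ k K).restrictScalars A) := by
    have hex : ∀ y, q y = 0 ↔ y ∈ Set.range dZ := KaehlerDifferential.exact_kerCotangentToTensor_mapBaseChange ℤ A K hsurj
    refine le_antisymm ?_ ?_
    · rintro _ ⟨y, hy, rfl⟩
      obtain ⟨z, hz⟩ : dZ y ∈ LinearMap.range (ι.restrictScalars A) := by
        rw [← hπι, LinearMap.mem_ker, ← LinearMap.comp_apply, hπd]
        exact hy
      refine ⟨z, ?_, hz⟩
      show KaehlerDifferential.mapBaseChange ℤ k K z = 0
      rw [← hqι, show ι z = dZ y from hz]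
      exact (hex _).2 ⟨y, rfl⟩
    · rintro _ ⟨z, hz, rfl⟩
      obtain ⟨y, hy⟩ := (hex (ι z)).1 ((hqι z).trans hz)
      refine ⟨y, ?_, hy⟩
      show g y = 0
      rw [← hπd, LinearMap.comp_apply, hy, ← LinearMap.mem_ker, hπι]
      exact ⟨z, rfl⟩
  -- counting lengths
  have hlK : ∀ (M : Type u) [AddCommGroup M] [Module A M] [Module K M] [IsScalarTower A K M] [Module.Finite K M],
      Module.length A M = (Module.finrank K M : ℕ∞) := fun M _ _ _ _ _ => by
    rw [Module.length_eq_of_surjective hsurj, Module.length_eq_finrank]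
  have hlker : Module.length A (LinearMap.ker g) = (Module.finrank K (Algebra.H1Cotangent k K) : ℕ∞) := by
    have e1 : Module.length A (LinearMap.ker g) = Module.length A (Submodule.map dZ (LinearMap.ker g)) :=
      LinearEquiv.length_eq (R := A) (Submodule.equivMapOfInjective dZ hdZ (LinearMap.ker g) :)
    have e2 : Module.length A ((EGA41.imperfection ℤ k K).restrictScalars A) =
        Module.length A (Submodule.map (ι.restrictScalars A) ((EGA41.imperfection ℤ k K).restrictScalars A)) :=
      LinearEquiv.length_eq (R := A) (Submodule.equivMapOfInjective (ι.restrictScalars A) hιinj _ :)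
    rw [e1, hmapeq, ← e2]
    have : Module.length A ((EGA41.imperfection ℤ k K).restrictScalars A) = Module.length A (EGA41.imperfection ℤ k K) := rfl
    rw [this, hlK]
    exact congrArg Nat.cast (CartierEq4.finrank_imperfection_int k K)
  obtain ⟨n, hn⟩ : ∃ n : ℕ, ringKrullDim A = n := ⟨_, ((isRegularLocalRing_iff A).1 hreg).symm⟩
  have hcot : Module.length A I.Cotangent = (n : ℕ∞) := by
    rw [length_cotangent_congr (show I = maximalIdeal A from IsLocalRing.ker_residue), hlK (CotangentSpace A)]
    have h := (isRegularLocalRing_iff A).1 hreg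
    rw [spanFinrank_maximalIdeal_eq_finrank_cotangentSpace, hn] at h
    exact congrArg _ (Nat.cast_inj.1 h)
  have h1 : Module.length A I.Cotangent = Module.length A (LinearMap.ker g) + Module.length A (LinearMap.range g) :=
    Module.length_eq_add_of_exact (LinearMap.ker g).subtype g.rangeRestrict (Submodule.subtype_injective _)
      g.surjective_rangeRestrict (by rw [LinearMap.exact_iff, LinearMap.ker_rangeRestrict, Submodule.range_subtype])
  let qk := (KaehlerDifferential.mapBaseChange k A K).restrictScalars A
  have h2 : Module.length A (K ⊗[A] Ω[A⁄k]) = Module.length A (LinearMap.range g) + Module.length A (Ω[K⁄k]) :=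
    Module.length_eq_add_of_exact (LinearMap.range g).subtype qk (Submodule.subtype_injective _)
      (KaehlerDifferential.mapBaseChange_surjective k A K hsurj) (by
        rw [LinearMap.exact_iff, Submodule.range_subtype, LinearMap.ker_restrictScalars]
        exact (KaehlerDifferential.range_kerCotangentToTensor k A K hsurj).symm)
  haveI : Module.Finite A (Ω[K⁄k]) := by
    haveI : Module.Finite A K := Module.Finite.of_surjective (Algebra.linearMap A K) hsurj
    exact Module.Finite.trans K _
  haveI : Module.Finite A (K ⊗[A] Ω[A⁄k]) := by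
    refine ⟨Submodule.fg_of_fg_map_of_fg_inf_ker qk (IsNoetherian.noetherian _) ?_⟩
    rw [top_inf_eq, LinearMap.ker_restrictScalars, ← KaehlerDifferential.range_kerCotangentToTensor k A K hsurj]
    haveI : Module.Finite A I.Cotangent := Module.Finite.of_surjective I.toCotangent (Ideal.toCotangent_surjective _)
    exact (Submodule.fg_top _).1 (Module.Finite.range g).fg_top
  haveI hfinK : Module.Finite K (K ⊗[A] Ω[A⁄k]) := Module.Finite.of_restrictScalars_finite A K _
  refine ⟨hfinK, ?_⟩
  rw [hlK (K ⊗[A] Ω[A⁄k]), hlK (Ω[K⁄k]), heq] at h2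
  rw [hlker, hcot] at h1
  generalize Module.length A (LinearMap.range g) = r at h1 h2
  have h3 : Module.finrank K (K ⊗[A] Ω[A⁄k]) = n + Cardinal.toNat (Algebra.trdeg k K) := by
    induction r using ENat.recTopCoe with
    | top => simp at h1
    | coe r => norm_cast at h1 h2; omega
  rw [h3, hn]
  push_cast
  rfl

end Groth.Agent.Ega41H93
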