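import Groth.Agent.S5080
import Groth.Agent.CplKaehler4.Domain

/-!
# Finite maps from power series rings unramified at a given prime
-/

set_option linter.style.haveILetI false

namespace Groth.Agent.Ega41H93

open IsLocalRing

universe u

/-- A system of parameters avoiding a non-maximal prime. -/
theorem exists_sop_notMem {A : Type u} [CommRing A] [IsLocalRing A] [IsNoetherianRing A] (p : Ideal A) [p.IsPrime]
    (hp : p ≠ maximalIdeal A) :
    ∃ (n : ℕ) (x : Fin n → A), (∀ i, x i ∈ maximalIdeal A ∧ x i ∉ p) ∧ ringKrullDim A = n ∧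
      maximalIdeal A ≤ (Ideal.span (Set.range x)).radical := by
  classical
  obtain ⟨n, x, hx, hn, hrad⟩ := CohenLib.exists_fin_sop A
  obtain ⟨j, hj⟩ : ∃ j, x j ∉ p := by
    by_contra h
    push Not at h
    exact hp (le_antisymm (le_maximalIdeal Ideal.IsPrime.ne_top')
      (hrad.trans ((Ideal.IsPrime.isRadical ‹_›).radical_le_iff.2 (Ideal.span_le.2 (Set.range_subset_iff.2 h)))))
  let y : Fin n → A := fun i => if x i ∈ p then x i + x j else x i
  have hy : ∀ i, y i ∈ maximalIdeal A ∧ y i ∉ p := by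
    intro i
    by_cases h : x i ∈ p
    · simp only [y, if_pos h]
      exact ⟨add_mem (hx i) (hx j), fun h' => hj ((Ideal.add_mem_iff_right p h).1 h')⟩
    · simp only [y, if_neg h]
      exact ⟨hx i, h⟩
  refine ⟨n, y, hy, hn, hrad.trans (Ideal.radical_mono (Ideal.span_le.2 ?_))⟩
  rintro _ ⟨i, rfl⟩
  have hyj : x j ∈ Ideal.span (Set.range y) := by
    have : y j = x j := if_neg hj
    exact this ▸ Ideal.subset_span ⟨j, rfl⟩
  by_cases h : x i ∈ p
  · have : x i = y i - x j := by simp [y, if_pos h]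
    rw [SetLike.mem_coe, this]
    exact sub_mem (Ideal.subset_span ⟨i, rfl⟩) hyj
  · have : y i = x i := if_neg h
    exact this ▸ Ideal.subset_span ⟨i, rfl⟩

variable (k A : Type u) [Field k] [CommRing A] [IsLocalRing A] [IsNoetherianRing A] [Algebra k A]
  [IsAdicComplete (maximalIdeal A) A] [Module.Finite k (ResidueField A)]

theorem exists_finite_unramifiedAt (p : Ideal A) [p.IsPrime] (hp : p ≠ maximalIdeal A)
    (hq : ∃ q ∈ minimalPrimes A, q ≤ p ∧ ringKrullDim (A ⧸ q) = ringKrullDim A) (m : ℕ)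
    (hgen : ∃ s : Fin m → (LocalizedModule p.primeCompl (AdicCompletion (maximalIdeal A) (Ω[A⁄k]))),
      Submodule.span (Localization.AtPrime p) (Set.range s) = ⊤) :
    ∃ (_ : Algebra (MvPowerSeries (Fin m) k) A) (_ : IsScalarTower k (MvPowerSeries (Fin m) k) A),
      IsLocalHom (algebraMap (MvPowerSeries (Fin m) k) A) ∧ Module.Finite (MvPowerSeries (Fin m) k) A ∧
        Algebra.IsUnramifiedAt (MvPowerSeries (Fin m) k) p := by
  classical
  obtain ⟨n, x, hx, hn, hrad⟩ := exists_sop_notMem p hp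
  obtain ⟨z, hzm, hzp⟩ : ∃ z ∈ maximalIdeal A, z ∉ p := by
    by_contra h
    push Not at h
    exact hp (le_antisymm (le_maximalIdeal Ideal.IsPrime.ne_top') h)
  have hex : ∃ M, ∃ s : Fin M → (LocalizedModule p.primeCompl (AdicCompletion (maximalIdeal A) (Ω[A⁄k]))),
      Submodule.span (Localization.AtPrime p) (Set.range s) = ⊤ := ⟨m, hgen⟩
  let M := Nat.find hex
  have hMm : M ≤ m := Nat.find_le hgen
  have hnM : n ≤ M := by
    obtain ⟨q, hq, hqp, hdim⟩ := hq
    haveI := hq.1.1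
    haveI := CplKaehler4.finite_completion k A
    obtain ⟨s, hs⟩ := CplKaehler4.exists_genAt_of_localized p (Nat.find_spec hex)
    have h := CplKaehler4.dim_quot_le_of_genAt k A p q hqp s hs
    rw [hdim, hn] at h
    exact_mod_cast h
  let x' : Fin M → A := fun i => if h : (i : ℕ) < n then x ⟨i, h⟩ else z
  have hx' : ∀ i, x' i ∈ maximalIdeal A ∧ x' i ∉ p := by
    intro i
    by_cases h : (i : ℕ) < n
    · simp only [x', dif_pos h]; exact hx _
    · simp only [x', dif_neg h]; exact ⟨hzm, hzp⟩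
  obtain ⟨u, hu⟩ := S5080.result k A p hp M (Nat.find_spec hex) (fun s hs => Nat.find_le
    ⟨fun i => (s.equivFin.symm i).1, by
      rw [← hs]
      congr 1
      ext w
      exact ⟨by rintro ⟨i, rfl⟩; exact (s.equivFin.symm i).2, fun hw => ⟨s.equivFin ⟨w, hw⟩, by simp⟩⟩⟩) x' hx'
  let y : Fin m → A := fun i => if h : (i : ℕ) < M then (u ⟨i, h⟩ : A) * x' ⟨i, h⟩ else 0
  have hy : ∀ i, y i ∈ maximalIdeal A := by
    intro i
    by_cases h : (i : ℕ) < M
    · simp only [y, dif_pos h]; exact Ideal.mul_mem_left _ _ (hx' _).1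
    · simp only [y, dif_neg h]; exact zero_mem _
  have hyrad : maximalIdeal A ≤ (Ideal.span (Set.range y)).radical := by
    refine hrad.trans (Ideal.radical_mono (Ideal.span_le.2 ?_))
    rintro _ ⟨i, rfl⟩
    have hi : (i : ℕ) < M := lt_of_lt_of_le i.2 hnM
    have e : y ⟨i, lt_of_lt_of_le hi hMm⟩ = (u ⟨i, hi⟩ : A) * x i := by
      simp only [y, dif_pos hi, x', dif_pos i.2]
    rw [SetLike.mem_coe, ← Ideal.unit_mul_mem_iff_mem _ (u ⟨i, hi⟩).isUnit, ← e]
    exact Ideal.subset_span ⟨_, rfl⟩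
  obtain ⟨ψ, hψ, hfin, hloc⟩ := CplKaehler4.exists_algHom_finite k y hy hyrad
  letI : Algebra (MvPowerSeries (Fin m) k) A := ψ.toRingHom.toAlgebra
  haveI : IsScalarTower k (MvPowerSeries (Fin m) k) A := IsScalarTower.of_algebraMap_eq fun c => (ψ.commutes c).symm
  haveI : Module.Finite (MvPowerSeries (Fin m) k) A := hfin
  refine ⟨inferInstance, inferInstance, hloc, inferInstance,
    (CplKaehler4.genAt_iff_unramifiedAt p).1 ((CplKaehler4.genAt_iff_localized p _).2 ?_)⟩
  refine eq_top_iff.2 (hu.ge.trans (Submodule.span_mono ?_))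
  rintro _ ⟨i, rfl⟩
  refine ⟨⟨i, lt_of_lt_of_le i.2 hMm⟩, ?_⟩
  have e : algebraMap (MvPowerSeries (Fin m) k) A (MvPowerSeries.X ⟨i, lt_of_lt_of_le i.2 hMm⟩) = (u i : A) * x' i := by
    show ψ _ = _
    rw [hψ]
    simp only [y, dif_pos i.2]
  simp only [e]

theorem exists_generators_of_unramifiedAt (p : Ideal A) [p.IsPrime] (m : ℕ)
    [Algebra (MvPowerSeries (Fin m) k) A] [IsScalarTower k (MvPowerSeries (Fin m) k) A]
    [Module.Finite (MvPowerSeries (Fin m) k) A] [Algebra.IsUnramifiedAt (MvPowerSeries (Fin m) k) p] :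
    ∃ s : Fin m → (LocalizedModule p.primeCompl (AdicCompletion (maximalIdeal A) (Ω[A⁄k]))),
      Submodule.span (Localization.AtPrime p) (Set.range s) = ⊤ :=
  ⟨_, (CplKaehler4.genAt_iff_localized p _).1 ((CplKaehler4.genAt_iff_unramifiedAt p).2 inferInstance)⟩

end Groth.Agent.Ega41H93
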