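import Groth.Agent.S2471
import Groth.Agent.S9604
import Groth.Agent.PSLib.Regular
import Groth.Agent.CoeffField.Smooth
import Mathlib.RingTheory.Smooth.AdicCompletion

/-!
# Existence of formally smooth complete local algebras with given residue field
-/

set_option linter.style.haveILetI false

namespace Groth.Agent.Ega41H93

open IsLocalRing TensorProduct

universe u

attribute [local instance 10000] Ring.toIntAlgebra

section Iota

variable (k A K : Type u) [Field k] [CommRing A] [Field K] [Algebra k A] [Algebra A K] [Algebra k K]
  [IsScalarTower k A K]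

/-- The map of differentials of the base field into the differentials of `A` at the closed point. -/
noncomputable def baseDiffMap : K ⊗[k] Ω[k⁄ℤ] →ₗ[K] K ⊗[A] Ω[A⁄ℤ] :=
  LinearMap.liftBaseChange K
    (((TensorProduct.mk A K (Ω[A⁄ℤ]) 1).restrictScalars k).comp (KaehlerDifferential.map ℤ ℤ k A))

theorem mapBaseChange_baseDiffMap (z : K ⊗[k] Ω[k⁄ℤ]) :
    KaehlerDifferential.mapBaseChange ℤ A K (baseDiffMap k A K z) = KaehlerDifferential.mapBaseChange ℤ k K z := by
  induction z using TensorProduct.induction_on with
  | zero => simp
  | add x y hx hy => simp only [map_add, hx, hy]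
  | tmul c x =>
    simp only [baseDiffMap, LinearMap.liftBaseChange_tmul, LinearMap.comp_apply, LinearMap.restrictScalars_apply,
      TensorProduct.mk_apply, map_smul, KaehlerDifferential.mapBaseChange_tmul, one_smul]
    congr 1
    have hx : x ∈ Submodule.span k (Set.range (KaehlerDifferential.D ℤ k)) := by
      rw [KaehlerDifferential.span_range_derivation]; trivial
    induction hx using Submodule.span_induction with
    | mem y hy =>
      obtain ⟨y, rfl⟩ := hy
      simp only [KaehlerDifferential.map_D, ← IsScalarTower.algebraMap_apply]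
    | zero => simp
    | add y z _ _ hy hz => simp only [map_add, hy, hz]
    | smul c y _ hy => simp only [map_smul, LinearMap.map_smul_of_tower, hy]

/-- Injectivity at the closed point, for any presentation of the residue field. -/
theorem injective_baseDiffMap_iff [IsLocalRing A] (hsurj : Function.Surjective (algebraMap A K)) :
    Function.Injective (baseDiffMap k A K) ↔
      Function.Injective ((KaehlerDifferential.mapBaseChange ℤ k A).lTensor (ResidueField A)) := by
  have hm : ∀ a ∈ maximalIdeal A, algebraMap A K a = 0 := by
    intro a ha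
    haveI : (RingHom.ker (algebraMap A K)).IsMaximal := RingHom.ker_isMaximal_of_surjective _ hsurj
    exact RingHom.mem_ker.1 ((IsLocalRing.eq_maximalIdeal ‹_›).symm ▸ ha)
  let g : ResidueField A →ₐ[A] K :=
    { (Ideal.Quotient.lift (maximalIdeal A) (algebraMap A K) hm : ResidueField A →+* K) with
      commutes' := fun _ => rfl }
  have hgs : Function.Surjective g := fun y => by
    obtain ⟨a, ha⟩ := hsurj y
    exact ⟨residue A a, (g.commutes a).trans ha⟩
  let e := AlgEquiv.ofBijective g ⟨g.toRingHom.injective, hgs⟩
  let e₁ : ResidueField A ⊗[A] (A ⊗[k] Ω[k⁄ℤ]) ≃ₗ[k] K ⊗[k] Ω[k⁄ℤ] :=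
    (AlgebraTensorModule.cancelBaseChange k A A (ResidueField A) (Ω[k⁄ℤ])).restrictScalars k ≪≫ₗ
      LinearEquiv.rTensor _ (e.restrictScalars k).toLinearEquiv
  let e₂ : ResidueField A ⊗[A] Ω[A⁄ℤ] ≃ₗ[A] K ⊗[A] Ω[A⁄ℤ] := LinearEquiv.rTensor _ e.toLinearEquiv
  have h : ∀ z, baseDiffMap k A K (e₁ z) = e₂ ((KaehlerDifferential.mapBaseChange ℤ k A).lTensor (ResidueField A) z) := by
    intro z
    induction z using TensorProduct.induction_on with
    | zero => simp
    | add x y hx hy => simp only [map_add, hx, hy]
    | tmul r y =>
      induction y using TensorProduct.induction_on with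
      | zero => simp
      | add x y hx hy => simp only [tmul_add, map_add, hx, hy]
      | tmul a ω =>
        show baseDiffMap k A K (g (a • r) ⊗ₜ ω) = g r ⊗ₜ _
        rw [KaehlerDifferential.mapBaseChange_tmul]
        simp [baseDiffMap, TensorProduct.smul_tmul']
  have h' : baseDiffMap k A K ∘ e₁ = e₂ ∘ (KaehlerDifferential.mapBaseChange ℤ k A).lTensor (ResidueField A) :=
    funext h
  rw [← Function.Injective.of_comp_iff' (baseDiffMap k A K) e₁.bijective, h']
  exact Function.Injective.of_comp_iff e₂.injective _

/-- Formal smoothness makes the imperfection module of the residue field finite. -/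
theorem finite_imperfection_of_fs [IsLocalRing A] [IsNoetherianRing A] (hsurj : Function.Surjective (algebraMap A K))
    (hfs : CAlgX.IsAdicFormallySmooth k A (maximalIdeal A)) : Module.Finite K (EGA41.imperfection ℤ k K) := by
  have hι : Function.Injective (baseDiffMap k A K) :=
    (injective_baseDiffMap_iff k A K hsurj).2 (S2471.result.1 hfs).2
  let q := KaehlerDifferential.mapBaseChange ℤ A K
  let W := LinearMap.ker q
  let dZ := KaehlerDifferential.kerCotangentToTensor ℤ A K
  haveI : Module.Finite A (RingHom.ker (algebraMap A K)).Cotangent :=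
    haveI : Module.Finite A (RingHom.ker (algebraMap A K)) := Module.Finite.iff_fg.2 (IsNoetherian.noetherian _)
    Module.Finite.of_surjective _ (Ideal.toCotangent_surjective _)
  obtain ⟨s, hs⟩ : (LinearMap.range dZ).FG := Module.Finite.iff_fg.1 inferInstance
  have hWs : W = Submodule.span K (s : Set (K ⊗[A] Ω[A⁄ℤ])) := by
    have hex := (KaehlerDifferential.exact_kerCotangentToTensor_mapBaseChange ℤ A K hsurj)
    refine le_antisymm (fun x hx => ?_) (Submodule.span_le.2 fun x hx => ?_)
    · exact Submodule.span_le_restrictScalars A K _ (hs ▸ (hex x).1 hx)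
    · exact (hex x).2 (show x ∈ LinearMap.range dZ from hs ▸ Submodule.subset_span hx)
  haveI : Module.Finite K W := Module.Finite.iff_fg.2 (hWs ▸ Submodule.fg_span s.finite_toSet)
  haveI : IsNoetherian K W := isNoetherian_of_isNoetherianRing_of_finite K W
  let Φ : EGA41.imperfection ℤ k K →ₗ[K] W :=
    LinearMap.codRestrict W ((baseDiffMap k A K).comp (EGA41.imperfection ℤ k K).subtype) fun x => by
      show q (baseDiffMap k A K x.1) = 0
      rw [mapBaseChange_baseDiffMap]
      exact x.2
  exact Module.Finite.of_injective Φ fun x y hxy => Subtype.ext (hι (congrArg Subtype.val hxy))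

end Iota

variable {k K : Type u} [Field k] [Field K] [Algebra k K]

/-- A structure on power series lifting the residue map to first order with prescribed derivations. -/
theorem exists_ringHom_ps (p : ℕ) [Fact p.Prime] [CharP k p] {n : ℕ} (δ : Fin n → Derivation ℤ k K) :
    ∃ φ : k →+* MvPowerSeries (Fin n) K, ∀ c,
      φ c - (MvPowerSeries.C (algebraMap k K c) + ∑ i, MvPowerSeries.C (δ i c) * MvPowerSeries.X i) ∈
        PSLib.vars n K ^ 2 := by
  classical
  let S := MvPowerSeries (Fin n) K
  let P := ULift.{u} (ZMod p)
  haveI : Finite P := Finite.of_equiv _ Equiv.ulift.symm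
  haveI : PerfectField P := PerfectField.ofFinite
  letI : Algebra P k := ((ZMod.castHom dvd_rfl k).comp (ULift.ringEquiv (R := ZMod p)).toRingHom).toAlgebra
  letI : Algebra P S := ((algebraMap k S).comp (algebraMap P k)).toAlgebra
  haveI : Algebra.FormallySmooth P k := CoeffField.formallySmooth_of_perfectField P k
  haveI : IsAdicComplete (PSLib.vars n K ^ 2) S :=
    (S9604.result (PSLib.vars n K) (PSLib.vars n K ^ 2) 2 1 two_pos one_pos le_rfl
      (by rw [pow_one]; exact Ideal.pow_le_self two_ne_zero) S).1 inferInstance
  let J := PSLib.vars n K ^ 2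
  let F : k → S := fun c => MvPowerSeries.C (algebraMap k K c) + ∑ i, MvPowerSeries.C (δ i c) * MvPowerSeries.X i
  have hX : ∀ i, (MvPowerSeries.X i : S) ∈ PSLib.vars n K := fun i => Ideal.subset_span ⟨i, rfl⟩
  have hadd : ∀ a b, F (a + b) = F a + F b := fun a b => by
    simp only [F, map_add, add_mul, Finset.sum_add_distrib]
    ring
  have hmul : ∀ a b, F a * F b - F (a * b) ∈ J := fun a b => by
    have : F a * F b - F (a * b) = (∑ i, MvPowerSeries.C (δ i a) * MvPowerSeries.X i) *
        ∑ i, MvPowerSeries.C (δ i b) * MvPowerSeries.X i := by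
      simp only [F, map_mul, Derivation.leibniz, Algebra.smul_def, map_add, add_mul, Finset.sum_add_distrib,
        mul_assoc, ← Finset.mul_sum]
      ring
    rw [this]
    show _ ∈ PSLib.vars n K ^ 2
    rw [sq]
    exact Ideal.mul_mem_mul (Ideal.sum_mem _ fun i _ => Ideal.mul_mem_left _ _ (hX i))
      (Ideal.sum_mem _ fun i _ => Ideal.mul_mem_left _ _ (hX i))
  let f : k →ₐ[P] S ⧸ J :=
    { toFun := fun c => Ideal.Quotient.mk J (F c)
      map_one' := by simp [F]
      map_mul' := fun a b => by rw [← map_mul]; exact (Ideal.Quotient.eq.2 (hmul a b)).symm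
      map_zero' := by simp [F]
      map_add' := fun a b => by rw [hadd, map_add]
      commutes' := fun x => by
        obtain ⟨m, hm⟩ := ZMod.natCast_zmod_surjective (n := p) x.down
        have hx : algebraMap P k x = (m : k) := by
          show ZMod.castHom dvd_rfl k x.down = _
          rw [← hm, map_natCast]
        show Ideal.Quotient.mk J (F (algebraMap P k x)) = Ideal.Quotient.mk J (algebraMap k S (algebraMap P k x))
        rw [hx]
        simp [F] }
  obtain ⟨g, hg⟩ := Algebra.FormallySmooth.exists_mkₐ_comp_eq_of_isAdicComplete f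
  exact ⟨g.toRingHom, fun c => Ideal.Quotient.eq.1 (AlgHom.congr_fun hg c)⟩

/-- Existence in every dimension at least the imperfection. -/
theorem exists_fs_complete_local (hU : Module.Finite K (EGA41.imperfection ℤ k K)) (n : ℕ)
    (hn : Module.finrank K (EGA41.imperfection ℤ k K) ≤ n) :
    ∃ (A : Type u) (_ : CommRing A) (_ : IsLocalRing A) (_ : IsNoetherianRing A) (_ : Algebra k A),
      IsAdicComplete (maximalIdeal A) A ∧ CAlgX.IsAdicFormallySmooth k A (maximalIdeal A) ∧
      Nonempty (ResidueField A ≃ₐ[k] K) ∧ ringKrullDim A = n := by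
  classical
  let A := MvPowerSeries (Fin n) K
  haveI : IsRegularLocalRing A := PSLib.isRegularLocalRing (K := K) (n := n)
  haveI hc : IsAdicComplete (maximalIdeal A) A := by rw [PSLib.maximalIdeal_eq_vars]; infer_instance
  letI : Algebra A K := (MvPowerSeries.constantCoeff (σ := Fin n) (R := K)).toAlgebra
  have hsurj : Function.Surjective (algebraMap A K) := fun y =>
    ⟨MvPowerSeries.C y, MvPowerSeries.constantCoeff_C y⟩
  have hker : ∀ a, residue A a = 0 ↔ MvPowerSeries.constantCoeff a = 0 := fun a => by
    rw [residue_eq_zero_iff, PSLib.maximalIdeal_eq_vars, PSLib.mem_vars_iff]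
  have hiso : ∀ (inst : Algebra k A), (∀ c, MvPowerSeries.constantCoeff (@algebraMap k A _ _ inst c) = algebraMap k K c) →
      Nonempty (@AlgEquiv k (ResidueField A) K _ _ _ (@ResidueField.algebra A _ _ k _ inst) _) := by
    intro inst hcc
    letI := inst
    let g : ResidueField A →ₐ[k] K :=
      { (Ideal.Quotient.lift (maximalIdeal A) (MvPowerSeries.constantCoeff (σ := Fin n) (R := K))
          (fun a ha => (hker a).1 ((residue_eq_zero_iff a).2 ha)) : ResidueField A →+* K) with
        commutes' := fun c => hcc c }
    exact ⟨AlgEquiv.ofBijective g ⟨g.toRingHom.injective, fun y =>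
      ⟨residue A (MvPowerSeries.C y),
        (Ideal.Quotient.lift_mk (maximalIdeal A) _ _).trans (MvPowerSeries.constantCoeff_C y)⟩⟩⟩
  rcases CharP.exists' k with h0 | ⟨p, hp, hk⟩
  · letI inst : Algebra k A := (MvPowerSeries.C.comp (algebraMap k K)).toAlgebra
    exact ⟨A, inferInstance, inferInstance, inferInstance, inst, hc, RegFS6.fs_of_regular k A,
      hiso inst fun c => MvPowerSeries.constantCoeff_C _, PSLib.ringKrullDim_eq K n⟩
  · haveI := hp
    let U := EGA41.imperfection ℤ k K
    haveI : Module.Free K U := Module.Free.of_divisionRing K U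
    let b := Module.finBasis K U
    let L : Fin n → U →ₗ[K] K := fun i => if h : (i : ℕ) < Module.finrank K U then b.coord ⟨i, h⟩ else 0
    choose lam hlam using fun i => LinearMap.exists_extend (L i)
    let δ : Fin n → Derivation ℤ k K := fun i =>
      (((lam i).restrictScalars k).comp ((TensorProduct.mk k K (Ω[k⁄ℤ]) 1))).compDer (KaehlerDifferential.D ℤ k)
    obtain ⟨φ, hφ⟩ := exists_ringHom_ps p δ
    letI inst : Algebra k A := φ.toAlgebra
    have hcc : ∀ c, MvPowerSeries.constantCoeff (algebraMap k A c) = algebraMap k K c := fun c => by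
      have h := PSLib.mem_vars_iff.1 (Ideal.pow_le_self two_ne_zero (hφ c))
      rw [map_sub, sub_eq_zero] at h
      refine h.trans ?_
      simp
    haveI : IsScalarTower k A K := IsScalarTower.of_algebraMap_eq fun c => (hcc c).symm
    let E : Fin n → Derivation ℤ A K := fun i =>
      (Algebra.linearMap A K).compDer ((MvPowerSeries.pderiv K i).restrictScalars ℤ)
    have hEφ : ∀ i c, E i (algebraMap k A c) = δ i c := fun i c => by
      have h2 : ∀ u ∈ PSLib.vars n K ^ 2, E i u = 0 := fun u hu => by
        rw [sq] at hu
        refine Submodule.smul_induction_on hu (fun a ha b hb => ?_) fun a b ha hb => by rw [map_add, ha, hb, add_zero]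
        rw [smul_eq_mul, Derivation.leibniz, Algebra.smul_def, Algebra.smul_def,
          show algebraMap A K a = 0 from PSLib.mem_vars_iff.1 ha, show algebraMap A K b = 0 from PSLib.mem_vars_iff.1 hb,
          zero_mul, zero_mul, add_zero]
      have h := h2 _ (hφ c)
      rw [map_sub, sub_eq_zero] at h
      refine h.trans ?_
      show MvPowerSeries.constantCoeff (MvPowerSeries.pderiv K i _) = _
      rw [map_add, map_sum, MvPowerSeries.pderiv_C, zero_add, map_sum, Finset.sum_eq_single i]
      · rw [Derivation.leibniz, MvPowerSeries.pderiv_C, MvPowerSeries.pderiv_X]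
        simp
      · intro j _ hj
        rw [Derivation.leibniz, MvPowerSeries.pderiv_C, MvPowerSeries.pderiv_X]
        simp [hj]
      · exact fun h => absurd (Finset.mem_univ i) h
    have hlamE : ∀ i z, LinearMap.liftBaseChange K (E i).liftKaehlerDifferential (baseDiffMap k A K z) = lam i z := by
      intro i z
      induction z using TensorProduct.induction_on with
      | zero => simp
      | add x y hx hy => simp only [map_add, hx, hy]
      | tmul c ω =>
        rw [show c ⊗ₜ[k] ω = c • ((1 : K) ⊗ₜ[k] ω) by rw [smul_tmul', smul_eq_mul, mul_one], map_smul, map_smul,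
          map_smul]
        congr 1
        simp only [baseDiffMap, LinearMap.liftBaseChange_tmul, one_smul, LinearMap.comp_apply,
          LinearMap.restrictScalars_apply, TensorProduct.mk_apply]
        have hω : ω ∈ Submodule.span k (Set.range (KaehlerDifferential.D ℤ k)) := by
          rw [KaehlerDifferential.span_range_derivation]; trivial
        induction hω using Submodule.span_induction with
        | mem w hw =>
          obtain ⟨w, rfl⟩ := hw
          rw [KaehlerDifferential.map_D, Derivation.liftKaehlerDifferential_comp_D, hEφ]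
          rfl
        | zero => simp
        | add v w _ _ hv hw => simp only [tmul_add, map_add, hv, hw]
        | smul a w _ hw =>
          rw [tmul_smul, LinearMap.map_smul_of_tower, LinearMap.map_smul_of_tower, hw,
            LinearMap.map_smul_of_tower]
    have hι : Function.Injective (baseDiffMap k A K) := (injective_iff_map_eq_zero _).2 fun z hz => by
      have hzU : z ∈ U := by
        show KaehlerDifferential.mapBaseChange ℤ k K z = 0
        rw [← mapBaseChange_baseDiffMap k A K z, hz, map_zero]
      have h0 : b.repr ⟨z, hzU⟩ = 0 := Finsupp.ext fun j => by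
        have h := hlamE ⟨j, j.2.trans_le hn⟩ z
        rw [hz, map_zero, show lam ⟨j, j.2.trans_le hn⟩ z = L ⟨j, j.2.trans_le hn⟩ ⟨z, hzU⟩ from
          LinearMap.congr_fun (hlam _) ⟨z, hzU⟩] at h
        simp only [L, dif_pos j.2, Module.Basis.coord_apply] at h
        exact h.symm
      exact congrArg Subtype.val ((map_eq_zero_iff _ b.repr.injective).1 h0)
    exact ⟨A, inferInstance, inferInstance, inferInstance, inst, hc,
      S2471.result.2 ⟨inferInstance, (injective_baseDiffMap_iff k A K hsurj).1 hι⟩, hiso inst hcc,
      PSLib.ringKrullDim_eq K n⟩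

end Groth.Agent.Ega41H93
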