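import Groth.Agent.AdicFS4.Split
import Groth.Agent.RegFS6.Field
import Groth.Agent.S0561
import Groth.Agent.SmoothingLib.GeomRegDiff

/-!
# Jacobian criteria for formal smoothness of quotients
-/

set_option linter.style.haveILetI false

namespace Groth.Agent.Ega41H93

open IsLocalRing TensorProduct

universe u

/-- Adic formal smoothness passes along isomorphisms of local algebras. -/
theorem fs_maximalIdeal_of_algEquiv {k S T : Type u} [CommRing k] [CommRing S] [CommRing T] [IsLocalRing S]
    [IsLocalRing T] [Algebra k S] [Algebra k T] (e : S ≃ₐ[k] T)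
    (h : CAlgX.IsAdicFormallySmooth k S (maximalIdeal S)) : CAlgX.IsAdicFormallySmooth k T (maximalIdeal T) := by
  intro E _ _ J hJ ψ hψ
  obtain ⟨n, hn⟩ := hψ
  have hle : ∀ j, (maximalIdeal S ^ j).map e.toRingEquiv.toRingHom ≤ maximalIdeal T ^ j := fun j => by
    rw [Ideal.map_pow]
    refine Ideal.pow_right_mono (Ideal.map_le_iff_le_comap.2 fun x hx => ?_) j
    exact (mem_maximalIdeal _).2 fun hu => (mem_maximalIdeal _).1 hx (isUnit_of_map_unit e x hu)
  obtain ⟨χ, hχ⟩ := h E J hJ (ψ.comp e.toAlgHom)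
    ⟨n, fun x hx => hn _ (hle n (Ideal.mem_map_of_mem _ hx))⟩
  refine ⟨χ.comp e.symm.toAlgHom, AlgHom.ext fun t => ?_⟩
  have := AlgHom.congr_fun hχ (e.symm t)
  simpa using this

section Det

variable {R : Type*} {A : Type u} [CommRing R] [CommRing A] [Algebra R A] (P : Ideal A) [P.IsPrime]

/-- If derivations detect every combination modulo a prime, some Jacobian minor avoids the prime. -/
theorem exists_det_of_detect {m : ℕ} (y : Fin m → A)
    (H : ∀ c : Fin m → A, (∃ j, c j ∉ P) → ∃ D : Derivation R A A, (∑ j, c j * D (y j)) ∉ P) :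
    ∃ D : Fin m → Derivation R A A, Matrix.det (Matrix.of fun i j => D i (y j)) ∉ P := by
  classical
  let κ := P.ResidueField
  let Φ : Derivation R A A → (Fin m → κ) := fun D j => algebraMap A κ (D (y j))
  have hspan : Submodule.span κ (Set.range Φ) = ⊤ := by
    by_contra hne
    obtain ⟨φ, hφ0, hφ⟩ := Submodule.exists_le_ker_of_lt_top _ (lt_top_iff_ne_top.2 hne)
    let c : Fin m → κ := fun j => φ (Pi.single j 1)
    have hφc : ∀ v : Fin m → κ, φ v = ∑ j, v j * c j := fun v => by
      conv_lhs => rw [pi_eq_sum_univ' v]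
      rw [map_sum]
      exact Finset.sum_congr rfl fun j _ => by rw [map_smul, smul_eq_mul]
    obtain ⟨t, ht⟩ := IsLocalization.exist_integer_multiples_of_finite (nonZeroDivisors (A ⧸ P)) c
    choose b hb using ht
    choose a ha using fun j => Ideal.Quotient.mk_surjective (b j)
    have hbc : ∀ j, algebraMap A κ (a j) = algebraMap (A ⧸ P) κ t * c j := fun j => by
      rw [IsScalarTower.algebraMap_apply A (A ⧸ P) κ, Ideal.Quotient.algebraMap_eq, ha, hb j, Algebra.smul_def]
    obtain ⟨j, hj⟩ : ∃ j, a j ∉ P := by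
      by_contra hall
      push Not at hall
      refine hφ0 (LinearMap.ext fun v => ?_)
      rw [hφc, LinearMap.zero_apply]
      refine Finset.sum_eq_zero fun j _ => ?_
      have h1 := hbc j
      rw [Ideal.algebraMap_residueField_eq_zero.2 (hall j), eq_comm, mul_eq_zero] at h1
      rw [h1.resolve_left (IsLocalization.map_units κ t).ne_zero, mul_zero]
    obtain ⟨D, hD⟩ := H a ⟨j, hj⟩
    refine hD (Ideal.algebraMap_residueField_eq_zero.1 ?_)
    rw [map_sum]
    have h0 : ∑ j, Φ D j * c j = 0 := by rw [← hφc]; exact hφ (Submodule.subset_span ⟨D, rfl⟩)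
    calc ∑ j, algebraMap A κ (a j * D (y j)) = algebraMap (A ⧸ P) κ t * ∑ j, Φ D j * c j := by
          rw [Finset.mul_sum]
          exact Finset.sum_congr rfl fun j _ => by rw [map_mul, hbc]; ring
      _ = 0 := by rw [h0, mul_zero]
  obtain ⟨s, hs, hst, hli⟩ := exists_linearIndependent κ (Set.range Φ)
  rw [hspan] at hst
  let bs := Module.Basis.mk hli (by rw [Subtype.range_coe, hst])
  let e := (Pi.basisFun κ (Fin m)).indexEquiv bs
  choose D hD using fun i => hs (e i).2
  refine ⟨D, fun h => ?_⟩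
  have h1 : ((Matrix.of fun i j => D i (y j)).map (algebraMap A κ)).det = 0 := by
    rw [← RingHom.mapMatrix_apply, ← RingHom.map_det, Ideal.algebraMap_residueField_eq_zero]
    exact h
  have h2 : LinearIndependent κ ((Matrix.of fun i j => D i (y j)).map (algebraMap A κ)).row := by
    have : ((Matrix.of fun i j => D i (y j)).map (algebraMap A κ)).row = fun i => ((e i : s) : Fin m → κ) :=
      funext fun i => by rw [← hD i]; rfl
    rw [this]
    exact hli.comp e e.injective
  exact ((Matrix.isUnit_iff_isUnit_det _).1 (Matrix.linearIndependent_rows_iff_isUnit.1 h2)).ne_zero h1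

/-- Derivations dual to `y` up to the determinant. -/
theorem exists_dual_of_det {m : ℕ} (y : Fin m → A) (D : Fin m → Derivation R A A) :
    ∃ D' : Fin m → Derivation R A A, ∀ i j,
      D' i (y j) = if i = j then Matrix.det (Matrix.of fun i j => D i (y j)) else 0 := by
  classical
  let M := Matrix.of fun i j => D i (y j)
  refine ⟨fun i => ∑ l, M.adjugate i l • D l, fun i j => ?_⟩
  have h := congrFun (congrFun (Matrix.adjugate_mul M) i) j
  rw [Matrix.mul_apply] at h
  rw [← Derivation.coeFnAddMonoidHom_apply, map_sum, Finset.sum_apply]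
  simp only [Derivation.coeFnAddMonoidHom_apply, Derivation.smul_apply, smul_eq_mul]
  refine h.trans ?_
  simp [Matrix.one_apply, M]

end Det

section Local

variable {k R : Type u} [Field k] [CommRing R] [IsLocalRing R] [IsNoetherianRing R] [Algebra k R]
  (hR : CAlgX.IsAdicFormallySmooth k R (maximalIdeal R)) (J : Ideal R) [IsLocalRing (R ⧸ J)]

include hR in
/-- An invertible Jacobian gives formal smoothness of the quotient. -/
theorem fs_quot_of_det {m : ℕ} (f : Fin m → R) (hJ : J = Ideal.span (Set.range f))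
    (D : Fin m → Derivation k R (ResidueField R)) (hdet : Matrix.det (Matrix.of fun i j => D i (f j)) ≠ 0) :
    CAlgX.IsAdicFormallySmooth k (R ⧸ J) (maximalIdeal (R ⧸ J)) := by
  classical
  have hsurj : Function.Surjective (algebraMap R (R ⧸ J)) := Ideal.Quotient.mk_surjective
  have hmax : (maximalIdeal R).map (algebraMap R (R ⧸ J)) = maximalIdeal (R ⧸ J) :=
    IsLocalRing.map_maximalIdeal_of_surjective _ hsurj
  have hcm : (maximalIdeal (R ⧸ J)).comap (algebraMap R (R ⧸ J)) = maximalIdeal R := by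
    haveI : IsLocalHom (algebraMap R (R ⧸ J)) := .of_surjective _ hsurj
    exact maximalIdeal_comap _
  rw [← hmax]
  refine AdicFS4.isAdicFormallySmooth_of_hasSplit hsurj hR (Q := maximalIdeal (R ⧸ J)) (n₀ := 1) (m := 1)
    (by rw [pow_one, hmax]) (by rw [pow_one, hmax]) ?_
  have hker : RingHom.ker (algebraMap R (R ⧸ J)) = J := Ideal.mk_ker
  let K := RingHom.ker (algebraMap R (R ⧸ J))
  let V := K.Cotangent ⧸ ((maximalIdeal (R ⧸ J)).comap (algebraMap R (R ⧸ J)) • ⊤ : Submodule R K.Cotangent)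
  have hV : ∀ r ∈ maximalIdeal R, ∀ v : V, r • v = 0 := fun r hr v => by
    obtain ⟨t, rfl⟩ := Submodule.Quotient.mk_surjective _ v
    rw [← Submodule.Quotient.mk_smul, Submodule.Quotient.mk_eq_zero]
    exact Submodule.smul_mem_smul (hcm.symm ▸ hr) trivial
  have hfm : ∀ j, f j ∈ K := fun j => by
    show algebraMap R (R ⧸ J) (f j) = 0
    exact Ideal.Quotient.eq_zero_iff_mem.2 (hJ ▸ Ideal.subset_span ⟨j, rfl⟩)
  have hJm : J ≤ maximalIdeal R := fun x hx => by
    rw [← hcm, Ideal.mem_comap]
    rw [Ideal.Quotient.algebraMap_eq, Ideal.Quotient.eq_zero_iff_mem.2 hx]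
    exact zero_mem _
  let cl : Fin m → V := fun j => Submodule.Quotient.mk (K.toCotangent ⟨f j, hfm j⟩)
  let ℓ : Fin m → (ResidueField R →ₗ[R] V) := fun j =>
    Submodule.liftQ (maximalIdeal R : Submodule R R) (LinearMap.toSpanSingleton R V (cl j)) fun r hr => hV r hr _
  have hℓ : ∀ j r, ℓ j (residue R r) = r • cl j := fun j r => rfl
  let M := Matrix.of fun i j => D i (f j)
  let D₀ : Derivation k R V := ∑ j, (ℓ j).compDer (∑ i, M⁻¹ j i • D i)
  refine ⟨D₀, fun x => ?_⟩
  have hD₀ : ∀ b, D₀ b = ∑ j, ℓ j (∑ i, M⁻¹ j i * D i b) := fun b => by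
    show Derivation.coeFnAddMonoidHom D₀ b = _
    rw [map_sum, Finset.sum_apply]
    refine Finset.sum_congr rfl fun j _ => ?_
    show ℓ j (Derivation.coeFnAddMonoidHom (∑ i, M⁻¹ j i • D i) b) = _
    rw [map_sum, Finset.sum_apply]
    simp
  have hDf : ∀ l, D₀ (f l) = cl l := fun l => by
    rw [hD₀, Finset.sum_eq_single l]
    · rw [show ∑ i, M⁻¹ l i * D i (f l) = (M⁻¹ * M) l l from (Matrix.mul_apply ..).symm,
        Matrix.nonsing_inv_mul _ (isUnit_iff_ne_zero.2 hdet), Matrix.one_apply_eq, ← map_one (residue R), hℓ, one_smul]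
    · intro j _ hj
      rw [show ∑ i, M⁻¹ j i * D i (f l) = (M⁻¹ * M) j l from (Matrix.mul_apply ..).symm,
        Matrix.nonsing_inv_mul _ (isUnit_iff_ne_zero.2 hdet), Matrix.one_apply_ne hj, map_zero]
    · intro h; exact absurd (Finset.mem_univ l) h
  obtain ⟨x, hx⟩ := x
  obtain ⟨a, ha⟩ := Ideal.mem_span_range_iff_exists_fun.1 (hJ ▸ hker ▸ hx : x ∈ Ideal.span (Set.range f))
  subst ha
  show D₀ (∑ l, a l * f l) = _
  have hx' : (⟨∑ l, a l * f l, hx⟩ : K) = ∑ l, a l • ⟨f l, hfm l⟩ := Subtype.ext (by simp)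
  rw [hx', map_sum, map_sum, ← Submodule.mkQ_apply, map_sum]
  refine Finset.sum_congr rfl fun l _ => ?_
  rw [Derivation.leibniz, hDf, hV (f l) (hJm (hker ▸ hfm l)), add_zero, map_smul, map_smul]
  rfl

/-- Formal smoothness of the quotient gives derivations separating minimal generators. -/
theorem exists_derivation_of_fs_quot (hfs : CAlgX.IsAdicFormallySmooth k (R ⧸ J) (maximalIdeal (R ⧸ J)))
    {m : ℕ} (f : Fin m → R) (hJ : J = Ideal.span (Set.range f))
    (hmin : ∀ a : Fin m → R, (∃ j, IsUnit (a j)) → (∑ j, a j * f j) ∉ maximalIdeal R * J) :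
    ∀ a : Fin m → R, (∃ j, IsUnit (a j)) →
      ∃ δ : Derivation k R (ResidueField R), ∑ j, a j • δ (f j) ≠ 0 := by
  classical
  intro a ha
  have hsurj : Function.Surjective (algebraMap R (R ⧸ J)) := Ideal.Quotient.mk_surjective
  haveI : IsLocalHom (algebraMap R (R ⧸ J)) := .of_surjective _ hsurj
  have hmax : (maximalIdeal R).map (algebraMap R (R ⧸ J)) = maximalIdeal (R ⧸ J) :=
    IsLocalRing.map_maximalIdeal_of_surjective _ hsurj
  have hcm : (maximalIdeal (R ⧸ J)).comap (algebraMap R (R ⧸ J)) = maximalIdeal R := maximalIdeal_comap _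
  have hker : RingHom.ker (algebraMap R (R ⧸ J)) = J := Ideal.mk_ker
  rw [← hmax] at hfs
  obtain ⟨D₀, hD₀⟩ := AdicFS4.hasSplit_of_isAdicFormallySmooth hsurj hfs (Q := maximalIdeal (R ⧸ J)) (n₀ := 1)
    (by rw [pow_one, hmax])
  let K := RingHom.ker (algebraMap R (R ⧸ J))
  let V := K.Cotangent ⧸ ((maximalIdeal (R ⧸ J)).comap (algebraMap R (R ⧸ J)) • ⊤ : Submodule R K.Cotangent)
  have hV : Module.IsTorsionBySet R V (maximalIdeal R : Set R) := fun v r => by
    obtain ⟨t, rfl⟩ := Submodule.Quotient.mk_surjective _ v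
    rw [← Submodule.Quotient.mk_smul, Submodule.Quotient.mk_eq_zero]
    exact Submodule.smul_mem_smul (hcm.symm ▸ r.2) trivial
  letI : Module (ResidueField R) V := hV.module
  haveI : IsScalarTower R (ResidueField R) V := hV.isScalarTower
  have hfm : ∀ j, f j ∈ K := fun j => by
    show algebraMap R (R ⧸ J) (f j) = 0
    exact Ideal.Quotient.eq_zero_iff_mem.2 (hJ ▸ Ideal.subset_span ⟨j, rfl⟩)
  let z : K := ∑ j, a j • ⟨f j, hfm j⟩
  have hne : D₀ (z : R) ≠ 0 := by
    rw [hD₀ z, Ne, Submodule.Quotient.mk_eq_zero]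
    intro h
    refine hmin a ha ?_
    obtain ⟨w, hw, hwz⟩ : ∃ w : K, (w : R) ∈ maximalIdeal R * J ∧ K.toCotangent w = K.toCotangent z := by
      have h' : K.toCotangent z ∈ Submodule.map K.toCotangent (maximalIdeal R • ⊤ : Submodule R K) := by
        rw [Submodule.map_smul'', Submodule.map_top, LinearMap.range_eq_top.2 K.toCotangent_surjective, ← hcm]
        exact h
      obtain ⟨w, hw, hw'⟩ := h'
      refine ⟨w, ?_, hw'⟩
      have h3 := Submodule.mem_map_of_mem (f := K.subtype) hw
      rw [Submodule.map_smul'', Submodule.map_top, Submodule.range_subtype, smul_eq_mul] at h3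
      convert h3 using 2
      all_goals first | exact hker.symm | rfl
    have h2 := K.toCotangent_eq.1 hwz
    have h3 : (z : R) ∈ maximalIdeal R * J := by
      rw [← sub_sub_cancel (w : R) (z : R)]
      refine sub_mem hw ?_
      rw [sq] at h2
      have h2' : ((w : R) - (z : R)) ∈ maximalIdeal R * K := Ideal.mul_mono_left (fun x hx => by
        rw [← hcm, Ideal.mem_comap, show algebraMap R (R ⧸ J) x = 0 from hx]
        exact zero_mem _) h2
      convert h2' using 2
      exact hker.symm
    have hz : (z : R) = ∑ j, a j * f j := by simp [z]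
    rwa [hz] at h3
  obtain ⟨φ, hφ⟩ : ∃ φ : Module.Dual (ResidueField R) V, φ (D₀ (z : R)) ≠ 0 := by
    by_contra h
    push Not at h
    exact hne ((Module.forall_dual_apply_eq_zero_iff (ResidueField R) _).1 h)
  refine ⟨(φ.restrictScalars R).compDer D₀, ?_⟩
  have hz : (z : R) = ∑ j, a j * f j := by simp [z]
  rw [hz, map_sum, map_sum] at hφ
  refine fun h0 => hφ (Eq.trans ?_ h0)
  refine Finset.sum_congr rfl fun j _ => ?_
  have hfj : f j ∈ maximalIdeal R := by
    rw [← hcm, Ideal.mem_comap]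
    rw [show algebraMap R (R ⧸ J) (f j) = 0 from hfm j]
    exact zero_mem _
  have h0' : (f j) • D₀ (a j) = 0 := @hV (D₀ (a j)) ⟨f j, hfj⟩
  rw [Derivation.leibniz, h0', add_zero, LinearMap.map_smul_of_tower]
  rfl

omit [IsNoetherianRing R] [Algebra k R] [IsLocalRing (R ⧸ J)] in
/-- A generating family can be shrunk to a minimal one. -/
theorem exists_minimal_gens {m : ℕ} (f : Fin m → R) (hJ : J = Ideal.span (Set.range f)) :
    ∃ (m' : ℕ) (σ : Fin m' → Fin m), J = Ideal.span (Set.range (f ∘ σ)) ∧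
      ∀ a : Fin m' → R, (∃ j, IsUnit (a j)) → (∑ j, a j * f (σ j)) ∉ maximalIdeal R * J := by
  classical
  have hex : ∃ m', ∃ σ : Fin m' → Fin m, J = Ideal.span (Set.range (f ∘ σ)) := ⟨m, id, by simpa using hJ⟩
  obtain ⟨σ, hσ⟩ := Nat.find_spec hex
  refine ⟨Nat.find hex, σ, hσ, ?_⟩
  have hmin : ∀ N, N < Nat.find hex → ∀ σ' : Fin N → Fin m, J ≠ Ideal.span (Set.range (f ∘ σ')) :=
    fun N hN σ' h => Nat.find_min hex hN ⟨σ', h⟩
  revert hmin hσ σ
  generalize Nat.find hex = N
  intro σ hσ hmin a hu₀ hmem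
  obtain ⟨i, hi⟩ := hu₀
  obtain ⟨m₀, rfl⟩ : ∃ m₀, N = m₀ + 1 := ⟨N - 1, by have := i.2; omega⟩
  have hlt : ∀ σ' : Fin m₀ → Fin m, J ≠ Ideal.span (Set.range (f ∘ σ')) := hmin m₀ (by omega)
  refine hlt (σ ∘ i.succAbove) (le_antisymm ?_ ?_)
  swap
  · rw [hσ]
    exact Ideal.span_mono (by rintro _ ⟨j, rfl⟩; exact ⟨i.succAbove j, rfl⟩)
  obtain ⟨b, hb, hsum⟩ : ∃ b : Fin (m₀ + 1) → R, (∀ j, b j ∈ maximalIdeal R) ∧
      ∑ j, b j * f (σ j) = ∑ j, a j * f (σ j) := by
    rw [hσ] at hmem
    have h : (∑ j, a j * f (σ j)) ∈ maximalIdeal R • Submodule.span R (Set.range (f ∘ σ)) := hmem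
    obtain ⟨b, hb, hsum⟩ := (Submodule.mem_ideal_smul_span_iff_exists_sum (maximalIdeal R) (f ∘ σ) _).1 h
    exact ⟨b, hb, by simpa [Finsupp.sum_fintype] using hsum⟩
  have hu : IsUnit (a i - b i) := by
    rw [sub_eq_add_neg]
    refine IsLocalRing.notMem_maximalIdeal.1 fun h => ?_
    have h2 := add_mem h (hb i)
    rw [neg_add_cancel_right] at h2
    exact (mem_maximalIdeal _).1 h2 hi
  set S := Ideal.span (Set.range (f ∘ σ ∘ i.succAbove)) with hS
  rw [hσ, Ideal.span_le]
  rintro _ ⟨j, rfl⟩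
  rcases Fin.eq_self_or_eq_succAbove i j with rfl | ⟨j', rfl⟩
  · refine (Ideal.unit_mul_mem_iff_mem _ hu).1 ?_
    have h0 : ∑ l, (a l - b l) * f (σ l) = 0 := by
      simp only [sub_mul, Finset.sum_sub_distrib, hsum, sub_self]
    rw [Fin.sum_univ_succAbove _ j, add_eq_zero_iff_eq_neg] at h0
    show (a j - b j) * f (σ j) ∈ S
    rw [h0]
    exact neg_mem (Ideal.sum_mem _ fun l _ => Ideal.mul_mem_left _ _ (Ideal.subset_span ⟨l, rfl⟩))
  · exact Ideal.subset_span ⟨j', rfl⟩

omit [IsNoetherianRing R] [Algebra k R] [IsLocalRing (R ⧸ J)] in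
set_option linter.overlappingInstances false in
/-- Generators of a regular quotient can be chosen independent modulo the square of the maximal ideal. -/
theorem exists_gens_of_regular_quot [IsRegularLocalRing R] [IsRegularLocalRing (R ⧸ J)] :
    ∃ (m : ℕ) (f : Fin m → R), J = Ideal.span (Set.range f) ∧
      ∀ a : Fin m → R, (∃ j, IsUnit (a j)) → (∑ j, a j * f j) ∉ maximalIdeal R ^ 2 := by
  classical
  obtain ⟨d, hd⟩ : ∃ d : ℕ, ringKrullDim R = d := ⟨_, ((isRegularLocalRing_iff R).1 inferInstance).symm⟩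
  obtain ⟨x, c, hc, hx, hJ⟩ := S0561.result R d hd J
  refine ⟨c, fun i => x (Fin.castLE hc i), hJ, fun a ⟨i, hi⟩ hmem => ?_⟩
  have hxm : ∀ l, x l ∈ maximalIdeal R := fun l => hx ▸ Ideal.subset_span ⟨l, rfl⟩
  let v : Fin d → CotangentSpace R := fun l => (maximalIdeal R).toCotangent ⟨x l, hxm l⟩
  have hspan : ⊤ ≤ Submodule.span (ResidueField R) (Set.range v) := by
    intro y _
    obtain ⟨⟨y, hy⟩, rfl⟩ := (maximalIdeal R).toCotangent_surjective y
    obtain ⟨b, rfl⟩ := Ideal.mem_span_range_iff_exists_fun.1 (hx.symm ▸ hy : y ∈ Ideal.span (Set.range x))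
    have hy' : (⟨∑ l, b l * x l, hy⟩ : maximalIdeal R) = ∑ l, b l • ⟨x l, hxm l⟩ := Subtype.ext (by simp)
    rw [hy', map_sum]
    refine sum_mem fun l _ => ?_
    rw [map_smul, ← algebraMap_smul (ResidueField R) (b l)]
    exact Submodule.smul_mem _ _ (Submodule.subset_span ⟨l, rfl⟩)
  have hrank : Module.finrank (ResidueField R) (CotangentSpace R) = d := by
    have h := (isRegularLocalRing_iff R).1 inferInstance
    rw [hd, IsLocalRing.spanFinrank_maximalIdeal_eq_finrank_cotangentSpace] at h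
    exact_mod_cast h
  have hli : LinearIndependent (ResidueField R) v :=
    linearIndependent_of_top_le_span_of_card_eq_finrank hspan (by rw [Fintype.card_fin, hrank])
  have hli' := hli.comp _ (Fin.castLE_injective hc)
  have h0 : ∑ j, residue R (a j) • v (Fin.castLE hc j) = 0 := by
    have : (∑ j, a j • (⟨x (Fin.castLE hc j), hxm _⟩ : maximalIdeal R)) =
        (⟨∑ j, a j * x (Fin.castLE hc j), Ideal.sum_mem _ fun j _ => Ideal.mul_mem_left _ _ (hxm _)⟩ : maximalIdeal R) :=
      Subtype.ext (by simp)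
    have h1 := congrArg (maximalIdeal R).toCotangent this
    rw [map_sum, Ideal.toCotangent_eq_zero _ _ |>.2 hmem] at h1
    rw [← h1]
    refine Finset.sum_congr rfl fun j _ => ?_
    rw [map_smul, ← ResidueField.algebraMap_eq, algebraMap_smul]
  have := Fintype.linearIndependent_iff.1 hli' (fun j => residue R (a j)) h0 i
  exact (residue_eq_zero_iff _).1 this |> fun h => (mem_maximalIdeal _).1 h hi

end Local

section AtPrime

variable {k A : Type u} [Field k] [CommRing A] [IsNoetherianRing A] [Algebra k A]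

omit [IsNoetherianRing A] in
/-- The local ring of a quotient is the quotient of the local ring. -/
theorem exists_atPrime_quot_equiv (q P : Ideal A) [P.IsPrime] (hq : q ≤ P) [(P.map (Ideal.Quotient.mk q)).IsPrime] :
    IsLocalRing (Localization.AtPrime P ⧸ q.map (algebraMap A (Localization.AtPrime P))) ∧
      Nonempty (Localization.AtPrime (P.map (Ideal.Quotient.mk q)) ≃ₐ[k]
        (Localization.AtPrime P ⧸ q.map (algebraMap A (Localization.AtPrime P)))) := by
  let R := Localization.AtPrime P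
  let qR := q.map (algebraMap A R)
  let P' := P.map (Ideal.Quotient.mk q)
  have hne : qR ≠ ⊤ := fun h => (maximalIdeal.isMaximal R).ne_top (top_le_iff.1 (h ▸ Ideal.map_le_iff_le_comap.2 fun x hx =>
    (IsLocalization.AtPrime.to_map_mem_maximal_iff R P x).2 (hq hx)))
  haveI : Nontrivial (R ⧸ qR) := Ideal.Quotient.nontrivial_iff.2 hne
  haveI hloc : IsLocalRing (R ⧸ qR) := .of_surjective' (Ideal.Quotient.mk qR) Ideal.Quotient.mk_surjective
  let g : A ⧸ q →+* R ⧸ qR := Ideal.quotientMap qR (algebraMap A R) Ideal.le_comap_map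
  letI : Algebra (A ⧸ q) (R ⧸ qR) := g.toAlgebra
  have hg : ∀ a, algebraMap (A ⧸ q) (R ⧸ qR) (Ideal.Quotient.mk q a) = Ideal.Quotient.mk qR (algebraMap A R a) :=
    fun a => rfl
  have hP' : P'.comap (Ideal.Quotient.mk q) = P := by
    rw [Ideal.comap_map_of_surjective _ Ideal.Quotient.mk_surjective, ← RingHom.ker_eq_comap_bot, Ideal.mk_ker,
      sup_eq_left.2 hq]
  have e : P.primeCompl.map (Ideal.Quotient.mk q) = P'.primeCompl := by
    ext d
    obtain ⟨c, rfl⟩ := Ideal.Quotient.mk_surjective d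
    constructor
    · rintro ⟨c', hc', hcc⟩ hd
      rw [← hcc] at hd
      exact hc' (hP' ▸ hd)
    · exact fun hd => ⟨c, fun h => hd (show c ∈ P'.comap (Ideal.Quotient.mk q) from hP'.symm ▸ h), rfl⟩
  haveI : IsLocalization P'.primeCompl (R ⧸ qR) := by
    rw [← e]
    refine IsLocalization.of_surjective P.primeCompl R (Ideal.Quotient.mk q) Ideal.Quotient.mk_surjective
      (Ideal.Quotient.mk qR) Ideal.Quotient.mk_surjective (RingHom.ext fun a => (hg a).symm) ?_
    rw [Ideal.mk_ker, Ideal.mk_ker]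
  haveI : IsScalarTower k (A ⧸ q) (R ⧸ qR) := IsScalarTower.of_algebraMap_eq fun c => rfl
  exact ⟨hloc, ⟨(IsLocalization.algEquiv P'.primeCompl (Localization.AtPrime P') (R ⧸ qR)).restrictScalars k⟩⟩

omit [IsNoetherianRing A] in
/-- Derivations extend to the local ring at a prime, with values in the residue field. -/
theorem exists_derivation_atPrime (P : Ideal A) [P.IsPrime] (D : Derivation k A A) :
    ∃ δ : Derivation k (Localization.AtPrime P) (ResidueField (Localization.AtPrime P)),
      ∀ a, δ (algebraMap A (Localization.AtPrime P) a) = algebraMap A P.ResidueField (D a) := by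
  let R := Localization.AtPrime P
  haveI : Algebra.FormallyEtale A R := .of_isLocalization P.primeCompl
  let e := KaehlerDifferential.tensorKaehlerEquivOfFormallyEtale k A R
  let d : Derivation k A (ResidueField R) := (Algebra.linearMap A (ResidueField R)).compDer D
  refine ⟨((LinearMap.liftBaseChange R d.liftKaehlerDifferential).comp e.symm.toLinearMap).compDer
    (KaehlerDifferential.D k R), fun a => ?_⟩
  show LinearMap.liftBaseChange R _ (e.symm (KaehlerDifferential.D k R (algebraMap A R a))) = _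
  rw [KaehlerDifferential.tensorKaehlerEquivOfFormallyEtale_symm_D_algebraMap, LinearMap.liftBaseChange_tmul,
    one_smul, Derivation.liftKaehlerDifferential_comp_D]
  rfl

/-- The Jacobian condition gives formal smoothness. -/
theorem fs_atPrime_of_det (q P : Ideal A) [P.IsPrime] (hq : q ≤ P) [(P.map (Ideal.Quotient.mk q)).IsPrime]
    (hR : CAlgX.IsAdicFormallySmooth k (Localization.AtPrime P) (maximalIdeal (Localization.AtPrime P)))
    {m : ℕ} (D : Fin m → Derivation k A A) (f : Fin m → A)
    (hspan : q.map (algebraMap A (Localization.AtPrime P)) =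
      Ideal.span (Set.range fun i => algebraMap A (Localization.AtPrime P) (f i)))
    (hdet : Matrix.det (Matrix.of fun i j => D i (f j)) ∉ P) :
    CAlgX.IsAdicFormallySmooth k (Localization.AtPrime (P.map (Ideal.Quotient.mk q)))
      (maximalIdeal (Localization.AtPrime (P.map (Ideal.Quotient.mk q)))) := by
  obtain ⟨hloc, ⟨e⟩⟩ := exists_atPrime_quot_equiv (k := k) q P hq
  haveI := hloc
  haveI : IsNoetherianRing (Localization.AtPrime P) := IsLocalization.isNoetherianRing P.primeCompl _ inferInstance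
  choose δ hδ using fun i => exists_derivation_atPrime P (D i)
  refine fs_maximalIdeal_of_algEquiv e.symm (fs_quot_of_det hR _ _ hspan δ ?_)
  have : (Matrix.of fun i j => δ i (algebraMap A (Localization.AtPrime P) (f j))) =
      (Matrix.of fun i j => D i (f j)).map (algebraMap A P.ResidueField) := by
    ext i j; exact hδ i (f j)
  rw [this, ← RingHom.mapMatrix_apply, ← RingHom.map_det, Ne]
  exact fun h => hdet (Ideal.algebraMap_residueField_eq_zero.1 h)

/-- Formal smoothness gives the Jacobian condition when derivations of `A` detect the others. -/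
theorem exists_det_of_fs (q P : Ideal A) [P.IsPrime] (hq : q ≤ P) [(P.map (Ideal.Quotient.mk q)).IsPrime]
    (hdetect : ∀ x ∈ P, ∀ δ : Derivation k (Localization.AtPrime P) (ResidueField (Localization.AtPrime P)),
      δ (algebraMap A (Localization.AtPrime P) x) ≠ 0 → ∃ D : Derivation k A A, D x ∉ P)
    (hfs : CAlgX.IsAdicFormallySmooth k (Localization.AtPrime (P.map (Ideal.Quotient.mk q)))
      (maximalIdeal (Localization.AtPrime (P.map (Ideal.Quotient.mk q))))) :
    ∃ (m : ℕ) (D : Fin m → Derivation k A A) (f : Fin m → A), (∀ i, f i ∈ q) ∧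
      q.map (algebraMap A (Localization.AtPrime P)) =
        Ideal.span (Set.range fun i => algebraMap A (Localization.AtPrime P) (f i)) ∧
      Matrix.det (Matrix.of fun i j => D i (f j)) ∉ P := by
  classical
  obtain ⟨hloc, ⟨e⟩⟩ := exists_atPrime_quot_equiv (k := k) q P hq
  haveI := hloc
  let R := Localization.AtPrime P
  haveI : IsNoetherianRing R := IsLocalization.isNoetherianRing P.primeCompl _ inferInstance
  obtain ⟨N, g, hg⟩ := Submodule.fg_iff_exists_fin_generating_family.1 (IsNoetherian.noetherian q)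
  have hgq : q.map (algebraMap A R) = Ideal.span (Set.range fun i => algebraMap A R (g i)) := by
    rw [← hg, Ideal.submodule_span_eq, Ideal.map_span, ← Set.range_comp]
    rfl
  obtain ⟨m, σ, hσ, hmin⟩ := exists_minimal_gens (q.map (algebraMap A R)) _ hgq
  have hfq : ∀ i, g (σ i) ∈ q := fun i => hg ▸ Submodule.subset_span ⟨σ i, rfl⟩
  have key := exists_derivation_of_fs_quot (q.map (algebraMap A R)) (fs_maximalIdeal_of_algEquiv e hfs)
    (fun i => algebraMap A R (g (σ i))) hσ hmin
  obtain ⟨D, hD⟩ := exists_det_of_detect (R := k) P (fun i => g (σ i)) fun c ⟨j, hj⟩ => by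
    obtain ⟨δ, hδ⟩ := key (fun i => algebraMap A R (c i)) ⟨j, IsLocalization.map_units R (⟨c j, hj⟩ : P.primeCompl)⟩
    have hx : (∑ i, c i * g (σ i)) ∈ P := Ideal.sum_mem _ fun i _ => Ideal.mul_mem_left _ _ (hq (hfq i))
    have hgm : ∀ i, ∀ z : ResidueField R, (algebraMap A R (g (σ i))) • z = 0 := fun i z => by
      rw [Algebra.smul_def, ResidueField.algebraMap_eq,
        (residue_eq_zero_iff _).2 ((IsLocalization.AtPrime.to_map_mem_maximal_iff R P _).2 (hq (hfq i))), zero_mul]
    obtain ⟨D, hD⟩ := hdetect _ hx δ (by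
      rw [map_sum, map_sum]
      refine fun h0 => hδ (Eq.trans (Finset.sum_congr rfl fun i _ => ?_) h0)
      rw [map_mul, Derivation.leibniz, hgm, add_zero])
    refine ⟨D, fun h => hD ?_⟩
    rw [map_sum]
    have : ∑ i, D (c i * g (σ i)) = ∑ i, c i * D (g (σ i)) + ∑ i, g (σ i) * D (c i) := by
      rw [← Finset.sum_add_distrib]
      exact Finset.sum_congr rfl fun i _ => D.leibniz _ _
    rw [this]
    exact add_mem h (Ideal.sum_mem _ fun i _ => Ideal.mul_mem_right _ _ (hq (hfq i)))
  exact ⟨m, D, fun i => g (σ i), hfq, hσ, hD⟩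

/-- Regularity gives the Jacobian condition when derivations of `A` detect the cotangent space. -/
theorem exists_det_of_regular (q P : Ideal A) [P.IsPrime] (hq : q ≤ P) [(P.map (Ideal.Quotient.mk q)).IsPrime]
    [IsRegularLocalRing (Localization.AtPrime P)]
    (hdetect : ∀ x ∈ P, algebraMap A (Localization.AtPrime P) x ∉ maximalIdeal (Localization.AtPrime P) ^ 2 →
      ∃ D : Derivation k A A, D x ∉ P)
    [IsRegularLocalRing (Localization.AtPrime (P.map (Ideal.Quotient.mk q)))] :
    ∃ (m : ℕ) (D : Fin m → Derivation k A A) (f : Fin m → A), (∀ i, f i ∈ q) ∧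
      q.map (algebraMap A (Localization.AtPrime P)) =
        Ideal.span (Set.range fun i => algebraMap A (Localization.AtPrime P) (f i)) ∧
      Matrix.det (Matrix.of fun i j => D i (f j)) ∉ P := by
  classical
  obtain ⟨hloc, ⟨e⟩⟩ := exists_atPrime_quot_equiv (k := k) q P hq
  haveI := hloc
  let R := Localization.AtPrime P
  haveI : IsNoetherianRing R := IsLocalization.isNoetherianRing P.primeCompl _ inferInstance
  haveI : IsRegularLocalRing (R ⧸ q.map (algebraMap A R)) := IsRegularLocalRing.of_ringEquiv e.toRingEquiv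
  obtain ⟨m, z, hz, hind⟩ := exists_gens_of_regular_quot (q.map (algebraMap A R))
  have hzq : ∀ i, ∃ f ∈ q, ∃ s : P.primeCompl, z i * algebraMap A R s = algebraMap A R f := fun i => by
    obtain ⟨⟨a, s⟩, h⟩ := (IsLocalization.mem_map_algebraMap_iff P.primeCompl R).1
      (show z i ∈ q.map (algebraMap A R) from hz ▸ Ideal.subset_span ⟨i, rfl⟩)
    exact ⟨a, a.2, s, h⟩
  choose f hfq s hs using hzq
  have hu : ∀ i, IsUnit (algebraMap A R (s i : A)) := fun i => IsLocalization.map_units R (s i)
  have hspan : q.map (algebraMap A R) = Ideal.span (Set.range fun i => algebraMap A R (f i)) := by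
    rw [hz]
    refine le_antisymm (Ideal.span_le.2 ?_) (Ideal.span_le.2 ?_)
    · rintro _ ⟨i, rfl⟩
      rw [SetLike.mem_coe, ← Ideal.mul_unit_mem_iff_mem _ (hu i), hs i]
      exact Ideal.subset_span ⟨i, rfl⟩
    · rintro _ ⟨i, rfl⟩
      show algebraMap A R (f i) ∈ Ideal.span (Set.range z)
      rw [← hs i]
      exact Ideal.mul_mem_right _ _ (Ideal.subset_span ⟨i, rfl⟩)
  obtain ⟨D, hD⟩ := exists_det_of_detect (R := k) P f fun c ⟨j, hj⟩ => by
    have hind' := hind (fun i => algebraMap A R (c i) * algebraMap A R (s i : A))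
      ⟨j, (IsLocalization.map_units R (⟨c j, hj⟩ : P.primeCompl)).mul (hu j)⟩
    have hx : (∑ i, c i * f i) ∈ P := Ideal.sum_mem _ fun i _ => Ideal.mul_mem_left _ _ (hq (hfq i))
    obtain ⟨D, hD⟩ := hdetect _ hx (fun h2 => hind' (by
      rw [map_sum] at h2
      refine (Finset.sum_congr rfl fun i _ => ?_ : _ = ∑ i, algebraMap A R (c i * f i)) ▸ h2
      rw [map_mul, ← hs i]; ring))
    refine ⟨D, fun h => hD ?_⟩
    rw [map_sum]
    have : ∑ i, D (c i * f i) = ∑ i, c i * D (f i) + ∑ i, f i * D (c i) := by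
      rw [← Finset.sum_add_distrib]
      exact Finset.sum_congr rfl fun i _ => D.leibniz _ _
    rw [this]
    exact add_mem h (Ideal.sum_mem _ fun i _ => Ideal.mul_mem_right _ _ (hq (hfq i)))
  exact ⟨m, D, f, hfq, hspan, hD⟩

end AtPrime

end Groth.Agent.Ega41H93
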