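import Groth.Agent.Ega41H93.CplKaehlerEtale
import Groth.Agent.Ega41H93.CTensorProps

/-!
# Reduction modulo the kernel of localization, and regularity of completed base changes
-/

set_option linter.style.haveILetI false

namespace Groth.Agent.Ega41H93

open IsLocalRing TensorProduct

universe u

/-- A localization is a localization of any quotient by an ideal dying in it. -/
theorem isLocalization_atPrime_quot {C D : Type u} [CommRing C] [CommRing D] (π : C →+* D)
    (hπ : Function.Surjective π) (Q : Ideal C) [Q.IsPrime] (Q' : Ideal D) [Q'.IsPrime] (hQ : Q'.comap π = Q)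
    (hK : ∀ x ∈ RingHom.ker π, ∃ c ∉ Q, c * x = 0) :
    ∃ _ : Algebra D (Localization.AtPrime Q),
      (∀ c, algebraMap D (Localization.AtPrime Q) (π c) = algebraMap C (Localization.AtPrime Q) c) ∧
        IsLocalization.AtPrime (Localization.AtPrime Q) Q' := by
  have hker : RingHom.ker π ≤ RingHom.ker (algebraMap C (Localization.AtPrime Q)) := fun x hx => by
    obtain ⟨c, hc, h0⟩ := hK x hx
    exact (IsLocalization.map_eq_zero_iff Q.primeCompl _ x).2 ⟨⟨c, hc⟩, h0⟩
  let g : D →+* Localization.AtPrime Q := π.liftOfSurjective hπ ⟨algebraMap C (Localization.AtPrime Q), hker⟩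
  have hg : ∀ c, g (π c) = algebraMap C (Localization.AtPrime Q) c := fun c =>
    RingHom.liftOfRightInverse_comp_apply π _ _ ⟨algebraMap C (Localization.AtPrime Q), hker⟩ c
  letI := g.toAlgebra
  refine ⟨inferInstance, hg, ?_⟩
  have e : Q.primeCompl.map π = Q'.primeCompl := by
    ext d
    obtain ⟨c, rfl⟩ := hπ d
    constructor
    · rintro ⟨c', hc', hcc⟩ hd
      rw [← hcc] at hd
      exact hc' (hQ ▸ hd)
    · exact fun hd => ⟨c, fun h => hd (show c ∈ Q'.comap π from hQ.symm ▸ h), rfl⟩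
  show IsLocalization Q'.primeCompl (Localization.AtPrime Q)
  rw [← e]
  refine (isLocalization_iff _ _).2 ⟨?_, ?_, ?_⟩
  · rintro ⟨_, c, hc, rfl⟩
    show IsUnit (g (π c))
    rw [hg]
    exact IsLocalization.map_units (Localization.AtPrime Q) (⟨c, hc⟩ : Q.primeCompl)
  · intro z
    obtain ⟨⟨a, s⟩, h⟩ := IsLocalization.surj Q.primeCompl z
    refine ⟨⟨π a, ⟨π s, s, s.2, rfl⟩⟩, ?_⟩
    show z * g (π s) = g (π a)
    rw [hg, hg]; exact h
  · intro x y hxy
    obtain ⟨a, rfl⟩ := hπ x
    obtain ⟨b, rfl⟩ := hπ y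
    change g (π a) = g (π b) at hxy
    rw [hg, hg] at hxy
    obtain ⟨c, hc⟩ := IsLocalization.exists_of_eq (M := Q.primeCompl) hxy
    exact ⟨⟨π c, c, c.2, rfl⟩, by show π c * π a = π c * π b; rw [← map_mul, ← map_mul, hc]⟩

theorem regular_of_quot {C D : Type u} [CommRing C] [CommRing D] (π : C →+* D)
    (hπ : Function.Surjective π) (Q : Ideal C) [Q.IsPrime] (Q' : Ideal D) [Q'.IsPrime] (hQ : Q'.comap π = Q)
    (hK : ∀ x ∈ RingHom.ker π, ∃ c ∉ Q, c * x = 0) [IsRegularLocalRing (Localization.AtPrime Q')] :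
    IsRegularLocalRing (Localization.AtPrime Q) := by
  obtain ⟨i, -, hloc⟩ := isLocalization_atPrime_quot π hπ Q Q' hQ hK
  exact IsRegularLocalRing.of_ringEquiv (IsLocalization.algEquiv Q'.primeCompl (Localization.AtPrime Q') (Localization.AtPrime Q)).toRingEquiv

/-- The kernel of the localization cuts out the components through the prime. -/
theorem exists_reduction {A : Type u} [CommRing A] (p : Ideal A) [p.IsPrime]
    (n : ℕ) (hn₁ : ∀ q ∈ minimalPrimes A, q ≤ p → ringKrullDim (A ⧸ q) ≤ n)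
    (hn₂ : ∃ q ∈ minimalPrimes A, q ≤ p ∧ ringKrullDim (A ⧸ q) = n) :
    ∃ J : Ideal A, J ≤ p ∧ (∀ a ∈ J, ∃ c ∉ p, c * a = 0) ∧ ringKrullDim (A ⧸ J) = n ∧
      ∃ q ∈ minimalPrimes (A ⧸ J), q ≤ p.map (Ideal.Quotient.mk J) ∧ ringKrullDim ((A ⧸ J) ⧸ q) = n := by
  let J : Ideal A := RingHom.ker (algebraMap A (Localization.AtPrime p))
  have hz : ∀ a ∈ J, ∃ c ∉ p, c * a = 0 := fun a ha => by
    obtain ⟨c, hc⟩ := (IsLocalization.map_eq_zero_iff p.primeCompl _ a).1 ha
    exact ⟨c, c.2, hc⟩
  have hJle : ∀ (Q : Ideal A) [Q.IsPrime], Q ≤ p → J ≤ Q := fun Q _ hQ a ha => by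
    obtain ⟨c, hc, h0⟩ := hz a ha
    exact (Ideal.IsPrime.mem_or_mem ‹_› (h0 ▸ Q.zero_mem : c * a ∈ Q)).resolve_left fun h => hc (hQ h)
  obtain ⟨q₀, hq₀, hq₀p, hdim⟩ := hn₂
  haveI := hq₀.1.1
  have hJq := hJle q₀ hq₀p
  haveI : (q₀.map (Ideal.Quotient.mk J)).IsPrime :=
    Ideal.map_isPrime_of_surjective Ideal.Quotient.mk_surjective (by rwa [Ideal.mk_ker])
  have hcm : ∀ Q : Ideal A, J ≤ Q → (Q.map (Ideal.Quotient.mk J)).comap (Ideal.Quotient.mk J) = Q := fun Q h => by
    rw [Ideal.comap_map_of_surjective _ Ideal.Quotient.mk_surjective, ← RingHom.ker_eq_comap_bot, Ideal.mk_ker,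
      sup_eq_left.2 h]
  have hmin : q₀.map (Ideal.Quotient.mk J) ∈ minimalPrimes (A ⧸ J) := by
    refine ⟨⟨inferInstance, bot_le⟩, fun Q ⟨hQ, _⟩ hle => ?_⟩
    have h1 : Q.comap (Ideal.Quotient.mk J) ≤ q₀ := (Ideal.comap_mono hle).trans (hcm q₀ hJq).le
    rw [← Ideal.map_comap_of_surjective _ Ideal.Quotient.mk_surjective Q]
    exact Ideal.map_mono (hq₀.2 ⟨hQ.comap _, bot_le⟩ h1)
  have hdim' : ringKrullDim ((A ⧸ J) ⧸ q₀.map (Ideal.Quotient.mk J)) = n :=
    (ringKrullDim_eq_of_ringEquiv (DoubleQuot.quotQuotEquivQuotOfLE hJq)).trans hdim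
  refine ⟨J, hJle p le_rfl, hz, le_antisymm ?_ ?_, _, hmin, Ideal.map_mono hq₀p, hdim'⟩
  · rw [ringKrullDim, Order.krullDim]
    refine iSup_le fun l => ?_
    let Q : Ideal A := l.head.asIdeal.comap (Ideal.Quotient.mk J)
    haveI : Q.IsPrime := Ideal.IsPrime.comap _
    obtain ⟨P, hP, hPle⟩ := Ideal.exists_minimalPrimes_le (I := J) (J := Q) fun a ha => by
      show Ideal.Quotient.mk J a ∈ l.head.asIdeal
      rw [Ideal.Quotient.eq_zero_iff_mem.2 ha]; exact zero_mem _
    obtain ⟨P', hP', -, hPc⟩ := Ideal.exists_comap_eq_of_mem_minimalPrimes (algebraMap A (Localization.AtPrime p)) P hP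
    haveI := hP.1.1
    have hPp : P ≤ p := by
      rw [← hPc]
      exact (Ideal.comap_mono (IsLocalRing.le_maximalIdeal hP'.ne_top)).trans_eq
        (Localization.AtPrime.under_maximalIdeal (I := p))
    obtain ⟨q, hq, hqP⟩ := Ideal.exists_minimalPrimes_le (I := (⊥ : Ideal A)) (J := P) bot_le
    haveI := hq.1.1
    have h1 := hn₁ q hq (hqP.trans hPp)
    have hqQ : ∀ i, q ≤ (l i).asIdeal.comap (Ideal.Quotient.mk J) := fun i =>
      (hqP.trans hPle).trans (Ideal.comap_mono (l.monotone (Fin.zero_le i)))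
    let l' : LTSeries (PrimeSpectrum (A ⧸ q)) := LTSeries.mk l.length
      (fun i => ⟨((l i).asIdeal.comap (Ideal.Quotient.mk J)).map (Ideal.Quotient.mk q),
        Ideal.map_isPrime_of_surjective Ideal.Quotient.mk_surjective (by rw [Ideal.mk_ker]; exact hqQ i)⟩)
      (fun i j hij => by
        have h := l.strictMono hij
        refine lt_of_le_of_ne (Ideal.map_mono (Ideal.comap_mono h.le)) fun e => h.ne (PrimeSpectrum.ext ?_)
        have e' := congrArg (fun z : PrimeSpectrum (A ⧸ q) => z.asIdeal.comap (Ideal.Quotient.mk q)) e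
        simp only [Ideal.comap_map_of_surjective _ Ideal.Quotient.mk_surjective, ← RingHom.ker_eq_comap_bot,
          Ideal.mk_ker, sup_eq_left.2 (hqQ i), sup_eq_left.2 (hqQ j)] at e'
        rw [← Ideal.map_comap_of_surjective _ Ideal.Quotient.mk_surjective (l i).asIdeal, e',
          Ideal.map_comap_of_surjective _ Ideal.Quotient.mk_surjective])
    exact (le_iSup (fun s : LTSeries (PrimeSpectrum (A ⧸ q)) => ((s.length : ℕ) : WithBot ℕ∞)) l').trans
      (le_of_eq_of_le rfl h1)
  · rw [← hdim']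
    exact ringKrullDim_quotient_le _

variable (k k' : Type u) [Field k] [Field k'] [Algebra k k'] (r : ℕ)

/-- Étale points of finite power series algebras stay regular after extending the field. -/
theorem regular_psTensor_of_etaleAt (B : Type u) [CommRing B] [IsNoetherianRing B]
    [Algebra (MvPowerSeries (Fin r) k) B] [Module.Finite (MvPowerSeries (Fin r) k) B] (p : Ideal B) [p.IsPrime]
    [Algebra.IsEtaleAt (MvPowerSeries (Fin r) k) p]
    (Q : Ideal (B ⊗[MvPowerSeries (Fin r) k] MvPowerSeries (Fin r) k')) [Q.IsPrime]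
    (hQ : Q.comap (algebraMap B _) = p) : IsRegularLocalRing (Localization.AtPrime Q) := by
  haveI : IsRegularLocalRing (MvPowerSeries (Fin r) k') := PSLib.isRegularLocalRing (K := k') (n := r)
  haveI : IsRegularLocalRing (MvPowerSeries (Fin r) k) := PSLib.isRegularLocalRing (K := k) (n := r)
  haveI : IsRegularRing (MvPowerSeries (Fin r) k') := RegLoc6.isRegularRing_of_isRegularLocalRing _
  haveI : Algebra.FiniteType (MvPowerSeries (Fin r) k) B := Module.Finite.finiteType B
  haveI : Algebra.FinitePresentation (MvPowerSeries (Fin r) k) B := Algebra.FinitePresentation.of_finiteType.1 inferInstance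
  obtain ⟨f, hf, hef⟩ := Algebra.exists_etale_of_isEtaleAt (R := MvPowerSeries (Fin r) k) p
  haveI : IsRegularRing (MvPowerSeries (Fin r) k' ⊗[MvPowerSeries (Fin r) k] Localization.Away f) :=
    GeomReg.isRegularRing_of_smooth (MvPowerSeries (Fin r) k') _
  let e := IsLocalization.Away.tensorProductEquivTMulRight (MvPowerSeries (Fin r) k) (MvPowerSeries (Fin r) k') f
    (Localization.Away f)
  let C := MvPowerSeries (Fin r) k' ⊗[MvPowerSeries (Fin r) k] B
  haveI : IsRegularRing (Localization.Away ((1 : MvPowerSeries (Fin r) k') ⊗ₜ[MvPowerSeries (Fin r) k] f)) :=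
    IsRegularRing.of_ringEquiv e.toRingEquiv
  let c := (Algebra.TensorProduct.comm (MvPowerSeries (Fin r) k) (MvPowerSeries (Fin r) k') B).toRingEquiv
  let Q' : Ideal C := Q.comap c.toRingHom
  have hfQ : (1 : MvPowerSeries (Fin r) k') ⊗ₜ[MvPowerSeries (Fin r) k] f ∉ Q' := by
    intro h
    rw [Ideal.mem_comap] at h
    refine hf (hQ ▸ ?_)
    rw [Ideal.mem_comap, Algebra.TensorProduct.algebraMap_apply, Algebra.algebraMap_self, RingHom.id_apply]
    simpa [c] using h
  let g : C := (1 : MvPowerSeries (Fin r) k') ⊗ₜ[MvPowerSeries (Fin r) k] f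
  have hle : Submonoid.powers g ≤ Q'.primeCompl := Submonoid.powers_le.2 hfQ
  letI := IsLocalization.localizationAlgebraOfSubmonoidLe (Localization.Away g) (Localization.AtPrime Q')
    (Submonoid.powers g) Q'.primeCompl hle
  haveI : IsScalarTower C (Localization.Away g) (Localization.AtPrime Q') :=
    IsLocalization.localization_isScalarTower_of_submonoid_le _ _ _ _ hle
  haveI : IsLocalization (Q'.primeCompl.map (algebraMap C (Localization.Away g))) (Localization.AtPrime Q') :=
    IsLocalization.isLocalization_of_submonoid_le _ _ _ _ hle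
  haveI : IsRegularRing (Localization.AtPrime Q') :=
    GeomReg.isRegularRing_of_isLocalization (Q'.primeCompl.map (algebraMap C (Localization.Away g))) _
  haveI : IsRegularLocalRing (Localization.AtPrime Q') := IsRegularLocalRing.of_isRegularRing_of_isLocalRing _
  exact regular_of_quot c.symm.toRingHom c.symm.surjective Q Q' (by
    ext x
    show c (c.symm x) ∈ Q ↔ x ∈ Q
    rw [RingEquiv.apply_symm_apply]) (fun x hx => by
    rw [RingHom.mem_ker] at hx
    exact ⟨1, fun h => Ideal.IsPrime.ne_top' (Q.eq_top_iff_one.2 h),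
      by rw [one_mul]; exact c.symm.injective (hx.trans (map_zero _).symm)⟩)

/-- The completed tensor product as a finite algebra over power series. -/
theorem exists_ctensor_algEquiv (A : Type u) [CommRing A] [IsLocalRing A] [IsNoetherianRing A] [Algebra k A]
    [Algebra (MvPowerSeries (Fin r) k) A] [IsScalarTower k (MvPowerSeries (Fin r) k) A]
    [Module.Finite (MvPowerSeries (Fin r) k) A] [IsLocalHom (algebraMap (MvPowerSeries (Fin r) k) A)] :
    Nonempty ((A ⊗[MvPowerSeries (Fin r) k] MvPowerSeries (Fin r) k') ≃ₐ[A]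
      AdicCompletion ((maximalIdeal A).map (Algebra.TensorProduct.includeLeft : A →ₐ[k] A ⊗[k] k')) (A ⊗[k] k')) := by
  obtain ⟨Φ, hΦ⟩ := exists_ctensor_equiv k k' r A
  refine ⟨AlgEquiv.ofRingEquiv (f := Φ) fun a => ?_⟩
  rw [show algebraMap A (A ⊗[MvPowerSeries (Fin r) k] MvPowerSeries (Fin r) k') a =
      toPSTensor k k' r A (algebraMap A (A ⊗[k] k') a) by
    rw [Algebra.TensorProduct.algebraMap_apply, Algebra.TensorProduct.algebraMap_apply, toPSTensor_tmul, map_one],
    hΦ, ← IsScalarTower.algebraMap_apply]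

end Groth.Agent.Ega41H93
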