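import Groth.Agent.Ega41H93.JacobianFS
import Groth.Agent.Ega41H93.KaehlerGeomReg
import Groth.Agent.VarDim.Basic

/-!
# Partial derivatives detect the cotangent space at separable points of power series rings
-/

set_option linter.style.haveILetI false

namespace Groth.Agent.Ega41H93

open IsLocalRing TensorProduct

universe u

set_option maxHeartbeats 1600000 in
/-- Some partial derivative of an element of order one at `P` is nonzero at `P`. -/
theorem exists_pderiv_notMem {k : Type u} [Field k] {r : ℕ} (P : Ideal (MvPowerSeries (Fin r) k)) [P.IsPrime]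
    (s : ℕ) [Algebra (MvPowerSeries (Fin s) k) (MvPowerSeries (Fin r) k ⧸ P)]
    [IsScalarTower k (MvPowerSeries (Fin s) k) (MvPowerSeries (Fin r) k ⧸ P)]
    [Module.Finite (MvPowerSeries (Fin s) k) (MvPowerSeries (Fin r) k ⧸ P)]
    (hinj : Function.Injective (algebraMap (MvPowerSeries (Fin s) k) (MvPowerSeries (Fin r) k ⧸ P)))
    {L' L : Type u} [Field L'] [Field L]
    [Algebra (MvPowerSeries (Fin s) k) L'] [IsFractionRing (MvPowerSeries (Fin s) k) L']
    [Algebra (MvPowerSeries (Fin r) k ⧸ P) L] [IsFractionRing (MvPowerSeries (Fin r) k ⧸ P) L]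
    [Algebra L' L] [Algebra (MvPowerSeries (Fin s) k) L]
    [IsScalarTower (MvPowerSeries (Fin s) k) (MvPowerSeries (Fin r) k ⧸ P) L]
    [IsScalarTower (MvPowerSeries (Fin s) k) L' L] [Algebra.IsSeparable L' L]
    {x : MvPowerSeries (Fin r) k} (hx : x ∈ P)
    (hx2 : algebraMap _ (Localization.AtPrime P) x ∉ maximalIdeal (Localization.AtPrime P) ^ 2) :
    ∃ i, MvPowerSeries.pderiv k i x ∉ P := by
  classical
  let A := MvPowerSeries (Fin r) k
  let S := MvPowerSeries (Fin s) k
  let B := A ⧸ P
  haveI : IsRegularLocalRing A := PSLib.isRegularLocalRing (K := k) (n := r)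
  haveI : IsAdicComplete (maximalIdeal A) A := by rw [PSLib.maximalIdeal_eq_vars]; infer_instance
  haveI : IsNoetherianRing (Localization.AtPrime P) :=
    IsLocalization.isNoetherianRing P.primeCompl _ inferInstance
  haveI : IsRegularLocalRing (Localization.AtPrime P) := RegLoc6.isRegularLocalRing_localization A P
  obtain ⟨h, hh⟩ : ∃ h : ℕ, ringKrullDim (Localization.AtPrime P) = h :=
    ⟨_, ((isRegularLocalRing_iff _).1 inferInstance).symm⟩
  obtain ⟨g, hgP, hg⟩ := exists_generators_at P hh
  haveI : FaithfulSMul S B := (faithfulSMul_iff_algebraMap_injective _ _).2 hinj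
  haveI : IsDomain A := NoZeroDivisors.to_isDomain _
  have hdim : h + s = r := by
    have hB : ringKrullDim B = s :=
      (VarDim.ringKrullDim_eq_of_isIntegral (R := S)).trans (PSLib.ringKrullDim_eq k s)
    have h1 := LC.dim_quot_eq_add_height (⊥ : Ideal A) P bot_le
    rw [← height_le_height_map_quotient P ⊥ (fun a ha => ⟨1, P.primeCompl.one_mem, by rw [(Ideal.mem_bot).1 ha, mul_zero]⟩)
        bot_le, ← IsLocalization.AtPrime.ringKrullDim_eq_height P (Localization.AtPrime P), hh, hB,
      ringKrullDim_eq_of_ringEquiv (RingEquiv.quotientBot A), PSLib.ringKrullDim_eq k r] at h1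
    have : (r : WithBot ℕ∞) = ((s + h : ℕ) : WithBot ℕ∞) := by push_cast; exact h1
    have := Nat.cast_inj.1 this
    omega
  letI : Algebra A L := ((algebraMap B L).comp (Ideal.Quotient.mk P)).toAlgebra
  haveI : IsScalarTower A B L := ⟨fun a b c => by
    obtain ⟨b, rfl⟩ := Ideal.Quotient.mk_surjective b
    rw [show a • Ideal.Quotient.mk P b = Ideal.Quotient.mk P (a * b) from rfl, Algebra.smul_def, Algebra.smul_def (R := B),
      Algebra.smul_def (R := A), map_mul, map_mul, mul_assoc]
    rfl⟩
  letI : Algebra k L := ((algebraMap A L).comp (algebraMap k A)).toAlgebra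
  haveI : IsScalarTower k A L := IsScalarTower.of_algebraMap_eq fun _ => rfl
  haveI : IsScalarTower k B L := ⟨fun c b z => by rw [← algebraMap_smul A c b, smul_assoc, algebraMap_smul]⟩
  have h0 : ∀ a : A, algebraMap A L a = 0 ↔ a ∈ P := fun a => by
    show algebraMap B L (Ideal.Quotient.mk P a) = 0 ↔ _
    rw [map_eq_zero_iff _ (IsFractionRing.injective B L), Ideal.Quotient.eq_zero_iff_mem]
  have hsm : ∀ (a : A) (v : Fin r → L), a • v = algebraMap A L a • v := fun a v => (algebraMap_smul L a v).symm
  have hPz : ∀ a ∈ P, ∀ v : Fin r → L, a • v = 0 := fun a ha v => by rw [hsm, (h0 a).2 ha, zero_smul]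
  let Φ : Derivation k A (Fin r → L) := Derivation.mk'
    (LinearMap.pi fun i => ((Algebra.linearMap A L).restrictScalars k).comp (MvPowerSeries.pderiv k i).toLinearMap)
    fun a b => funext fun i => by
      show algebraMap A L (MvPowerSeries.pderiv k i (a * b)) =
        a • algebraMap A L (MvPowerSeries.pderiv k i b) + b • algebraMap A L (MvPowerSeries.pderiv k i a)
      rw [Derivation.leibniz, smul_eq_mul, smul_eq_mul, map_add, map_mul, map_mul, Algebra.smul_def, Algebra.smul_def]
  have hΦ : ∀ a i, Φ a i = algebraMap A L (MvPowerSeries.pderiv k i a) := fun a i => rfl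
  have hΦX : ∀ i, Φ (MvPowerSeries.X i) = Pi.single i 1 := fun i => funext fun j => by
    rw [hΦ, MvPowerSeries.pderiv_X, Pi.single_apply, Pi.single_apply]
    split_ifs <;> simp_all
  let N : Submodule L (Fin r → L) := Submodule.span L (Set.range fun l => Φ (g l))
  let V := (Fin r → L) ⧸ N
  let Φ' : Derivation k A V := (N.mkQ.restrictScalars A).compDer Φ
  have hΦ' : ∀ a, Φ' a = N.mkQ (Φ a) := fun a => rfl
  have hkill : ∀ a ∈ P, Φ' a = 0 := by
    intro a ha
    obtain ⟨c, hc, hca⟩ := hg a ha
    obtain ⟨b, hb⟩ := Ideal.mem_span_range_iff_exists_fun.1 hca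
    have h1 := congrArg Φ hb
    rw [map_sum, Φ.leibniz c a, hPz a ha, add_zero, hsm] at h1
    have hmem : algebraMap A L c • Φ a ∈ N := by
      rw [← h1]
      refine sum_mem fun l _ => ?_
      rw [Φ.leibniz, hPz _ (hgP l), add_zero, hsm]
      exact N.smul_mem _ (Submodule.subset_span ⟨l, rfl⟩)
    rw [hΦ', Submodule.mkQ_apply, Submodule.Quotient.mk_eq_zero]
    exact (N.smul_mem_iff (fun h => hc ((h0 c).1 h))).1 hmem
  let M : Submodule B V := Submodule.span B (Set.range fun i => Φ' (MvPowerSeries.X i))
  haveI : Module.Finite B M := Module.Finite.span_of_finite B (Set.finite_range _)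
  let EB : B →ₗ[k] V := Submodule.liftQ (P.restrictScalars k) Φ'.toLinearMap fun a ha => hkill a ha
  have hEB : ∀ a, EB (Ideal.Quotient.mk P a) = Φ' a := fun a => rfl
  have hsmV : ∀ (a : A) (v : V), Ideal.Quotient.mk P a • v = a • v := fun a v => by
    rw [← algebraMap_smul L (Ideal.Quotient.mk P a) v, ← algebraMap_smul L a v]
    rfl
  have hM : ∀ b, EB b ∈ M.restrictScalars k := fun b => by
    obtain ⟨a, rfl⟩ := Ideal.Quotient.mk_surjective b
    rw [hEB, hΦ', pi_eq_sum_univ' (Φ a), map_sum]
    refine sum_mem fun i _ => ?_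
    rw [← hΦX, hΦ, map_smul, ← hΦ',
      show algebraMap A L (MvPowerSeries.pderiv k i a) = algebraMap B L (Ideal.Quotient.mk P (MvPowerSeries.pderiv k i a)) from rfl,
      algebraMap_smul]
    exact M.smul_mem _ (Submodule.subset_span ⟨i, rfl⟩)
  let D : Derivation k B M := Derivation.mk' (EB.codRestrict (M.restrictScalars k) hM) fun a b => by
    obtain ⟨a, rfl⟩ := Ideal.Quotient.mk_surjective a
    obtain ⟨b, rfl⟩ := Ideal.Quotient.mk_surjective b
    refine Subtype.ext ?_
    show EB _ = Ideal.Quotient.mk P a • EB _ + Ideal.Quotient.mk P b • EB _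
    rw [← map_mul, hEB, hEB, hEB, Derivation.leibniz, hsmV, hsmV]
  let W : Submodule L V := Submodule.span L (Set.range fun j : Fin s => (D (algebraMap S B (MvPowerSeries.X j)) : V))
  have hDS : ∀ f : S, (D (algebraMap S B f) : V) ∈ W := fun f => by
    rw [CplKaehler4.derivation_algebraMap D f]
    rw [AddSubmonoidClass.coe_finsetSum]
    refine sum_mem fun j _ => ?_
    rw [SetLike.val_smul, ← algebraMap_smul L]
    exact W.smul_mem _ (Submodule.subset_span ⟨j, rfl⟩)
  let E : Derivation S B (V ⧸ W) := Derivation.mk'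
    { toFun := fun b => W.mkQ (D b : V)
      map_add' := fun a b => by rw [map_add, Submodule.coe_add, map_add]
      map_smul' := fun c b => by
        rw [RingHom.id_apply, Algebra.smul_def, Derivation.leibniz, Submodule.coe_add, map_add, SetLike.val_smul,
          SetLike.val_smul, ← algebraMap_smul L b, map_smul W.mkQ (algebraMap B L b),
          (Submodule.Quotient.mk_eq_zero W).2 (hDS c) |> fun h => (show W.mkQ (D (algebraMap S B c) : V) = 0 from h),
          smul_zero, add_zero, algebraMap_smul]
        exact (W.mkQ.restrictScalars S).map_smul c _ }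
    fun a b => by
      show W.mkQ (D (a * b) : V) = a • W.mkQ (D b : V) + b • W.mkQ (D a : V)
      rw [Derivation.leibniz, Submodule.coe_add, map_add, SetLike.val_smul, SetLike.val_smul]
      rfl
  haveI : Algebra.FormallyUnramified S L' := .of_isLocalization (nonZeroDivisors S)
  haveI : Algebra.FormallyUnramified L' L := .of_isSeparable L' L
  haveI : Algebra.FormallyUnramified S L := .comp S L' L
  haveI : Algebra.FormallyEtale B L := .of_isLocalization (nonZeroDivisors B)
  haveI : Subsingleton (L ⊗[B] Ω[B⁄S]) :=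
    (KaehlerDifferential.tensorKaehlerEquivOfFormallyEtale S B L).toEquiv.subsingleton
  have hE : ∀ b, E b = 0 := fun b => by
    rw [← E.liftKaehlerDifferential_comp_D b, ← one_smul L (E.liftKaehlerDifferential _),
      ← LinearMap.liftBaseChange_tmul, Subsingleton.elim ((1 : L) ⊗ₜ[B] KaehlerDifferential.D S B b) 0, map_zero]
  have hW : W = ⊤ := by
    refine eq_top_iff.2 fun v _ => ?_
    obtain ⟨v, rfl⟩ := Submodule.Quotient.mk_surjective N v
    rw [pi_eq_sum_univ' v, ← Submodule.mkQ_apply, map_sum]
    refine sum_mem fun i _ => ?_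
    rw [map_smul, ← hΦX]
    exact W.smul_mem _ ((Submodule.Quotient.mk_eq_zero W).1 (hE (Ideal.Quotient.mk P (MvPowerSeries.X i))))
  have hV : Module.finrank L V ≤ s := by
    have h1 := finrank_range_le_card (R := L) fun j : Fin s => (D (algebraMap S B (MvPowerSeries.X j)) : V)
    rw [Set.finrank, show Submodule.span L _ = ⊤ from hW, finrank_top] at h1
    simpa using h1
  have hli : LinearIndependent L fun l => Φ (g l) := by
    refine linearIndependent_iff_card_le_finrank_span.2 ?_
    rw [Fintype.card_fin]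
    have h1 : Module.finrank L V + Module.finrank L N = Module.finrank L (Fin r → L) :=
      N.finrank_quotient_add_finrank
    rw [Module.finrank_fin_fun] at h1
    show h ≤ Module.finrank L N
    omega
  by_contra hcon
  push Not at hcon
  have hΦx : Φ x = 0 := funext fun i => (h0 _).2 (hcon i)
  obtain ⟨c, hc, hcx⟩ := hg x hx
  obtain ⟨a, ha⟩ := Ideal.mem_span_range_iff_exists_fun.1 hcx
  have h2 : ∑ l, algebraMap A L (a l) • Φ (g l) = 0 := by
    have h1 := congrArg Φ ha
    rw [map_sum, Φ.leibniz c x, hΦx, smul_zero, zero_add, hPz x hx] at h1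
    rw [← h1]
    refine Finset.sum_congr rfl fun l _ => ?_
    rw [Φ.leibniz, hPz _ (hgP l), add_zero, hsm]
  have haP : ∀ l, a l ∈ P := fun l => (h0 _).1 (Fintype.linearIndependent_iff.1 hli _ h2 l)
  refine hx2 ((Ideal.unit_mul_mem_iff_mem _ (IsLocalization.map_units (Localization.AtPrime P)
    (⟨c, hc⟩ : P.primeCompl))).1 ?_)
  show algebraMap A _ c * algebraMap A _ x ∈ _
  rw [← map_mul, ← ha, map_sum, sq]
  refine Ideal.sum_mem _ fun l _ => ?_
  rw [map_mul]
  exact Ideal.mul_mem_mul ((IsLocalization.AtPrime.to_map_mem_maximal_iff _ P _).2 (haP l))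
    ((IsLocalization.AtPrime.to_map_mem_maximal_iff _ P _).2 (hgP l))

end Groth.Agent.Ega41H93
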