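import Groth.Agent.Ega41H93.PSDetect
import Groth.Agent.Ega41H93.SepDetect
import Groth.Agent.Ega41H93.CplKaehlerEtale
import Groth.Agent.EGA41Lib.FieldFS
import Groth.Agent.AdicFS4.Rel

/-!
# Detection of differentials on formally smooth complete local algebras
-/

set_option linter.style.haveILetI false

namespace Groth.Agent.Ega41H93

open IsLocalRing EGA41

universe u

attribute [local instance 10000] Ring.toIntAlgebra

variable {k K₀ A : Type u} [Field k] [Field K₀] [Algebra k K₀] [Algebra.IsGeometricallyReduced k K₀]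
  [CommRing A] [IsLocalRing A] [IsNoetherianRing A] [Algebra k A] [Algebra K₀ A] [IsScalarTower k K₀ A]

/-- A formally smooth algebra over a separable extension is formally smooth at every prime over the small field. -/
theorem fs_atPrime (hA : CAlgX.IsAdicFormallySmooth K₀ A (maximalIdeal A)) (P : Ideal A) [P.IsPrime] :
    CAlgX.IsAdicFormallySmooth k (Localization.AtPrime P) (maximalIdeal (Localization.AtPrime P)) := by
  haveI := EGA41Lib.FieldFS.formallySmooth_of_isGeometricallyReduced k K₀
  haveI : IsNoetherianRing (Localization.AtPrime P) := IsLocalization.isNoetherianRing P.primeCompl _ inferInstance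
  exact RegFS6.fs_iff_geometricallyRegular.2 (SmoothingLib.GeomDiff.isGeometricallyRegular_of_isLocalization
    (RegFS6.fs_iff_geometricallyRegular.1 (AdicFS4.isAdicFormallySmooth_comp (Λ := k) hA)) P.primeCompl _)

omit [IsLocalRing A] [IsNoetherianRing A] [Algebra k A] [Algebra K₀ A] in
/-- Transport of an integral derivation along a ring isomorphism. -/
theorem exists_conj_derivation {A' : Type u} [CommRing A'] (e : A' ≃+* A) (D : Derivation ℤ A' A') :
    ∃ D' : Derivation ℤ A A, ∀ a, D' a = e (D (e.symm a)) :=
  ⟨Derivation.mk' ((e.toAddMonoidHom.comp ((D : A' →ₗ[ℤ] A').toAddMonoidHom.comp e.symm.toAddMonoidHom)).toIntLinearMap)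
    fun a b => by
      show e (D (e.symm (a * b))) = a * e (D (e.symm b)) + b * e (D (e.symm a))
      rw [map_mul, D.leibniz, map_add, smul_eq_mul, smul_eq_mul, map_mul, map_mul, e.apply_symm_apply, e.apply_symm_apply],
    fun _ => rfl⟩

omit [IsLocalRing A] [IsNoetherianRing A] [Algebra K₀ A] [IsScalarTower k K₀ A] [Algebra k K₀]
  [Algebra.IsGeometricallyReduced k K₀] in
/-- Detection of absolute differentials transported along an isomorphism with power series. -/
theorem exists_derivation_notMem_of_equiv (p : ℕ) [Fact p.Prime] {K : Type u} [Field K] [CharP K p] {r : ℕ}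
    (e : MvPowerSeries (Fin r) K ≃+* A) (P : Ideal A) [P.IsPrime] {m : ℕ} (c y : Fin m → A)
    (δ₀ : Derivation ℤ A P.ResidueField) (hδ₀ : ∑ j, algebraMap A P.ResidueField (c j) * δ₀ (y j) ≠ 0) :
    ∃ D : Derivation ℤ A A, (∑ j, c j * D (y j)) ∉ P := by
  let P' : Ideal (MvPowerSeries (Fin r) K) := P.comap e.toRingHom
  have hP : P = P'.comap e.symm.toRingHom := by
    ext a
    show a ∈ P ↔ e (e.symm a) ∈ P
    rw [e.apply_symm_apply]
  let g := Ideal.ResidueField.map P P' e.symm.toRingHom hP
  have hg : ∀ a, g (algebraMap A P.ResidueField a) = algebraMap _ P'.ResidueField (e.symm a) :=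
    fun a => Ideal.ResidueField.map_algebraMap P P' e.symm.toRingHom hP a
  let δ₁ : Derivation ℤ (MvPowerSeries (Fin r) K) P'.ResidueField := Derivation.mk'
    ((g.toAddMonoidHom.comp ((δ₀ : A →ₗ[ℤ] P.ResidueField).toAddMonoidHom.comp e.toAddMonoidHom)).toIntLinearMap)
    fun a b => by
      show g (δ₀ (e (a * b))) = a • g (δ₀ (e b)) + b • g (δ₀ (e a))
      rw [map_mul, δ₀.leibniz, map_add, Algebra.smul_def, Algebra.smul_def, Algebra.smul_def, Algebra.smul_def,
        map_mul, map_mul, hg, hg, e.symm_apply_apply, e.symm_apply_apply]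
  obtain ⟨D', hD'⟩ := exists_derivation_notMem_int p P' (fun j => e.symm (c j)) (fun j => e.symm (y j)) δ₁ (by
    refine fun h0 => hδ₀ ((map_eq_zero g).1 ?_)
    rw [map_sum, ← h0]
    refine Finset.sum_congr rfl fun j _ => ?_
    show g (_ * _) = algebraMap _ P'.ResidueField (e.symm (c j)) * g (δ₀ (e (e.symm (y j))))
    rw [map_mul, hg, e.apply_symm_apply])
  obtain ⟨D, hD⟩ := exists_conj_derivation e D'
  refine ⟨D, fun hmem => hD' ?_⟩
  show e (∑ j, e.symm (c j) * D' (e.symm (y j))) ∈ P
  rw [map_sum]
  simpa only [map_mul, e.apply_symm_apply, ← hD] using hmem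

omit [IsLocalRing A] [IsNoetherianRing A] [Algebra K₀ A] [IsScalarTower k K₀ A] [Algebra k K₀]
  [Algebra.IsGeometricallyReduced k K₀] in
/-- A derivation killing the field is linear over it. -/
theorem exists_linear_of_kills (D : Derivation ℤ A A) (h : ∀ c, D (algebraMap k A c) = 0) :
    ∃ D' : Derivation k A A, ∀ a, D' a = D a :=
  AdicFS4.exists_derivation_of_kills D h

variable [IsAdicComplete (maximalIdeal A) A]

set_option maxHeartbeats 800000 in
omit [Algebra.IsGeometricallyReduced k K₀] in
/-- In characteristic zero derivations over the field detect the cotangent space at every prime. -/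
theorem exists_derivation_notMem_of_charZero [CharZero K₀] (hA : CAlgX.IsAdicFormallySmooth K₀ A (maximalIdeal A))
    (P : Ideal A) [P.IsPrime] {x : A} (hx : x ∈ P)
    (hx2 : algebraMap A (Localization.AtPrime P) x ∉ maximalIdeal (Localization.AtPrime P) ^ 2) :
    ∃ D : Derivation k A A, D x ∉ P := by
  haveI := FlatLoc6.isRegularRing_of_geometricallyRegular (RegFS6.fs_iff_geometricallyRegular.1 hA)
  haveI : IsRegularLocalRing A := IsRegularLocalRing.of_isRegularRing_of_isLocalRing A
  obtain ⟨n, ψ, hsurj, hn, -⟩ := RegFS6.exists_ps_hom K₀ A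
  let K := ResidueField A
  have hbij : Function.Bijective ψ := PSLib.bijective_of_surjective _ n ψ.toRingHom hsurj (by
    rw [← IsRegularLocalRing.spanFinrank_maximalIdeal, hn])
  haveI : CharZero K := charZero_of_injective_ringHom (algebraMap K₀ K).injective
  let e := AlgEquiv.ofBijective ψ hbij
  let PS := MvPowerSeries (Fin n) K
  let P' : Ideal PS := P.comap e.toRingEquiv.toRingHom
  let B := PS ⧸ P'
  haveI : IsRegularLocalRing PS := PSLib.isRegularLocalRing (K := K) (n := n)
  haveI : IsAdicComplete (maximalIdeal PS) PS := by rw [PSLib.maximalIdeal_eq_vars]; infer_instance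
  haveI : Module.Finite K (ResidueField PS) := by
    refine Module.Finite.of_surjective (Algebra.linearMap K (ResidueField PS)) fun z => ?_
    obtain ⟨a, rfl⟩ := residue_surjective z
    refine ⟨MvPowerSeries.constantCoeff a, ?_⟩
    show residue PS (MvPowerSeries.C (MvPowerSeries.constantCoeff a)) = residue PS a
    refine Ideal.Quotient.eq.2 ?_
    rw [PSLib.maximalIdeal_eq_vars]
    exact PSLib.mem_vars_iff.2 (by simp)
  haveI : IsLocalRing B := .of_surjective' (Ideal.Quotient.mk P') Ideal.Quotient.mk_surjective
  haveI := CplKaehler4.isAdicComplete_quot P'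
  haveI := finite_residueField_quot (k := K) P'
  obtain ⟨s, xs, hxs, hs, hrad⟩ := CohenLib.exists_fin_sop B
  obtain ⟨φ, -, hfin, -⟩ := CplKaehler4.exists_algHom_finite K xs hxs hrad
  letI : Algebra (MvPowerSeries (Fin s) K) B := φ.toRingHom.toAlgebra
  haveI : IsScalarTower K (MvPowerSeries (Fin s) K) B := IsScalarTower.of_algebraMap_eq fun c => (φ.commutes c).symm
  haveI : Module.Finite (MvPowerSeries (Fin s) K) B := hfin
  haveI : IsDomain (MvPowerSeries (Fin s) K) := NoZeroDivisors.to_isDomain _
  have hinj : Function.Injective φ.toRingHom :=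
    CohenLib.injective_of_finite φ.toRingHom hfin hs (PSLib.ringKrullDim_eq K s).le
  let L := P'.ResidueField
  letI : Algebra (MvPowerSeries (Fin s) K) L := ((algebraMap B L).comp φ.toRingHom).toAlgebra
  haveI : IsScalarTower (MvPowerSeries (Fin s) K) B L := IsScalarTower.of_algebraMap_eq fun _ => rfl
  haveI : FaithfulSMul (MvPowerSeries (Fin s) K) L := (faithfulSMul_iff_algebraMap_injective _ _).2
    ((IsFractionRing.injective B L).comp hinj)
  let E := FractionRing (MvPowerSeries (Fin s) K)
  letI : Algebra E L := FractionRing.liftAlgebra _ L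
  haveI : Module.Finite E L := CplKaehler4.finite_fractionField (MvPowerSeries (Fin s) K) B E L
  haveI : CharZero E := charZero_of_injective_ringHom (algebraMap K E).injective
  haveI : Algebra.IsSeparable E L := inferInstance
  have hx' : e.symm x ∈ P' := by show e (e.symm x) ∈ P; rwa [e.apply_symm_apply]
  have hx2' : algebraMap PS (Localization.AtPrime P') (e.symm x) ∉ maximalIdeal (Localization.AtPrime P') ^ 2 := by
    intro h
    let f := Localization.localRingHom P' P e.toRingEquiv.toRingHom rfl
    refine hx2 ?_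
    have hle : (maximalIdeal (Localization.AtPrime P')).map f ≤ maximalIdeal (Localization.AtPrime P) :=
      Ideal.map_le_iff_le_comap.2 (maximalIdeal_comap f).ge
    have h' := Ideal.pow_right_mono hle 2 (Ideal.map_pow f _ 2 ▸ Ideal.mem_map_of_mem f h)
    rw [Localization.localRingHom_to_map] at h'
    simpa using h'
  obtain ⟨i, hi⟩ := exists_pderiv_notMem P' s hinj (L' := E) (L := L) hx' hx2'
  obtain ⟨D, hD⟩ := exists_conj_derivation e.toRingEquiv ((MvPowerSeries.pderiv K i).restrictScalars ℤ)
  obtain ⟨D', hD'⟩ := exists_linear_of_kills (k := k) D fun c => by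
    rw [hD, IsScalarTower.algebraMap_apply k K₀ A]
    show e (MvPowerSeries.pderiv K i (e.symm (algebraMap K₀ A _))) = 0
    rw [AlgEquiv.commutes, IsScalarTower.algebraMap_apply K₀ K PS, Derivation.map_algebraMap, map_zero]
  refine ⟨D', fun h => hi ?_⟩
  rw [hD', hD] at h
  exact h

omit [IsNoetherianRing A] [IsAdicComplete (maximalIdeal A) A] [Algebra k A] [IsScalarTower k K₀ A] [IsLocalRing A]
  [Algebra k K₀] [Algebra.IsGeometricallyReduced k K₀] [CommRing A] [Algebra K₀ A] in
/-- A field finite over its `p`-th powers has finitely many differentials. -/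
theorem finite_kaehler_field (p : ℕ) [ExpChar k p] [Fact p.Prime] [CharP k p]
    (hk : Module.Finite (frobenius k p).fieldRange k) : Module.Finite k (Ω[k⁄ℤ]) := by
  obtain ⟨n, s, hs⟩ := Module.Finite.exists_fin (R := (frobenius k p).fieldRange) (M := k)
  refine ⟨Submodule.fg_def.2 ⟨Set.range fun i => KaehlerDifferential.D ℤ k (s i), Set.finite_range _, ?_⟩⟩
  refine eq_top_iff.2 ?_
  rw [← KaehlerDifferential.span_range_derivation, Submodule.span_le]
  rintro _ ⟨c, rfl⟩
  obtain ⟨a, ha⟩ := (Submodule.mem_span_range_iff_exists_fun _).1 (hs ▸ Submodule.mem_top : c ∈ Submodule.span _ (Set.range s))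
  rw [SetLike.mem_coe, ← ha, map_sum]
  refine sum_mem fun i _ => ?_
  obtain ⟨z, hz⟩ := (a i).2
  show KaehlerDifferential.D ℤ k ((a i : k) * s i) ∈ _
  rw [Derivation.leibniz, ← hz, frobenius_def, derivation_pow_char p, smul_zero, add_zero]
  exact Submodule.smul_mem _ _ (Submodule.subset_span ⟨i, rfl⟩)

set_option maxHeartbeats 800000 in
/-- In characteristic `p` derivations over an F-finite field detect differentials at every prime. -/
theorem exists_derivation_notMem_of_fs (p : ℕ) [ExpChar k p] [Fact p.Prime] [CharP k p]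
    (hk : Module.Finite (frobenius k p).fieldRange k) (hA : CAlgX.IsAdicFormallySmooth K₀ A (maximalIdeal A))
    (P : Ideal A) [P.IsPrime] {x : A}
    (δ : Derivation k (Localization.AtPrime P) (ResidueField (Localization.AtPrime P)))
    (hδ : δ (algebraMap A (Localization.AtPrime P) x) ≠ 0) : ∃ D : Derivation k A A, D x ∉ P := by
  classical
  let R := Localization.AtPrime P
  let κ := ResidueField R
  obtain ⟨T, bas, hbas, -⟩ := exists_pBasis p (K := k)
  haveI := finite_kaehler_field p hk
  haveI : Finite T := Module.Finite.finite_basis bas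
  letI : Fintype T := Fintype.ofFinite T
  let eT := Fintype.equivFin T
  let y : Fin (Fintype.card T + 1) → A := Fin.cons x fun i => algebraMap k A ((eT.symm i : T) : k)
  haveI := FlatLoc6.isRegularRing_of_geometricallyRegular (RegFS6.fs_iff_geometricallyRegular.1 hA)
  haveI : IsRegularLocalRing A := IsRegularLocalRing.of_isRegularRing_of_isLocalRing A
  let Pf := ULift.{u} (ZMod p)
  haveI : Finite Pf := Finite.of_equiv _ Equiv.ulift.symm
  haveI : PerfectField Pf := PerfectField.ofFinite
  letI : Algebra Pf A := (((algebraMap k A).comp (ZMod.castHom dvd_rfl k)).comp (ULift.ringEquiv (R := ZMod p)).toRingHom).toAlgebra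
  obtain ⟨n, ψ, hsurj, hn, -⟩ := RegFS6.exists_ps_hom Pf A
  have hbij : Function.Bijective ψ := PSLib.bijective_of_surjective _ n ψ.toRingHom hsurj (by
    rw [← IsRegularLocalRing.spanFinrank_maximalIdeal, hn])
  haveI : CharP (ResidueField A) p := charP_of_injective_algebraMap (algebraMap k (ResidueField A)).injective p
  let δA : Derivation ℤ A κ := (δ.restrictScalars ℤ).compAlgebraMap A
  have hδA : ∀ a, δA a = δ (algebraMap A R a) := fun a => rfl
  have hdual : ∀ b : T, ∃ d : Derivation ℤ A κ, d x = 0 ∧
      ∀ b' : T, d (algebraMap k A (b' : k)) = if b' = b then 1 else 0 := by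
    intro b
    let δk : Derivation ℤ k κ := (Algebra.linearMap k κ).compDer ((bas.coord b).compDer (KaehlerDifferential.D ℤ k))
    obtain ⟨D₁, hD₁⟩ := RegFS6.exists_derivation_of_fs (fs_atPrime (k := k) hA P) δk
    let c₀ : κ := D₁ (algebraMap A R x) / δ (algebraMap A R x)
    refine ⟨D₁.compAlgebraMap A - c₀ • δA, ?_, fun b' => ?_⟩
    · show D₁ (algebraMap A R x) - c₀ * δ (algebraMap A R x) = 0
      rw [div_mul_cancel₀ _ hδ, sub_self]
    · show D₁ (algebraMap A R (algebraMap k A b')) - c₀ * δ (algebraMap A R (algebraMap k A b')) = _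
      rw [← IsScalarTower.algebraMap_apply k A R, Derivation.map_algebraMap, mul_zero, sub_zero, hD₁]
      show algebraMap k κ (bas.coord b (KaehlerDifferential.D ℤ k b')) = _
      rw [← hbas, Module.Basis.coord_apply, Module.Basis.repr_self, Finsupp.single_apply]
      split_ifs <;> simp
  obtain ⟨D, hD⟩ := exists_det_of_detect (R := ℤ) P y fun c ⟨j, hj⟩ => by
    by_cases hall : ∀ i, c (Fin.succ i) ∈ P
    · have h0 : c 0 ∉ P := by
        induction j using Fin.cases with
        | zero => exact hj
        | succ i => exact absurd (hall i) hj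
      refine exists_derivation_notMem_of_equiv p (RingEquiv.ofBijective ψ.toRingHom hbij) P c y δA ?_
      rw [Fin.sum_univ_succ, Finset.sum_eq_zero fun i _ => by
        rw [Ideal.algebraMap_residueField_eq_zero.2 (hall i), zero_mul], add_zero]
      refine mul_ne_zero (fun h => h0 (Ideal.algebraMap_residueField_eq_zero.1 h)) ?_
      exact hδ
    · push Not at hall
      obtain ⟨i, hi⟩ := hall
      obtain ⟨d, hdx, hdb⟩ := hdual (eT.symm i)
      refine exists_derivation_notMem_of_equiv p (RingEquiv.ofBijective ψ.toRingHom hbij) P c y d ?_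
      rw [Fin.sum_univ_succ, Finset.sum_eq_single i]
      · simp only [y, Fin.cons_zero, Fin.cons_succ, hdx, hdb, if_pos]
        rw [mul_zero, zero_add, mul_one]
        exact fun h => hi (Ideal.algebraMap_residueField_eq_zero.1 h)
      · intro l _ hl
        simp only [y, Fin.cons_succ, hdb]
        rw [if_neg (fun h => hl (eT.symm.injective h)), mul_zero]
      · exact fun h => absurd (Finset.mem_univ i) h
  obtain ⟨D₂, hD₂⟩ := exists_dual_of_det y D
  have hkill : ∀ c, D₂ 0 (algebraMap k A c) = 0 := by
    let d : Derivation ℤ k A := (D₂ 0).compAlgebraMap k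
    have hd : d.liftKaehlerDifferential = 0 := bas.ext fun b => by
      rw [hbas, Derivation.liftKaehlerDifferential_comp_D, LinearMap.zero_apply]
      show D₂ 0 (algebraMap k A b) = 0
      have h := hD₂ 0 (Fin.succ (eT b))
      rw [if_neg (Fin.succ_ne_zero _).symm] at h
      simpa [y] using h
    intro c
    show d c = 0
    rw [← d.liftKaehlerDifferential_comp_D c, hd, LinearMap.zero_apply]
  obtain ⟨D', hD'⟩ := exists_linear_of_kills (k := k) (D₂ 0) hkill
  refine ⟨D', fun h => hD ?_⟩
  have h2 := hD₂ 0 0
  rw [if_pos rfl] at h2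
  rw [hD'] at h
  exact h2 ▸ (by simpa [y] using h : D₂ 0 (y 0) ∈ P)

end Groth.Agent.Ega41H93
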