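import Mathlib
import Groth.Agent.CAlgOdd.AssTensor
import Groth.Agent.FlatLoc6.FiberSelf
import Groth.Agent.FlatLoc6.TensorField
import Groth.Agent.LC.Liaison

/-!
# Absence of embedded primes in flat extensions, fibrewise
-/

set_option autoImplicit false
set_option linter.style.haveILetI false

universe u

namespace Groth.Agent.Ega41H93

open TensorProduct

/-- A ring all of whose associated primes are minimal. -/
def NoEmb (R : Type u) [CommRing R] : Prop := ∀ P ∈ associatedPrimes R R, P ∈ minimalPrimes R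

theorem noEmb_of_ringEquiv {R S : Type u} [CommRing R] [CommRing S] [IsNoetherianRing R] [IsNoetherianRing S]
    (e : R ≃+* S) (h : NoEmb R) : NoEmb S := by
  intro P hP
  obtain ⟨hPp, z, hz⟩ := isAssociatedPrime_iff.1 hP
  have hQ : P.comap e.toRingHom ∈ associatedPrimes R R := by
    refine isAssociatedPrime_iff.2 ⟨Ideal.IsPrime.comap _, e.symm z, ?_⟩
    ext a
    rw [Ideal.mem_comap, hz, Submodule.mem_colon_singleton, Submodule.mem_colon_singleton, Submodule.mem_bot,
      Submodule.mem_bot, smul_eq_mul, smul_eq_mul]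
    show e a * z = 0 ↔ _
    rw [← map_eq_zero_iff e e.injective (x := a * e.symm z), map_mul, e.apply_symm_apply]
  refine ⟨⟨hPp, bot_le⟩, fun K hK hle => ?_⟩
  haveI := hK.1
  have h1 := (h _ hQ).2 ⟨Ideal.IsPrime.comap e.toRingHom, bot_le⟩ (Ideal.comap_mono hle)
  intro x hx
  obtain ⟨a, rfl⟩ := e.surjective x
  exact h1 hx

/-- An associated prime of `G/rG` lying over `r` is minimal among the primes over `r` when the fibre has no
embedded primes. -/
theorem eq_of_le_of_over {F G : Type u} [CommRing F] [CommRing G] [Algebra F G] [IsNoetherianRing G] [Module.Flat F G]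
    (r : Ideal F) [r.IsPrime] [IsNoetherianRing (r.Fiber G)] (hΦ : NoEmb (r.Fiber G)) (P : Ideal G)
    (hP : P ∈ associatedPrimes G (G ⧸ (r.map (algebraMap F G)) • (⊤ : Submodule G G)))
    (hPr : P.under F = r) (Q : Ideal G) [Q.IsPrime] (hQP : Q ≤ P) (hQr : Q.under F = r) : Q = P := by
  obtain ⟨hPp, z, hz⟩ := isAssociatedPrime_iff.1 hP
  obtain ⟨c, rfl⟩ := Submodule.Quotient.mk_surjective _ z
  have hI : (r.map (algebraMap F G)) • (⊤ : Submodule G G) = r.map (algebraMap F G) := by
    rw [smul_eq_mul, Ideal.mul_top]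
  have hz' : ∀ a : G, a ∈ P ↔ a * c ∈ r.map (algebraMap F G) := fun a => by
    rw [hz, Submodule.mem_colon_singleton, Submodule.mem_bot, ← Submodule.Quotient.mk_smul,
      Submodule.Quotient.mk_eq_zero, hI, smul_eq_mul]
  let μ : G →+* r.Fiber G :=
    (Algebra.TensorProduct.includeRight (R := F) (A := r.ResidueField) (B := G)).toRingHom
  have hμF : ∀ f ∈ r, μ (algebraMap F G f) = 0 := fun f hf => by
    show (1 : r.ResidueField) ⊗ₜ[F] algebraMap F G f = 0
    rw [Algebra.algebraMap_eq_smul_one, TensorProduct.tmul_smul, TensorProduct.smul_tmul',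
      ← Algebra.algebraMap_eq_smul_one]
    rw [Ideal.algebraMap_residueField_eq_zero.2 hf, TensorProduct.zero_tmul]
  have hμI : r.map (algebraMap F G) ≤ RingHom.ker μ := Ideal.map_le_iff_le_comap.2 hμF
  have hμc : μ c ≠ 0 := by
    intro h0
    have hinj : Function.Injective
        ((Algebra.linearMap (F ⧸ r) r.ResidueField).restrictScalars F |>.rTensor G) :=
      Module.Flat.rTensor_preserves_injective_linearMap _ (Ideal.injective_algebraMap_quotient_residueField r)
    have h1 : (1 : F ⧸ r) ⊗ₜ[F] c = 0 := hinj (by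
      rw [map_zero, LinearMap.rTensor_tmul]
      show algebraMap (F ⧸ r) r.ResidueField 1 ⊗ₜ[F] c = 0
      rw [map_one]
      exact h0)
    have h2 := congrArg (TensorProduct.quotTensorEquivQuotSMul G r) h1
    rw [map_zero, ← map_one (Ideal.Quotient.mk r), TensorProduct.quotTensorEquivQuotSMul_mk_tmul, one_smul,
      Submodule.Quotient.mk_eq_zero, Ideal.smul_top_eq_map, Submodule.restrictScalars_mem] at h2
    exact hPp.ne_top ((Ideal.eq_top_iff_one _).2 ((hz' 1).2 (by rwa [one_mul])))
  obtain ⟨Q', hQ', hle⟩ := exists_le_isAssociatedPrime_of_isNoetherianRing (r.Fiber G) (μ c) hμc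
  haveI := hQ'.isPrime
  have hmin := hΦ Q' hQ'
  let e := PrimeSpectrum.primesOverOrderIsoFiber F G r
  let K : r.primesOver G := e.symm ⟨Q', inferInstance⟩
  have hK : (K : Ideal G) = Q'.comap μ := PrimeSpectrum.coe_primesOverOrderIsoFiber_symm_apply _ _
  have hPK : P ≤ (K : Ideal G) := fun a ha => by
    rw [hK]
    refine hle ?_
    rw [Submodule.mem_colon_singleton, Submodule.mem_bot, smul_eq_mul, ← map_mul]
    exact hμI ((hz' a).1 ha)
  let L : r.primesOver G := ⟨Q, inferInstance, ⟨hQr.symm⟩⟩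
  have hLK : L ≤ K := hQP.trans hPK
  have h1 : e L ≤ e K := e.monotone hLK
  have h2 : e L = e K := le_antisymm h1 (by
    rw [show e K = ⟨Q', inferInstance⟩ from e.apply_symm_apply _] at h1 ⊢
    exact hmin.2 ⟨(e L).2, bot_le⟩ h1)
  have h3 : Q = (K : Ideal G) := congrArg Subtype.val (e.injective h2)
  exact le_antisymm hQP (hPK.trans h3.ge)

/-- No embedded primes after a finitely generated extension of the base field. -/
theorem noEmb_tensor_field {k F K : Type u} [Field k] [CommRing F] [Field K] [Algebra k F] [Algebra k K]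
    [IsNoetherianRing F] [Algebra.EssFiniteType k K] (hF : NoEmb F) : NoEmb (F ⊗[k] K) := by
  haveI : Algebra.EssFiniteType F (F ⊗[k] K) := inferInstance
  haveI : IsNoetherianRing (F ⊗[k] K) := Algebra.EssFiniteType.isNoetherianRing F _
  intro P hP
  let G := F ⊗[k] K
  have h1 : P ∈ associatedPrimes G (G ⊗[F] F) :=
    (LinearEquiv.AssociatedPrimes.eq (TensorProduct.AlgebraTensorModule.rid F G G)).symm ▸ hP
  have h2 := CAlgOdd.AssTensor.exists_prime_of_mem (R := F) (S := G) G F h1
  have h3 := CAlgOdd.AssTensor.mem_ass_of_mem (R := F) (S := G) G F h1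
  haveI := hP.isPrime
  haveI := h3.isPrime
  set r := P.comap (algebraMap F G) with hr
  obtain ⟨e⟩ := FlatLoc6.exists_fiberTensorEquiv (k := k) (S := F) (T := K) r
  haveI : LocCoh.IsCohenMacaulayRing (r.Fiber G) :=
    FlatLoc6.isCM_of_ringEquiv ((Algebra.TensorProduct.comm k K r.ResidueField).toRingEquiv.trans e.symm)
      (FlatLoc6.isCM_tensor_field k r.ResidueField K)
  have hΦ : NoEmb (r.Fiber G) := fun Q hQ => LC.Liaison.minimal_of_ass hQ
  refine ⟨⟨inferInstance, bot_le⟩, fun Q hQ hQP => ?_⟩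
  haveI := hQ.1
  have hQr : Q.under F = r :=
    le_antisymm (Ideal.comap_mono hQP) ((hF r h3).2 ⟨Ideal.IsPrime.comap _, bot_le⟩ (Ideal.comap_mono hQP))
  exact (eq_of_le_of_over r hΦ P h2 hr.symm Q hQP hQr).ge

/-- The generic formal fibre over a prime has no embedded primes. -/
theorem noEmb_fiber {A C : Type u} [CommRing A] [CommRing C] [Algebra A C] [IsNoetherianRing A] [IsNoetherianRing C]
    [Module.Flat A C] (p : Ideal A) [p.IsPrime]
    (hC : ∀ r ∈ associatedPrimes C (C ⧸ p.map (algebraMap A C) • (⊤ : Submodule C C)),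
      r ∈ (p.map (algebraMap A C)).minimalPrimes) :
    NoEmb (p.Fiber C) := by
  haveI : IsNoetherianRing (p.Fiber C) := FlatLoc6.isNoetherianRing_fiber (B := C) p
  intro P hP
  haveI := hP.isPrime
  obtain ⟨-, z, hz⟩ := isAssociatedPrime_iff.1 hP
  let μ : C →+* p.Fiber C :=
    (Algebra.TensorProduct.includeRight (R := A) (A := p.ResidueField) (B := C)).toRingHom
  let r := P.comap μ
  have hsm : ∀ (c : C) (w : p.ResidueField ⊗[A] C),
      (TensorProduct.comm A p.ResidueField C) (μ c * w) = c • (TensorProduct.comm A p.ResidueField C w) := by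
    intro c w
    induction w using TensorProduct.induction_on with
    | zero => simp
    | tmul a b =>
      show (TensorProduct.comm A p.ResidueField C) (((1 : p.ResidueField) ⊗ₜ[A] c) * (a ⊗ₜ[A] b)) = _
      rw [Algebra.TensorProduct.tmul_mul_tmul, one_mul, TensorProduct.comm_tmul, TensorProduct.comm_tmul,
        TensorProduct.smul_tmul', smul_eq_mul]
    | add a b ha hb => rw [mul_add, map_add, ha, hb, map_add, smul_add]
  have hr : r ∈ associatedPrimes C (C ⊗[A] p.ResidueField) := by
    refine isAssociatedPrime_iff.2 ⟨Ideal.IsPrime.comap μ, TensorProduct.comm A p.ResidueField C z, ?_⟩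
    ext c
    rw [Submodule.mem_colon_singleton, Submodule.mem_bot, ← hsm, LinearEquiv.map_eq_zero_iff]
    show μ c ∈ P ↔ _
    rw [hz, Submodule.mem_colon_singleton, Submodule.mem_bot, smul_eq_mul]
  rw [CAlgOdd.AssTensor.associatedPrimes_eq (R := A) (S := C) C p.ResidueField] at hr
  simp only [Set.mem_iUnion, exists_prop] at hr
  obtain ⟨p', hp', hr⟩ := hr
  obtain ⟨hp'p, y, hy⟩ := isAssociatedPrime_iff.1 hp'
  have hy0 : y ≠ 0 := fun h => hp'p.ne_top (by
    rw [hy, h]
    exact eq_top_iff.2 fun a _ => by simp [Submodule.mem_colon_singleton])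
  have hpp' : p' = p := by
    ext a
    rw [hy, Submodule.mem_colon_singleton, Submodule.mem_bot, Algebra.smul_def, mul_eq_zero,
      or_iff_left hy0, Ideal.algebraMap_residueField_eq_zero]
  subst hpp'
  have hmin := hC r hr
  refine ⟨⟨inferInstance, bot_le⟩, fun Q hQ hQP => ?_⟩
  haveI := hQ.1
  let e := PrimeSpectrum.primesOverOrderIsoFiber A C p'
  have hover : p'.map (algebraMap A C) ≤ Q.comap μ := by
    let L := e.symm ⟨Q, inferInstance⟩
    have hL : (L : Ideal C) = Q.comap μ := PrimeSpectrum.coe_primesOverOrderIsoFiber_symm_apply _ _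
    rw [← hL, Ideal.map_le_iff_le_comap]
    exact L.2.2.over.le
  have h1 : r ≤ Q.comap μ := hmin.2 ⟨Ideal.IsPrime.comap μ, hover⟩ (Ideal.comap_mono hQP)
  have h2 : e.symm ⟨P, inferInstance⟩ ≤ e.symm ⟨Q, inferInstance⟩ := by
    show ((e.symm ⟨P, inferInstance⟩ : p'.primesOver C) : Ideal C) ≤ (e.symm ⟨Q, inferInstance⟩ : p'.primesOver C)
    rw [PrimeSpectrum.coe_primesOverOrderIsoFiber_symm_apply, PrimeSpectrum.coe_primesOverOrderIsoFiber_symm_apply]
    exact h1
  exact e.symm.le_iff_le.1 h2

/-- An associated prime of a polynomial-type flat extension over a prime is minimal. -/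
theorem minimal_over_map_of_ass {A C T T' : Type u} [CommRing A] [CommRing C] [CommRing T] [CommRing T']
    [IsNoetherianRing A] [IsNoetherianRing C] [IsNoetherianRing T] [IsNoetherianRing T']
    [Algebra A C] [Algebra A T] [Algebra A T'] [Algebra C T'] [Algebra T T'] [IsScalarTower A C T']
    [IsScalarTower A T T'] [Algebra.IsPushout A C T T'] [Algebra.FiniteType A T] [Module.Flat A C] [Module.Flat T T']
    (q : Ideal T) [q.IsPrime]
    (hC : ∀ r ∈ associatedPrimes C (C ⧸ (q.under A).map (algebraMap A C) • (⊤ : Submodule C C)),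
      r ∈ ((q.under A).map (algebraMap A C)).minimalPrimes)
    (J : Ideal T') (hJ : J ∈ associatedPrimes T' (T' ⧸ q.map (algebraMap T T') • (⊤ : Submodule T' T'))) :
    J ∈ (q.map (algebraMap T T')).minimalPrimes ∧ J.under T = q := by
  haveI := hJ.isPrime
  have hJq : J.under T = q := by
    obtain ⟨θ⟩ := CAlgOdd.AssTensor.exists_equiv (R := T) (S := T') T' q
    have h1 : J ∈ associatedPrimes T' (T' ⊗[T] (T ⧸ q)) := by
      rw [← LinearEquiv.AssociatedPrimes.eq θ]; exact hJ
    have h2 := CAlgOdd.AssTensor.mem_ass_of_mem (R := T) (S := T') T' (T ⧸ q) h1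
    rwa [associatedPrimes.eq_singleton_of_isPrimary (Ideal.IsPrime.isPrimary ‹_›), Set.mem_singleton_iff,
      Ideal.IsPrime.radical ‹_›] at h2
  set p := q.under A with hp
  let k := p.ResidueField
  let K := q.ResidueField
  haveI : Algebra.EssFiniteType A K := Algebra.EssFiniteType.comp A T K
  letI : Algebra k K := (Ideal.ResidueField.map p q (algebraMap A T) rfl).toAlgebra
  haveI : IsScalarTower A k K := IsScalarTower.of_algebraMap_eq fun a => by
    show _ = Ideal.ResidueField.map p q (algebraMap A T) rfl (algebraMap A p.ResidueField a)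
    rw [Ideal.ResidueField.map_algebraMap]
    exact IsScalarTower.algebraMap_apply A T q.ResidueField a
  haveI : Algebra.EssFiniteType k K := Algebra.EssFiniteType.of_comp A k K
  haveI : IsNoetherianRing (p.Fiber C) := FlatLoc6.isNoetherianRing_fiber (B := C) p
  have hF : NoEmb (p.Fiber C) := noEmb_fiber p hC
  haveI hG := Algebra.EssFiniteType.isNoetherianRing (p.Fiber C) (p.Fiber C ⊗[k] K)
  let ε : (p.Fiber C ⊗[k] K) ≃+* q.Fiber T' :=
    ((Algebra.TensorProduct.comm k (p.Fiber C) K).toRingEquiv.trans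
      (Algebra.TensorProduct.cancelBaseChange A k K K C).toRingEquiv).trans
      (((Algebra.TensorProduct.comm A K C).toRingEquiv.trans
        (Algebra.IsPushout.cancelBaseChangeAlg A C T T' K).symm.toRingEquiv).trans
          (Algebra.TensorProduct.comm T T' K).toRingEquiv)
  haveI : IsNoetherianRing (q.Fiber T') := isNoetherianRing_of_ringEquiv _ ε
  have hΦ : NoEmb (q.Fiber T') := noEmb_of_ringEquiv ε (noEmb_tensor_field hF)
  refine ⟨⟨⟨inferInstance, Ideal.map_le_iff_le_comap.2 hJq.ge⟩, fun Q hQ hQJ => ?_⟩, hJq⟩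
  haveI := hQ.1
  have hQq : Q.under T = q :=
    le_antisymm ((Ideal.comap_mono hQJ).trans hJq.le) (Ideal.map_le_iff_le_comap.1 hQ.2)
  exact (eq_of_le_of_over q hΦ J hJ hJq Q hQJ hQq).ge

end Groth.Agent.Ega41H93
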