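import Groth.Agent.Ega41H93.PSPBasis
import Groth.Agent.Ega41H93.JacobianFS
import Groth.Agent.Ega41H93.KaehlerGeomReg
import Groth.Agent.FormCat.Equidim

/-!
# Derivations of power series rings detect differentials at every prime
-/

set_option linter.style.haveILetI false

namespace Groth.Agent.Ega41H93

open IsLocalRing EGA41

universe u

attribute [local instance 10000] Ring.toIntAlgebra

variable (p : ℕ) [hp : Fact p.Prime] {K : Type u} [Field K] [CharP K p]

section Subfields

variable (T : Set K) (bas : Module.Basis T K (Ω[K⁄ℤ]))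
  (hbas : ∀ b, bas b = KaehlerDifferential.D ℤ K (b : K))
  (hgen : Subfield.closure (((frobenius K p).fieldRange : Set K) ∪ T) = ⊤)
  (s : ℕ) (E L : Type u) [Field E] [Field L] [CharP L p] [Algebra (MvPowerSeries (Fin s) K) E]
  [IsFractionRing (MvPowerSeries (Fin s) K) E] [Algebra (MvPowerSeries (Fin s) K) L] [Algebra E L]
  [IsScalarTower (MvPowerSeries (Fin s) K) E L] [Module.Finite E L]

/-- The subfield of `L` generated by the subring of series. -/
noncomputable def frSub (S : Finset T) : Subfield L :=
  Subfield.closure (algebraMap (MvPowerSeries (Fin s) K) L '' (psSub p (coSub p T S) s : Set (MvPowerSeries (Fin s) K)))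

omit [CharP L p] in
theorem frSub_anti {S S' : Finset T} (h : S ⊆ S') : frSub p T s L S' ≤ frSub p T s L S :=
  Subfield.closure_mono (Set.image_mono (psSub_mono p (coSub_anti p T h)))

include bas hbas hgen E in
set_option maxHeartbeats 1000000 in
/-- The subfields cut out the `p`-th powers and have small coheight. -/
theorem exists_subfields :
    (⨅ S : Finset T, (frSub p T s L S ⊔ (frobenius L p).fieldRange) = (frobenius L p).fieldRange) ∧
      ∃ S₀ : Finset T, ∀ S, S₀ ⊆ S → ∀ (ι : Type u) [Fintype ι] (x : ι → L),
        PBasisLib.Free p (frSub p T s L S) x → Fintype.card ι ≤ S.card + s := by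
  classical
  let P' := MvPowerSeries (Fin s) K
  haveI : IsDomain P' := NoZeroDivisors.to_isDomain _
  haveI : CharP E p := (algebraMap E L).charP (algebraMap E L).injective p
  haveI : CharP P' p := charP_of_injective_algebraMap (algebraMap K P').injective p
  haveI : ExpChar L p := ExpChar.prime hp.out
  let RE : Finset T → Subfield E := fun S =>
    Subfield.closure (algebraMap P' E '' (psSub p (coSub p T S) s : Set P'))
  let R : Finset T → Subfield L := fun S => frSub p T s L S
  have hR : ∀ S, R S = (RE S).map (algebraMap E L) := fun S => by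
    show Subfield.closure _ = _
    rw [RingHom.map_field_closure, Set.image_image]
    exact congrArg Subfield.closure (Set.image_congr' fun a => IsScalarTower.algebraMap_apply P' E L a)
  have hpowE : ∀ (S : Finset T) (z : E), z ^ p ∈ RE S := fun S z => by
    obtain ⟨a, b, -, rfl⟩ := IsFractionRing.div_surjective (A := P') z
    rw [div_pow, ← map_pow, ← map_pow]
    exact div_mem (Subfield.subset_closure ⟨_, pow_mem_psSub p T S a, rfl⟩)
      (Subfield.subset_closure ⟨_, pow_mem_psSub p T S b, rfl⟩)
  have hpowR : ∀ (S : Finset T) (z : E), algebraMap E L z ^ p ∈ R S := fun S z => by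
    rw [hR, ← map_pow]
    exact ⟨_, hpowE S z, rfl⟩
  let F : Subfield L := (frobenius E p).fieldRange.map (algebraMap E L)
  have hF : ∀ y, (∀ S, y ∈ R S) → y ∈ F := fun y hy => by
    obtain ⟨z, -, rfl⟩ := hR ∅ ▸ hy ∅
    refine ⟨z, mem_frobenius_of_forall_frac (r := s) p T bas hbas fun S => ?_, rfl⟩
    obtain ⟨z', hz', he⟩ := hR S ▸ hy S
    exact (algebraMap E L).injective he ▸ hz'
  let σ := Module.Free.ChooseBasisIndex E L
  let u : Module.Basis σ E L := Module.Free.chooseBasis E L
  let v : σ → L := fun i => u i ^ p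
  have hvF : AdicFS4.IndepOn (F : Set L) Finset.univ v := by
    intro c hc hsum i _
    choose z hz hzc using fun i => hc i (Finset.mem_univ i)
    choose w hw using hz
    have hcw : ∀ i, c i = algebraMap E L (w i) ^ p := fun i => by
      rw [← hzc i, ← hw i, frobenius_def, map_pow]
    have h0 : (∑ i, w i • u i) ^ p = 0 := by
      rw [sum_pow_char, ← hsum]
      exact Finset.sum_congr rfl fun i _ => by rw [Algebra.smul_def, mul_pow, hcw]
    have h1 := Fintype.linearIndependent_iff.1 u.linearIndependent w (eq_zero_of_pow_eq_zero h0) i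
    rw [hcw, h1, map_zero, zero_pow hp.out.ne_zero]
  have hRanti : Antitone R := fun S S' h => frSub_anti p T s L h
  obtain ⟨S₀, -, hS₀⟩ := AdicFS4.exists_indepOn R hRanti (F : Set L) hF (fun y hy => neg_mem hy) (one_mem F) v
    Finset.univ hvF ∅
  have hind : ∀ S, S₀ ⊆ S → AdicFS4.IndepOn (R S : Set L) Finset.univ v := fun S hS c hc =>
    hS₀ c fun i hi => hRanti hS (hc i hi)
  have hadj : ∀ (S : Finset T) (y : L), y ∈ pPowerSubalgebra p (R S) L →
      y ∈ Submodule.span (R S) (Set.range v) := by
    intro S
    have hpow : ∀ w : L, w ^ p ∈ Submodule.span (R S) (Set.range v) := fun w => by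
      rw [← u.sum_repr w, sum_pow_char]
      refine sum_mem fun i _ => ?_
      rw [Algebra.smul_def, mul_pow]
      exact Submodule.smul_mem _ (⟨_, hpowR S _⟩ : R S) (Submodule.subset_span ⟨i, rfl⟩)
    intro y hy
    induction hy using Algebra.adjoin_induction with
    | mem z hz => obtain ⟨w, rfl⟩ := hz; exact hpow w
    | algebraMap c =>
      rw [Algebra.algebraMap_eq_smul_one, ← one_pow p]
      exact Submodule.smul_mem _ c (hpow 1)
    | add _ _ _ _ h1 h2 => exact add_mem h1 h2
    | mul a b ha0 hb0 h1 h2 =>
      clear ha0 hb0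
      induction h1, h2 using Submodule.span_induction₂ with
      | mem_mem a b ha hb =>
        obtain ⟨i, rfl⟩ := ha
        obtain ⟨j, rfl⟩ := hb
        show u i ^ p * u j ^ p ∈ _
        rw [← mul_pow]
        exact hpow _
      | zero_left b _ => rw [zero_mul]; exact zero_mem _
      | zero_right a _ => rw [mul_zero]; exact zero_mem _
      | add_left a a' b _ _ _ h h' => rw [add_mul]; exact add_mem h h'
      | add_right a b b' _ _ _ h h' => rw [mul_add]; exact add_mem h h'
      | smul_left c a b _ _ h => rw [smul_mul_assoc]; exact Submodule.smul_mem _ c h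
      | smul_right c a b _ _ h => rw [mul_smul_comm]; exact Submodule.smul_mem _ c h
  refine ⟨le_antisymm (fun y hy => ?_) (le_iInf fun S => le_sup_right), S₀, fun S hS ι _ x hx => ?_⟩
  · have hcoef : ∀ S, ∃ c : σ → L, (∀ i, c i ∈ R S) ∧ ∑ i, c i * v i = y := fun S => by
      have h1 : y ∈ (PBasisLib.Fp p (R S) (∅ : Set L)).toSubfield := by
        rw [AdicFS4.toSubfield_Fp]
        refine (sup_le_sup_right ?_ _ : R S ⊔ _ ≤ _) (Subfield.mem_iInf.1 hy S)
        intro z hz
        exact ⟨⟨z, hz⟩, rfl⟩
      obtain ⟨a, ha⟩ := (Submodule.mem_span_range_iff_exists_fun (R S)).1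
        (hadj S y ((AdicFS4.mem_pPower_iff p (R S) y).2 h1))
      exact ⟨fun i => (a i : L), fun i => (a i).2, by simpa [Subfield.smul_def] using ha⟩
    obtain ⟨c, hc, hcy⟩ := hcoef S₀
    have hcF : ∀ i, c i ∈ F := fun i => hF _ fun S => by
      obtain ⟨c', hc', hcy'⟩ := hcoef (S₀ ∪ S)
      have h := hind S₀ subset_rfl (fun j => c j - c' j)
        (fun j _ => sub_mem (hc j) (hRanti Finset.subset_union_left (hc' j))) (by
          simp only [sub_mul, Finset.sum_sub_distrib, hcy, hcy', sub_self]) i (Finset.mem_univ i)
      rw [sub_eq_zero.1 h]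
      exact hRanti Finset.subset_union_right (hc' i)
    rw [← hcy]
    refine sum_mem fun i _ => mul_mem ?_ ⟨u i, rfl⟩
    obtain ⟨z, ⟨w, hw⟩, hz⟩ := hcF i
    exact ⟨algebraMap E L w, by rw [← hz, ← hw, frobenius_def, frobenius_def, map_pow]⟩
  · let z : S ⊕ Fin s → P' := Sum.elim (fun b : S => MvPowerSeries.C ((b : T) : K)) MvPowerSeries.X
    have hspanE : Submodule.span (RE S)
        (Set.range fun e : S ⊕ Fin s → Fin p => ∏ i, algebraMap P' E (z i) ^ (e i : ℕ)) = ⊤ := by
      refine span_monomials_eq_top p (RE S) (hpowE S) _ (eq_top_iff.2 fun y _ => ?_)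
      set W := Subfield.closure ((RE S : Set E) ∪ Set.range fun i => algebraMap P' E (z i))
      have hle : Subring.closure ((psSub p (coSub p T S) s : Set P') ∪ Set.range z) ≤
          W.toSubring.comap (algebraMap P' E) := by
        refine Subring.closure_le.2 ?_
        rintro a (ha | ⟨i, rfl⟩)
        · exact Subfield.subset_closure (Or.inl (Subfield.subset_closure ⟨a, ha, rfl⟩))
        · exact Subfield.subset_closure (Or.inr ⟨i, rfl⟩)
      rw [closure_psSub_eq_top p T hgen S] at hle
      obtain ⟨a, b, -, rfl⟩ := IsFractionRing.div_surjective (A := P') y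
      exact div_mem (hle (Subring.mem_top a)) (hle (Subring.mem_top b))
    let M : σ × (S ⊕ Fin s → Fin p) → L :=
      fun ie => (∏ i, algebraMap P' L (z i) ^ (ie.2 i : ℕ)) * u ie.1
    have hspanL : Submodule.span (R S) (Set.range M) = ⊤ := by
      refine eq_top_iff.2 fun y _ => ?_
      rw [← u.sum_repr y]
      refine sum_mem fun i _ => ?_
      obtain ⟨a, ha⟩ := (Submodule.mem_span_range_iff_exists_fun (RE S)).1
        (hspanE ▸ (Submodule.mem_top : u.repr y i ∈ ⊤))
      rw [← ha, Finset.sum_smul]
      refine sum_mem fun e _ => ?_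
      have : ((a e) • ∏ j, algebraMap P' E (z j) ^ (e j : ℕ)) • u i =
          (⟨algebraMap E L (a e : E), hR S ▸ ⟨_, (a e).2, rfl⟩⟩ : R S) • M (i, e) := by
        rw [Subfield.smul_def, Subfield.smul_def, smul_eq_mul, Algebra.smul_def, map_mul, map_prod, smul_eq_mul,
          mul_assoc]
        simp only [map_pow, ← IsScalarTower.algebraMap_apply, M]
      rw [this]
      exact Submodule.smul_mem _ _ (Submodule.subset_span ⟨(i, e), rfl⟩)
    haveI : Module.Finite (R S) L := ⟨hspanL ▸ Submodule.fg_span (Set.finite_range M)⟩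
    have hmono := ((PBasisLib.isPIndependent_iff_free p (R S) x).2 hx).comp
      (fun e : ι → Fin p => (⟨Finsupp.equivFunOnFinite.symm fun i => (e i : ℕ), fun i => by simp⟩ :
        {e : ι →₀ ℕ // ∀ i, e i < p}))
      (fun e e' h => funext fun i => Fin.ext (by simpa using congrArg (fun g => g.1 i) h))
    let N : σ × (ι → Fin p) → L :=
      fun ie => v ie.1 * pMonomial x (Finsupp.equivFunOnFinite.symm fun i => (ie.2 i : ℕ))
    have hN : LinearIndependent (R S) N := by
      refine Fintype.linearIndependent_iff.2 fun g hg => ?_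
      let G : (ι → Fin p) → pPowerSubalgebra p (R S) L := fun e =>
        ∑ i, g (i, e) • ⟨v i, Algebra.subset_adjoin ⟨u i, rfl⟩⟩
      have hG : ∀ e, (G e : L) = ∑ i, (g (i, e) : L) * v i := fun e => by
        simp [G, Subfield.smul_def]
      have h0 := Fintype.linearIndependent_iff.1 hmono G (by
        rw [← hg, Fintype.sum_prod_type, Finset.sum_comm]
        refine Finset.sum_congr rfl fun e _ => ?_
        rw [Subalgebra.smul_def, smul_eq_mul, hG, Finset.sum_mul]
        exact Finset.sum_congr rfl fun i _ => by
          rw [Subfield.smul_def, smul_eq_mul, mul_assoc]; rfl)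
      rintro ⟨i, e⟩
      have h1 : (G e : L) = 0 := by rw [h0 e]; rfl
      rw [hG] at h1
      exact Subtype.ext (hind S hS (fun i => (g (i, e) : L)) (fun i _ => (g (i, e)).2) h1 i (Finset.mem_univ i))
    have h1 := hN.fintype_card_le_finrank
    have h2 := (finrank_range_le_card (R := R S) M)
    rw [Set.finrank, hspanL, finrank_top] at h2
    have h3 := h1.trans h2
    simp only [Fintype.card_prod, Fintype.card_fun, Fintype.card_fin, Fintype.card_sum, Fintype.card_coe] at h3
    have hd : 0 < Fintype.card σ := Fintype.card_pos_iff.2 u.index_nonempty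
    exact (Nat.pow_le_pow_iff_right hp.out.one_lt).1 (Nat.le_of_mul_le_mul_left h3 hd)

end Subfields

include p hp in
set_option maxHeartbeats 4000000 in
/-- Derivations of the power series ring detect absolute differentials at every prime. -/
theorem exists_derivation_notMem_int {r : ℕ} (P : Ideal (MvPowerSeries (Fin r) K)) [P.IsPrime] {m : ℕ}
    (c y : Fin m → MvPowerSeries (Fin r) K) (δ₀ : Derivation ℤ (MvPowerSeries (Fin r) K) P.ResidueField)
    (hδ₀ : ∑ j, algebraMap (MvPowerSeries (Fin r) K) P.ResidueField (c j) * δ₀ (y j) ≠ 0) :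
    ∃ D : Derivation ℤ (MvPowerSeries (Fin r) K) (MvPowerSeries (Fin r) K), (∑ j, c j * D (y j)) ∉ P := by
  classical
  let A := MvPowerSeries (Fin r) K
  let B := A ⧸ P
  let L := P.ResidueField
  haveI : IsRegularLocalRing A := PSLib.isRegularLocalRing (K := K) (n := r)
  haveI : IsAdicComplete (maximalIdeal A) A := by rw [PSLib.maximalIdeal_eq_vars]; infer_instance
  haveI : Module.Finite K (ResidueField A) := by
    refine Module.Finite.of_surjective (Algebra.linearMap K (ResidueField A)) fun z => ?_
    obtain ⟨a, rfl⟩ := residue_surjective z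
    refine ⟨MvPowerSeries.constantCoeff a, ?_⟩
    show residue A (MvPowerSeries.C (MvPowerSeries.constantCoeff a)) = residue A a
    refine Ideal.Quotient.eq.2 ?_
    rw [PSLib.maximalIdeal_eq_vars]
    exact PSLib.mem_vars_iff.2 (by simp)
  haveI : IsLocalRing B := .of_surjective' (Ideal.Quotient.mk P) Ideal.Quotient.mk_surjective
  haveI := CplKaehler4.isAdicComplete_quot P
  haveI := finite_residueField_quot (k := K) P
  obtain ⟨s, xs, hxs, hs, hrad⟩ := CohenLib.exists_fin_sop B
  obtain ⟨ψ, -, hfin, -⟩ := CplKaehler4.exists_algHom_finite K xs hxs hrad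
  letI : Algebra (MvPowerSeries (Fin s) K) B := ψ.toRingHom.toAlgebra
  haveI : Module.Finite (MvPowerSeries (Fin s) K) B := hfin
  haveI : IsDomain (MvPowerSeries (Fin s) K) := NoZeroDivisors.to_isDomain _
  have hinj : Function.Injective ψ.toRingHom :=
    CohenLib.injective_of_finite ψ.toRingHom hfin hs (PSLib.ringKrullDim_eq K s).le
  letI : Algebra (MvPowerSeries (Fin s) K) L := ((algebraMap B L).comp ψ.toRingHom).toAlgebra
  haveI : IsScalarTower (MvPowerSeries (Fin s) K) B L := IsScalarTower.of_algebraMap_eq fun _ => rfl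
  haveI : IsDomain (MvPowerSeries (Fin s) K) := NoZeroDivisors.to_isDomain _
  haveI : FaithfulSMul (MvPowerSeries (Fin s) K) L := (faithfulSMul_iff_algebraMap_injective _ _).2
    ((IsFractionRing.injective B L).comp hinj)
  let E := FractionRing (MvPowerSeries (Fin s) K)
  letI : Algebra E L := FractionRing.liftAlgebra _ L
  haveI : Module.Finite E L := CplKaehler4.finite_fractionField (MvPowerSeries (Fin s) K) B E L
  haveI : CharP L p := charP_of_injective_algebraMap (algebraMap K L).injective p
  obtain ⟨T, bas, hbas, hgen⟩ := exists_pBasis p (K := K)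
  obtain ⟨hint, S₀, hcard⟩ := exists_subfields p T bas hbas hgen s E L
  let R : Finset T → Subfield L := fun S => frSub p T s L S
  have hsum : ∀ (δ : Derivation ℤ A L) (S : Finset T) (hk : ∀ a ∈ psSub p (coSub p T S) r, δ a = 0)
      (D : S ⊕ Fin r → Derivation ℤ A A)
      (hD : ∀ z z', D z (Sum.elim (fun b : S => MvPowerSeries.C ((b : T) : K)) MvPowerSeries.X z') =
        if z = z' then 1 else 0)
      (hD0 : ∀ z, ∀ a ∈ psSub p (coSub p T S) r, D z a = 0) (a : A),
      δ a = ∑ z, algebraMap A L (D z a) * δ (Sum.elim (fun b : S => MvPowerSeries.C ((b : T) : K)) MvPowerSeries.X z) := by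
    intro δ S hk D hD hD0
    let w := fun z => δ (Sum.elim (fun b : S => MvPowerSeries.C ((b : T) : K)) MvPowerSeries.X z)
    let W : Subring A :=
      { carrier := {a | δ a = ∑ z, algebraMap A L (D z a) * w z}
        mul_mem' := fun {a b} (ha : δ a = _) (hb : δ b = _) => by
          show δ (a * b) = _
          rw [δ.leibniz, ha, hb, Finset.smul_sum, Finset.smul_sum, ← Finset.sum_add_distrib]
          refine Finset.sum_congr rfl fun z _ => ?_
          rw [Derivation.leibniz, map_add, smul_eq_mul, smul_eq_mul, map_mul, map_mul, Algebra.smul_def, Algebra.smul_def]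
          ring
        one_mem' := by
          show δ 1 = _
          simp
        add_mem' := fun {a b} (ha : δ a = _) (hb : δ b = _) => by
          show δ (a + b) = _
          simp only [map_add, ha, hb, add_mul, Finset.sum_add_distrib]
        zero_mem' := by
          show δ 0 = _
          simp
        neg_mem' := fun {a} (ha : δ a = _) => by
          show δ (-a) = _
          rw [map_neg, ha, ← Finset.sum_neg_distrib]
          exact Finset.sum_congr rfl fun z _ => by rw [map_neg, map_neg, neg_mul] }
    have htop : (⊤ : Subring A) ≤ W := by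
      rw [← closure_psSub_eq_top p T hgen S, Subring.closure_le]
      rintro a (ha | ⟨z', rfl⟩)
      · show δ a = _
        simp [hk a ha, hD0 _ a ha]
      · show δ _ = _
        simp only [hD, apply_ite (algebraMap A L), map_one, map_zero, ite_mul, one_mul, zero_mul,
          Finset.sum_ite_eq', Finset.mem_univ, if_true]
        rfl
    exact fun a => htop (Subring.mem_top a)
  by_cases hcase : ∃ δ : Derivation ℤ A L, (∀ x ∈ P, δ x = 0) ∧ ∑ j, algebraMap A L (c j) * δ (y j) ≠ 0
  · obtain ⟨δ, hδP, hδ⟩ := hcase
    let δB : Derivation ℤ B L := Derivation.mk'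
      (Submodule.liftQ (P.restrictScalars ℤ) δ.toLinearMap fun x hx => hδP x hx) fun a b => by
        obtain ⟨a, rfl⟩ := Ideal.Quotient.mk_surjective a
        obtain ⟨b, rfl⟩ := Ideal.Quotient.mk_surjective b
        show δ (a * b) = _
        rw [δ.leibniz, ← algebraMap_smul B a, ← algebraMap_smul B b]
        rfl
    haveI : IsScalarTower ℤ B L := ⟨fun n b z => by
      simp [Algebra.smul_def, mul_assoc]⟩
    haveI : Algebra.FormallyEtale B L := .of_isLocalization (nonZeroDivisors B)
    let e := KaehlerDifferential.tensorKaehlerEquivOfFormallyEtale ℤ B L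
    let δL : Derivation ℤ L L :=
      ((LinearMap.liftBaseChange L δB.liftKaehlerDifferential).comp e.symm.toLinearMap).compDer
        (KaehlerDifferential.D ℤ L)
    have hδL : ∀ a, δL (algebraMap A L a) = δ a := fun a => by
      show LinearMap.liftBaseChange L _ (e.symm (KaehlerDifferential.D ℤ L (algebraMap A L a))) = _
      rw [IsScalarTower.algebraMap_apply A B L, KaehlerDifferential.tensorKaehlerEquivOfFormallyEtale_symm_D_algebraMap,
        LinearMap.liftBaseChange_tmul, one_smul, Derivation.liftKaehlerDifferential_comp_D]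
      rfl
    let v : Ω[L⁄ℤ] := ∑ j, algebraMap A L (c j) • KaehlerDifferential.D ℤ L (algebraMap A L (y j))
    have hlift : ∀ d : Derivation ℤ L L,
        d.liftKaehlerDifferential v = ∑ j, algebraMap A L (c j) * d (algebraMap A L (y j)) := fun d => by
      simp [v, map_sum, Algebra.smul_def]
    have hv : v ≠ 0 := fun h => hδ (by
      have := hlift δL
      rw [h, map_zero] at this
      rw [this]
      exact Finset.sum_congr rfl fun j _ => by rw [hδL])
    obtain ⟨TL, basL, hbasL, hfreeL⟩ := AdicFS4.exists_basis_int p (k := L)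
    obtain ⟨b₀, hb₀⟩ : ∃ b₀, basL.repr v b₀ ≠ 0 := by
      by_contra h
      push Not at h
      exact hv (basL.repr.injective (Finsupp.ext fun b => by simpa using h b))
    let t := (basL.repr v).support
    let Q := ULift.{u} (ZMod p)
    letI : Algebra Q L := ((ZMod.castHom dvd_rfl L).comp (ULift.ringEquiv (R := ZMod p)).toRingHom).toAlgebra
    have hnat : ∀ x : Q, ∃ n : ℕ, algebraMap Q L x = n := fun x => by
      obtain ⟨n, hn⟩ := ZMod.natCast_zmod_surjective (n := p) x.down
      refine ⟨n, ?_⟩
      show ZMod.castHom dvd_rfl L x.down = _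
      rw [← hn, map_natCast]
    have hfs : PBasisLib.Free p Q (fun b : t => ((b : TL) : L)) := fun a ha => by
      refine hfreeL Q hnat (a : TL) (PBasisLib.Fp_mono p Q ?_ ha)
      rintro _ ⟨b, hb, rfl⟩
      exact ⟨(b : TL), fun h => hb (Subtype.ext h), rfl⟩
    obtain ⟨S, -, hS⟩ := AdicFS4.exists_free p R (fun S S' h => frSub_anti p T s L h) hint Q _ hfs S₀
    have hli := (PBasisLib.free_iff_linearIndependent_D p (R S) _).1 hS
    let bb := Module.Basis.span hli
    let b₁ : t := ⟨b₀, Finsupp.mem_support_iff.2 hb₀⟩
    obtain ⟨φ, hφ⟩ := LinearMap.exists_extend (bb.constr L fun b' : t => if b' = b₁ then (1 : L) else 0)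
    have hφ' : ∀ b' : t, φ (KaehlerDifferential.D (R S) L ((b' : TL) : L)) = if b' = b₁ then 1 else 0 := fun b' => by
      have := LinearMap.congr_fun hφ (bb b')
      rw [Module.Basis.constr_basis, LinearMap.comp_apply, Submodule.subtype_apply, Module.Basis.span_apply] at this
      exact this
    let δ' : Derivation ℤ L L := (φ.compDer (KaehlerDifferential.D (R S) L)).restrictScalars ℤ
    have hδ'v : δ'.liftKaehlerDifferential v = basL.repr v b₀ := by
      conv_lhs => rw [← basL.linearCombination_repr v, Finsupp.linearCombination_apply, Finsupp.sum,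
        ← Finset.sum_coe_sort, map_sum]
      rw [Finset.sum_eq_single b₁]
      · rw [map_smul, hbasL, Derivation.liftKaehlerDifferential_comp_D]
        show _ • φ (KaehlerDifferential.D (R S) L ((b₁ : TL) : L)) = _
        rw [hφ', if_pos rfl, smul_eq_mul, mul_one]
      · intro b' _ hb'
        rw [map_smul, hbasL, Derivation.liftKaehlerDifferential_comp_D]
        show _ • φ (KaehlerDifferential.D (R S) L ((b' : TL) : L)) = _
        rw [hφ', if_neg hb', smul_zero]
      · intro h; exact absurd (Finset.mem_univ _) h
    have hδ'R : ∀ z ∈ R S, δ' z = 0 := fun z hz => by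
      show φ (KaehlerDifferential.D (R S) L (algebraMap (R S) L ⟨z, hz⟩)) = 0
      rw [Derivation.map_algebraMap, map_zero]
    let δA : Derivation ℤ A L := Derivation.mk' (δ'.toLinearMap.comp (Algebra.linearMap A L).toAddMonoidHom.toIntLinearMap)
      fun a b => by
        show δ' (algebraMap A L (a * b)) = a • δ' (algebraMap A L b) + b • δ' (algebraMap A L a)
        rw [map_mul, δ'.leibniz, algebraMap_smul, algebraMap_smul]
    obtain ⟨nB, wB, hwB⟩ := Submodule.fg_iff_exists_fin_generating_family.1
      (Module.Finite.fg_top (R := MvPowerSeries (Fin s) K) (M := B))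
    let zs : S ⊕ Fin s → MvPowerSeries (Fin s) K :=
      Sum.elim (fun b : S => MvPowerSeries.C ((b : T) : K)) MvPowerSeries.X
    let N : Submodule B L := Submodule.span B
      (Set.range (Sum.elim (fun z => δ' (algebraMap (MvPowerSeries (Fin s) K) L (zs z))) fun i => δ' (algebraMap B L (wB i))))
    haveI : Module.Finite B N := Module.Finite.iff_fg.2 (Submodule.fg_span (Set.finite_range _))
    have hNP : ∀ a, δ' (algebraMap (MvPowerSeries (Fin s) K) L a) ∈ N := by
      let W : Subring (MvPowerSeries (Fin s) K) :=
        { carrier := {a | δ' (algebraMap (MvPowerSeries (Fin s) K) L a) ∈ N}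
          mul_mem' := fun {a b} ha hb => by
            show δ' _ ∈ N
            rw [map_mul, δ'.leibniz, IsScalarTower.algebraMap_apply _ B L a, IsScalarTower.algebraMap_apply _ B L b,
              algebraMap_smul, algebraMap_smul]
            refine add_mem (N.smul_mem _ ?_) (N.smul_mem _ ?_)
            · rw [← IsScalarTower.algebraMap_apply]; exact hb
            · rw [← IsScalarTower.algebraMap_apply]; exact ha
          one_mem' := by show δ' _ ∈ N; rw [map_one, δ'.map_one_eq_zero]; exact zero_mem N
          add_mem' := fun {a b} ha hb => by show δ' _ ∈ N; rw [map_add, map_add]; exact add_mem ha hb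
          zero_mem' := by show δ' _ ∈ N; rw [map_zero, map_zero]; exact zero_mem N
          neg_mem' := fun {a} ha => by show δ' _ ∈ N; rw [map_neg, map_neg]; exact neg_mem ha }
      have htop : (⊤ : Subring _) ≤ W := by
        rw [← closure_psSub_eq_top p T hgen S, Subring.closure_le]
        rintro a (ha | ⟨z', rfl⟩)
        · show δ' _ ∈ N
          rw [hδ'R _ (Subfield.subset_closure ⟨a, ha, rfl⟩)]
          exact zero_mem N
        · exact Submodule.subset_span ⟨Sum.inl z', rfl⟩
      exact fun a => htop (Subring.mem_top a)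
    have hNB : ∀ b, δ' (algebraMap B L b) ∈ N := fun b => by
      obtain ⟨g, rfl⟩ := (Submodule.mem_span_range_iff_exists_fun _).1 (hwB ▸ (Submodule.mem_top : b ∈ ⊤))
      rw [map_sum, map_sum]
      refine sum_mem fun i _ => ?_
      rw [Algebra.smul_def, map_mul, δ'.leibniz, ← IsScalarTower.algebraMap_apply]
      refine add_mem ?_ ?_
      · rw [IsScalarTower.algebraMap_apply (MvPowerSeries (Fin s) K) B L, algebraMap_smul]
        exact N.smul_mem _ (Submodule.subset_span ⟨Sum.inr i, rfl⟩)
      · rw [algebraMap_smul]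
        exact N.smul_mem _ (hNP _)
    haveI : Module.Finite A N := Module.Finite.trans B N
    have hNA : ∀ a : A, δA a ∈ N := fun a => by
      show δ' (algebraMap A L a) ∈ N
      rw [IsScalarTower.algebraMap_apply A B L]
      exact hNB _
    letI : Module ℤ N := AddCommGroup.toIntModule N
    let δNl : A →ₗ[ℤ] N :=
      { toFun := fun a => ⟨δA a, hNA a⟩
        map_add' := fun a b => Subtype.ext (map_add δA a b)
        map_smul' := fun n a => Subtype.ext (map_zsmul δA n a) }
    let δN : Derivation ℤ A N :=
      { toLinearMap := δNl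
        map_one_eq_zero' := Subtype.ext δA.map_one_eq_zero
        leibniz' := fun a b => Subtype.ext (δA.leibniz a b) }
    have hδAk : ∀ a ∈ psSub p (coSub p T S) r, δA a = 0 := fun a ha => by
      refine congrArg Subtype.val (derivation_psSub_eq_zero (M := N) p _ δN (fun c hc => Subtype.ext ?_) a ha)
      show δ' (algebraMap A L (MvPowerSeries.C c)) = 0
      refine hδ'R _ (Subfield.subset_closure ⟨MvPowerSeries.C c, C_mem_psSub p hc, ?_⟩)
      show algebraMap B L (ψ (algebraMap K _ c)) = _
      rw [AlgHom.commutes, IsScalarTower.algebraMap_apply A B L]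
      rfl
    obtain ⟨D, hD, hD0⟩ := exists_partials p T bas hbas S (r := r)
    by_contra hcon
    push Not at hcon
    have h1 := hδ'v
    rw [hlift] at h1
    refine hb₀ (h1.symm.trans ?_)
    calc ∑ j, algebraMap A L (c j) * δ' (algebraMap A L (y j))
        = ∑ j, algebraMap A L (c j) * ∑ z, algebraMap A L (D z (y j)) *
            δA (Sum.elim (fun b : S => MvPowerSeries.C ((b : T) : K)) MvPowerSeries.X z) :=
          Finset.sum_congr rfl fun j _ => congrArg _ (hsum δA S hδAk D hD hD0 (y j))
      _ = ∑ z, algebraMap A L (∑ j, c j * D z (y j)) *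
            δA (Sum.elim (fun b : S => MvPowerSeries.C ((b : T) : K)) MvPowerSeries.X z) := by
          rw [Finset.sum_congr rfl (fun j _ => Finset.mul_sum _ _ _), Finset.sum_comm]
          simp only [map_sum, map_mul, Finset.sum_mul]
          exact Finset.sum_congr rfl fun z _ => Finset.sum_congr rfl fun j _ => by ring
      _ = 0 := Finset.sum_eq_zero fun z _ => by
          rw [Ideal.algebraMap_residueField_eq_zero.2 (hcon (D z)), zero_mul]
  · push Not at hcase
    haveI : IsRegularRing A := RegLoc6.isRegularRing_of_isRegularLocalRing _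
    haveI : IsRegularLocalRing (Localization.AtPrime P) := IsRegularRing.isRegularLocalRing_localization _
    obtain ⟨h, hh⟩ : ∃ h : ℕ, ringKrullDim (Localization.AtPrime P) = h :=
      ⟨_, ((isRegularLocalRing_iff (Localization.AtPrime P)).1 inferInstance).symm⟩
    have hdim : s + h = r := by
      have h1 := FormCat.height_add_ringKrullDim_quotient_regular A P Ideal.IsPrime.ne_top'
      rw [← IsLocalization.AtPrime.ringKrullDim_eq_height P (Localization.AtPrime P), hh, hs,
        PSLib.ringKrullDim_eq K r] at h1
      exact_mod_cast h1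
    obtain ⟨g, hgP, hg⟩ := exists_generators_at P hh
    obtain ⟨D, hD, hD0⟩ := exists_partials p T bas hbas S₀ (r := r)
    let Z := S₀ ⊕ Fin r
    let w : Z → A := Sum.elim (fun b : S₀ => MvPowerSeries.C ((b : T) : K)) MvPowerSeries.X
    let Φ : A → (Z → L) := fun a z => algebraMap A L (D z a)
    let N := Submodule.span L (Set.range fun l => Φ (g l))
    let V := (Z → L) ⧸ N
    let Ψ : Derivation ℤ A V := Derivation.mk'
      ({ toFun := fun a => N.mkQ (Φ a)
         map_zero' := by rw [show Φ 0 = 0 from funext fun z => by simp [Φ], map_zero]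
         map_add' := fun a b => by rw [← map_add, show Φ (a + b) = Φ a + Φ b from funext fun z => by simp [Φ]] } :
        A →+ V).toIntLinearMap
      fun a b => by
        show N.mkQ (Φ (a * b)) = a • N.mkQ (Φ b) + b • N.mkQ (Φ a)
        rw [← algebraMap_smul L a, ← algebraMap_smul L b, ← map_smul, ← map_smul, ← map_add]
        refine congrArg N.mkQ (funext fun z => ?_)
        show algebraMap A L (D z (a * b)) = algebraMap A L a * _ + algebraMap A L b * _
        rw [Derivation.leibniz, map_add, smul_eq_mul, smul_eq_mul, map_mul, map_mul]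
    have hPV : ∀ a ∈ P, ∀ v : V, a • v = 0 := fun a ha v => by
      rw [← algebraMap_smul L a, Ideal.algebraMap_residueField_eq_zero.2 ha, zero_smul]
    have hΨP : ∀ a ∈ P, Ψ a = 0 := by
      intro a ha
      obtain ⟨c', hc', hca⟩ := hg a ha
      obtain ⟨b, hb⟩ := Ideal.mem_span_range_iff_exists_fun.1 hca
      have h1 : c' • Ψ a = 0 := by
        have h2 := congrArg Ψ hb
        rw [map_sum, Ψ.leibniz c' a, hPV a ha, add_zero] at h2
        rw [← h2]
        refine Finset.sum_eq_zero fun i _ => ?_
        rw [Ψ.leibniz, hPV _ (hgP i),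
          show Ψ (g i) = 0 from (Submodule.Quotient.mk_eq_zero N).2 (Submodule.subset_span ⟨i, rfl⟩), smul_zero,
          add_zero]
      rwa [← algebraMap_smul L c', smul_eq_zero_iff_right] at h1
      rwa [Ne, Ideal.algebraMap_residueField_eq_zero]
    let M : Submodule B V := Submodule.span B (Set.range fun z => N.mkQ (Pi.single z 1))
    haveI : Module.Finite B M := Module.Finite.iff_fg.2 (Submodule.fg_span (Set.finite_range _))
    have hM : ∀ a, Ψ a ∈ M := fun a => by
      show N.mkQ (Φ a) ∈ M
      rw [pi_eq_sum_univ' (Φ a), map_sum]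
      refine sum_mem fun z _ => ?_
      rw [map_smul, show Φ a z = algebraMap B L (Ideal.Quotient.mk P (D z a)) from rfl, algebraMap_smul]
      exact M.smul_mem _ (Submodule.subset_span ⟨z, rfl⟩)
    letI : Module ℤ M := AddCommGroup.toIntModule M
    let ΨB : Derivation ℤ B M := Derivation.mk'
      (Submodule.liftQ (P.restrictScalars ℤ)
        ({ toFun := fun a => ⟨Ψ a, hM a⟩
           map_add' := fun a b => Subtype.ext (map_add Ψ a b)
           map_smul' := fun n a => Subtype.ext (map_zsmul Ψ n a) } : A →ₗ[ℤ] M)
        fun a ha => Subtype.ext (hΨP a ha))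
      fun a b => by
        obtain ⟨a, rfl⟩ := Ideal.Quotient.mk_surjective a
        obtain ⟨b, rfl⟩ := Ideal.Quotient.mk_surjective b
        refine Subtype.ext ?_
        show Ψ (a * b) = _
        rw [Ψ.leibniz, ← algebraMap_smul B a, ← algebraMap_smul B b]
        rfl
    haveI : IsScalarTower ℤ B L := ⟨fun n b z => by
      simp [Algebra.smul_def, mul_assoc]⟩
    haveI : Algebra.FormallyEtale B L := .of_isLocalization (nonZeroDivisors B)
    let e := KaehlerDifferential.tensorKaehlerEquivOfFormallyEtale ℤ B L
    let ΨL : Derivation ℤ L V :=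
      ((LinearMap.liftBaseChange L (M.subtype.comp ΨB.liftKaehlerDifferential)).comp e.symm.toLinearMap).compDer
        (KaehlerDifferential.D ℤ L)
    have hΨL : ∀ b, ΨL (algebraMap B L b) = ΨB b := fun b => by
      show LinearMap.liftBaseChange L _ (e.symm (KaehlerDifferential.D ℤ L (algebraMap B L b))) = _
      rw [KaehlerDifferential.tensorKaehlerEquivOfFormallyEtale_symm_D_algebraMap,
        LinearMap.liftBaseChange_tmul, one_smul, LinearMap.comp_apply, Derivation.liftKaehlerDifferential_comp_D]
      rfl
    letI : Module (MvPowerSeries (Fin s) K) M := Module.compHom M (algebraMap (MvPowerSeries (Fin s) K) B)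
    haveI : IsScalarTower (MvPowerSeries (Fin s) K) B M := IsScalarTower.of_algebraMap_smul fun _ _ => rfl
    haveI : Module.Finite (MvPowerSeries (Fin s) K) M := Module.Finite.trans B M
    let Ψs : Derivation ℤ (MvPowerSeries (Fin s) K) M := Derivation.mk'
      ((ΨB.toLinearMap.toAddMonoidHom.comp (algebraMap (MvPowerSeries (Fin s) K) B).toAddMonoidHom).toIntLinearMap)
      fun a b => by
        show ΨB (algebraMap _ B (a * b)) = algebraMap _ B a • ΨB (algebraMap _ B b) + algebraMap _ B b • ΨB (algebraMap _ B a)
        rw [map_mul, ΨB.leibniz]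
    have hΨs : ∀ a ∈ psSub p (coSub p T S₀) s, Ψs a = 0 :=
      derivation_psSub_eq_zero (M := M) p _ Ψs fun c' hc' => Subtype.ext (by
        show (ΨB (ψ (algebraMap K _ c')) : V) = 0
        rw [AlgHom.commutes]
        show N.mkQ (Φ (MvPowerSeries.C c')) = 0
        rw [show Φ (MvPowerSeries.C c') = 0 from funext fun z => by
          show algebraMap A L (D z (MvPowerSeries.C c')) = 0
          rw [hD0 z _ (C_mem_psSub p hc'), map_zero], map_zero])
    have hle : frSub p T s L S₀ ≤ derKer ΨL := by
      refine Subfield.closure_le.2 ?_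
      rintro _ ⟨a, ha, rfl⟩
      show ΨL (algebraMap B L (ψ a)) = 0
      rw [hΨL]
      exact congrArg Subtype.val (hΨs a ha)
    obtain ⟨ΨR, hΨR⟩ := AdicFS4.exists_derivation_of_kills (P := frSub p T s L S₀) ΨL fun x => hle x.2
    obtain ⟨TB, -, -, hTB⟩ := PBasisLib.exists_isPBasis p (frSub p T s L S₀) (L := (∅ : Set L))
      (Set.empty_subset (Set.univ : Set L)) (fun t ht => absurd ht (Set.notMem_empty t))
      (eq_top_iff.mpr fun z _ => PBasisLib.subset_Fp p _ _ (Set.mem_univ z))
    have hspanV : Submodule.span L (ΨR '' TB) = ⊤ := by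
      refine eq_top_iff.2 fun v _ => ?_
      obtain ⟨v, rfl⟩ := Submodule.Quotient.mk_surjective N v
      rw [pi_eq_sum_univ' v, ← Submodule.mkQ_apply, map_sum]
      refine sum_mem fun z _ => ?_
      rw [map_smul]
      refine Submodule.smul_mem _ _ ?_
      have hz : N.mkQ (Pi.single z 1) = ΨR (algebraMap B L (Ideal.Quotient.mk P (w z))) := by
        rw [hΨR, hΨL]
        show _ = N.mkQ (Φ (w z))
        refine congrArg N.mkQ (funext fun z' => ?_)
        show _ = algebraMap A L (D z' (w z))
        rw [hD, Pi.single_apply]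
        split_ifs <;> simp_all
      rw [hz]
      refine PBasisLib.derivation_mem_span p _ ΨR ?_
      have := (PBasisLib.isPGenerating_iff_Fp p (frSub p T s L S₀) _).1 hTB.2
      rw [Subtype.range_coe] at this
      rw [this]
      exact IntermediateField.mem_top
    obtain ⟨t, ht, htsp, htli⟩ := exists_linearIndependent L (ΨR '' TB)
    rw [hspanV] at htsp
    haveI : Fintype t := Set.Finite.fintype htli.set_finite_of_isNoetherian
    choose x hxT hx using fun q : t => ht q.2
    have hxfree : PBasisLib.Free p (frSub p T s L S₀) x := fun a ha => by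
      refine ((PBasisLib.free_val_iff p _ TB).1 (PBasisLib.free_of_isPIndependent p _ hTB.1)) (x a) (hxT a)
        (PBasisLib.Fp_mono p _ ?_ ha)
      rintro _ ⟨b, hb, rfl⟩
      exact ⟨hxT b, fun h => hb (Subtype.ext (by rw [← hx b, ← hx a, h]))⟩
    have ht' := hcard S₀ subset_rfl t x hxfree
    have hV : Module.finrank L V ≤ S₀.card + s := by
      let bt := Module.Basis.mk htli (by rw [Subtype.range_coe, htsp])
      rw [Module.finrank_eq_card_basis bt]
      exact ht'
    have hN : h ≤ Module.finrank L N := by
      have h1 : Module.finrank L V + Module.finrank L N = Module.finrank L (Z → L) := N.finrank_quotient_add_finrank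
      rw [Module.finrank_fintype_fun_eq_card, show Fintype.card Z = S₀.card + r by simp [Z]] at h1
      omega
    have hli : LinearIndependent L fun l => Φ (g l) := by
      refine linearIndependent_iff_card_le_finrank_span.2 ?_
      rw [Fintype.card_fin]
      exact hN
    have hdet0 : ∀ a : Fin h → A, (∃ l, a l ∉ P) → ∃ D₁ : Derivation ℤ A A, (∑ l, a l * D₁ (g l)) ∉ P := by
      intro a hal
      obtain ⟨l, hl⟩ := hal
      by_contra hcon
      push Not at hcon
      have key := Fintype.linearIndependent_iff.1 hli (fun i => algebraMap A L (a i)) (funext fun z => ?_) l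
      · exact hl (Ideal.algebraMap_residueField_eq_zero.1 key)
      have h1 := Ideal.algebraMap_residueField_eq_zero.2 (hcon (D z))
      rw [map_sum] at h1
      simp only [map_mul] at h1
      simpa [Φ, Algebra.smul_def] using h1
    obtain ⟨D', hD'⟩ := exists_det_of_detect (R := ℤ) (A := A) P g hdet0
    obtain ⟨D₂, hD₂⟩ := exists_dual_of_det g D'
    set dd := Matrix.det (Matrix.of fun i j => D' i (g j)) with hdd
    let coef : Fin h → L := fun l => δ₀ (g l)
    let δ₁ : Derivation ℤ A L :=
      dd • δ₀ - ∑ l, (LinearMap.toSpanSingleton A L (coef l)).compDer (D₂ l)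
    have hδ₁ : ∀ a, δ₁ a = algebraMap A L dd * δ₀ a - ∑ l, algebraMap A L (D₂ l a) * coef l := fun a => by
      show Derivation.coeFnAddMonoidHom δ₁ a = _
      rw [map_sub, map_sum, Pi.sub_apply, Finset.sum_apply]
      simp [Algebra.smul_def]
      exact Or.inl rfl
    have hPL : ∀ x ∈ P, ∀ z : L, x • z = 0 := fun x hx z => by
      rw [Algebra.smul_def, Ideal.algebraMap_residueField_eq_zero.2 hx, zero_mul]
    have hδ₁P : ∀ x ∈ P, δ₁ x = 0 := by
      intro a ha
      obtain ⟨c', hc', hca⟩ := hg a ha
      obtain ⟨b, hb⟩ := Ideal.mem_span_range_iff_exists_fun.1 hca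
      have hg0 : ∀ l, δ₁ (g l) = 0 := fun l => by
        rw [hδ₁, Finset.sum_eq_single l (fun i _ hi => by rw [hD₂, if_neg hi, map_zero, zero_mul])
          (fun hi => absurd (Finset.mem_univ l) hi), hD₂, if_pos rfl, sub_self]
      have h1 : c' • δ₁ a = 0 := by
        have h2 := congrArg δ₁ hb
        rw [map_sum, δ₁.leibniz c' a, hPL a ha, add_zero] at h2
        rw [← h2]
        refine Finset.sum_eq_zero fun i _ => ?_
        rw [δ₁.leibniz, hPL _ (hgP i), hg0, smul_zero, add_zero]
      rwa [← algebraMap_smul L c', smul_eq_zero_iff_right] at h1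
      rwa [Ne, Ideal.algebraMap_residueField_eq_zero]
    by_contra hcon
    push Not at hcon
    have h1 := hcase δ₁ hδ₁P
    have h2 : ∀ l, ∑ j, algebraMap A L (c j) * algebraMap A L (D₂ l (y j)) = 0 := fun l => by
      simp only [← map_mul, ← map_sum]
      exact Ideal.algebraMap_residueField_eq_zero.2 (hcon (D₂ l))
    refine hδ₀ ((mul_eq_zero.1 (?_ : algebraMap A L dd * _ = 0)).resolve_left
      fun h0 => hD' (Ideal.algebraMap_residueField_eq_zero.1 h0))
    rw [← h1, Finset.mul_sum]
    simp only [hδ₁, mul_sub, Finset.sum_sub_distrib]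
    rw [show ∑ j, algebraMap A L (c j) * ∑ l, algebraMap A L (D₂ l (y j)) * coef l = 0 by
      refine (Finset.sum_congr rfl fun j _ => Finset.mul_sum _ _ _).trans (Finset.sum_comm.trans ?_)
      refine Finset.sum_eq_zero fun l _ => ?_
      refine (Finset.sum_congr rfl fun j _ => (mul_assoc _ _ _).symm).trans ?_
      refine (Finset.sum_mul _ _ _).symm.trans ?_
      rw [h2, zero_mul], sub_zero]
    exact Finset.sum_congr rfl fun j _ => by ring

end Groth.Agent.Ega41H93
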