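import Groth.Agent.PSLib.Basic
import Groth.Agent.ArtFunLib.Essential

/-!
# Evaluating power series at nilpotent elements
-/

universe u

namespace Groth.Agent.Ega41H93

variable {A : Type u} [CommRing A] {n : ℕ}

/-- The defining ideal of the product topology. -/
noncomputable abbrev psIdeal (𝔞 : Ideal A) (n : ℕ) : Ideal (MvPowerSeries (Fin n) A) :=
  𝔞.map (MvPowerSeries.C : A →+* MvPowerSeries (Fin n) A) ⊔
    RingHom.ker (MvPowerSeries.constantCoeff : MvPowerSeries (Fin n) A →+* A)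

theorem vars_le_psIdeal (𝔞 : Ideal A) : PSLib.vars n A ≤ psIdeal 𝔞 n := by
  refine le_trans ?_ le_sup_right
  intro f hf
  exact PSLib.mem_vars_iff.1 hf

theorem psIdeal_le (𝔞 : Ideal A) :
    psIdeal 𝔞 n ≤ 𝔞.map (algebraMap A (MvPowerSeries (Fin n) A)) ⊔ PSLib.vars n A :=
  sup_le_sup le_rfl fun _ hf => PSLib.mem_vars_iff.2 hf

theorem isNilpotent_apply_X {E : Type u} [CommRing E] [Algebra A E] {𝔞 : Ideal A}
    {f : MvPowerSeries (Fin n) A →ₐ[A] E} (hf : ∃ m : ℕ, ∀ x ∈ psIdeal 𝔞 n ^ m, f x = 0) (i : Fin n) :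
    IsNilpotent (f (MvPowerSeries.X i)) := by
  obtain ⟨m, hm⟩ := hf
  refine ⟨m, ?_⟩
  rw [← map_pow]
  exact hm _ (Ideal.pow_mem_pow (vars_le_psIdeal 𝔞 (Ideal.subset_span ⟨i, rfl⟩)) m)

theorem algHom_eq_of_X {E : Type u} [CommRing E] [Algebra A E] {𝔞 : Ideal A}
    {f g : MvPowerSeries (Fin n) A →ₐ[A] E} (hf : ∃ m : ℕ, ∀ x ∈ psIdeal 𝔞 n ^ m, f x = 0)
    (hg : ∃ m : ℕ, ∀ x ∈ psIdeal 𝔞 n ^ m, g x = 0)
    (h : ∀ i, f (MvPowerSeries.X i) = g (MvPowerSeries.X i)) : f = g := by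
  obtain ⟨m, hm⟩ := hf
  obtain ⟨m', hm'⟩ := hg
  refine AlgHom.ext fun F => ?_
  obtain ⟨p, hp⟩ := PSLib.exists_polynomial_sub_mem F (max m m')
  have hp1 : F - (p : MvPowerSeries (Fin n) A) ∈ psIdeal 𝔞 n ^ max m m' :=
    Ideal.pow_right_mono (vars_le_psIdeal 𝔞) _ hp
  have e : f.comp (MvPolynomial.coeToMvPowerSeries.algHom A) = g.comp (MvPolynomial.coeToMvPowerSeries.algHom A) :=
    MvPolynomial.algHom_ext fun i => by simpa using h i
  have e' : f (p : MvPowerSeries (Fin n) A) = g (p : MvPowerSeries (Fin n) A) := by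
    simpa using AlgHom.congr_fun e p
  have h1 := hm _ (Ideal.pow_le_pow_right (le_max_left m m') hp1)
  have h2 := hm' _ (Ideal.pow_le_pow_right (le_max_right m m') hp1)
  rw [map_sub, sub_eq_zero] at h1 h2
  rw [h1, h2, e']

theorem exists_eval_nilpotent {E : Type u} [CommRing E] [Algebra A E] {𝔞 : Ideal A}
    (hE : ∃ k : ℕ, (𝔞 ^ k).map (algebraMap A E) = ⊥) (z : Fin n → E) (hz : ∀ i, IsNilpotent (z i)) :
    ∃ g : MvPowerSeries (Fin n) A →ₐ[A] E,
      (∃ m : ℕ, ∀ x ∈ psIdeal 𝔞 n ^ m, g x = 0) ∧ ∀ i, g (MvPowerSeries.X i) = z i := by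
  obtain ⟨k, hk⟩ := hE
  let I : Ideal E := 𝔞.map (algebraMap A E) ⊔ Ideal.span (Set.range z)
  have hI : IsNilpotent I := by
    obtain ⟨N, hN⟩ := Ideal.exists_pow_le_of_le_radical_of_fg
      (show Ideal.span (Set.range z) ≤ (⊥ : Ideal E).radical from Ideal.span_le.2 (by
        rintro _ ⟨i, rfl⟩
        obtain ⟨j, hj⟩ := hz i
        exact ⟨j, by rw [hj]; exact Submodule.zero_mem _⟩))
      (Submodule.fg_span (Set.finite_range z))
    refine ⟨k + N, le_bot_iff.1 ?_⟩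
    refine (Ideal.sup_pow_add_le_pow_sup_pow (n := k) (m := N)).trans (sup_le ?_ hN)
    rw [← Ideal.map_pow, hk]
  haveI := ArtFunLib.isAdicComplete_of_isNilpotent hI
  obtain ⟨g, hg⟩ := PSLib.exists_algHom (R := A) I z fun i => Ideal.mem_sup_right (Ideal.subset_span ⟨i, rfl⟩)
  refine ⟨g, ?_, hg⟩
  obtain ⟨N, hN⟩ := hI
  refine ⟨N, fun x hx => ?_⟩
  have hmap : (psIdeal 𝔞 n).map g ≤ I := by
    refine (Ideal.map_mono (psIdeal_le 𝔞)).trans ?_
    rw [Ideal.map_sup]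
    refine sup_le ?_ ?_
    · rw [Ideal.map_le_iff_le_comap]
      refine Ideal.map_le_iff_le_comap.2 fun a ha => ?_
      show g (algebraMap A _ a) ∈ I
      rw [g.commutes]
      exact Ideal.mem_sup_left (Ideal.mem_map_of_mem _ ha)
    · rw [PSLib.vars, Ideal.map_span, Ideal.span_le]
      rintro _ ⟨_, ⟨i, rfl⟩, rfl⟩
      rw [hg i]
      exact Ideal.mem_sup_right (Ideal.subset_span ⟨i, rfl⟩)
  have h2 : g x ∈ I ^ N := Ideal.pow_right_mono hmap N (by rw [← Ideal.map_pow]; exact Ideal.mem_map_of_mem _ hx)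
  rw [hN] at h2
  exact (Submodule.mem_bot E).1 h2

end Groth.Agent.Ega41H93
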