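import Groth.Agent.CplKaehler4.Domain
import Groth.Agent.CartierEq4.Imperf
import Mathlib.RingTheory.MvPowerSeries.Expand
import Mathlib.RingTheory.Etale.Kaehler

/-!
# Differentials of power series rings and their fraction fields over the prime ring
-/

set_option linter.style.haveILetI false

namespace Groth.Agent.Ega41H93

open TensorProduct

universe u

attribute [local instance 10000] Ring.toIntAlgebra

variable {k : Type u} [Field k] {n : ℕ}

local notation "PS" => MvPowerSeries (Fin n) k

/-- An additive map of the coefficients acts on power series. -/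
noncomputable def coeffHom (δ : k →+ k) : PS →+ PS where
  toFun g := fun m => δ (MvPowerSeries.coeff m g)
  map_zero' := by funext m; simp; rfl
  map_add' f g := by
    funext m
    show δ (MvPowerSeries.coeff m (f + g)) = δ (MvPowerSeries.coeff m f) + δ (MvPowerSeries.coeff m g)
    rw [map_add, map_add]

theorem coeff_coeffHom (δ : k →+ k) (g : PS) (m : Fin n →₀ ℕ) :
    MvPowerSeries.coeff m (coeffHom δ g) = δ (MvPowerSeries.coeff m g) := rfl

/-- A derivation of the coefficients acts on power series. -/
noncomputable def coeffDer (δ : Derivation ℤ k k) : Derivation ℤ PS PS :=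
  Derivation.mk' (coeffHom (n := n) δ.toLinearMap.toAddMonoidHom).toIntLinearMap fun f g => by
    ext m
    show MvPowerSeries.coeff m (coeffHom δ.toLinearMap.toAddMonoidHom (f * g)) =
      MvPowerSeries.coeff m (f * coeffHom δ.toLinearMap.toAddMonoidHom g + g * coeffHom δ.toLinearMap.toAddMonoidHom f)
    rw [map_add, mul_comm g _, coeff_coeffHom, MvPowerSeries.coeff_mul, MvPowerSeries.coeff_mul, MvPowerSeries.coeff_mul,
      map_sum, ← Finset.sum_add_distrib]
    refine Finset.sum_congr rfl fun x _ => ?_
    show δ _ = _ * δ (MvPowerSeries.coeff x.2 g) + δ (MvPowerSeries.coeff x.1 f) * _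
    rw [Derivation.leibniz, smul_eq_mul, smul_eq_mul]
    ring

theorem coeffDer_algebraMap (δ : Derivation ℤ k k) (c : k) :
    coeffDer (n := n) δ (algebraMap k PS c) = algebraMap k PS (δ c) := by
  classical
  ext m
  show δ (MvPowerSeries.coeff m (algebraMap k PS c)) = _
  rw [show algebraMap k PS c = MvPowerSeries.C c from rfl, show algebraMap k PS (δ c) = MvPowerSeries.C (δ c) from rfl,
    MvPowerSeries.coeff_C, MvPowerSeries.coeff_C]
  split_ifs <;> simp

/-- Every differential of the power series ring over `k` is a combination of those of the variables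
when `k` is finite over its `p`-th powers. -/
theorem span_D_X (p : ℕ) [Fact p.Prime] [CharP k p] (hk : (frobenius k p).Finite) :
    Submodule.span PS (Set.range fun i => KaehlerDifferential.D k PS (MvPowerSeries.X i)) = ⊤ := by
  classical
  have hp : p.Prime := Fact.out
  haveI : CharP PS p := charP_of_injective_algebraMap (algebraMap k PS).injective p
  set S := Submodule.span PS (Set.range fun i => KaehlerDifferential.D k PS (MvPowerSeries.X i)) with hS
  have hmon : ∀ (a : Fin n →₀ ℕ) (c : k), KaehlerDifferential.D k PS (MvPowerSeries.monomial a c) ∈ S := by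
    intro a
    induction a using Finsupp.induction with
    | zero =>
      intro c
      rw [MvPowerSeries.monomial_zero_eq_C_apply, show MvPowerSeries.C c = algebraMap k PS c from rfl,
        Derivation.map_algebraMap]
      exact zero_mem _
    | single_add i j a _ _ ih =>
      intro c
      rw [← one_mul c, ← MvPowerSeries.monomial_mul_monomial, ← MvPowerSeries.X_pow_eq, Derivation.leibniz,
        Derivation.leibniz_pow]
      refine add_mem (S.smul_mem _ (ih c)) (S.smul_mem _ ?_)
      exact nsmul_mem (S.smul_mem _ (Submodule.subset_span ⟨i, rfl⟩)) _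
  obtain ⟨G, hG⟩ : ∃ G : Finset k, ∀ c : k, ∃ a : G → k, ∑ i, (a i) ^ p * (i : k) = c := by
    letI : Module k k := (frobenius k p).toAlgebra.toModule
    have hk' : Module.Finite k k := hk
    obtain ⟨G, hG⟩ := hk'.fg_top
    refine ⟨G, fun c => ?_⟩
    obtain ⟨a, ha⟩ := Submodule.mem_span_finset'.1 (hG ▸ (Submodule.mem_top : c ∈ ⊤))
    exact ⟨a, ha⟩
  choose a ha using hG
  refine eq_top_iff.2 ?_
  rw [← KaehlerDifferential.span_range_derivation, Submodule.span_le]
  rintro _ ⟨f, rfl⟩
  let e : (Fin n → Fin p) → (Fin n →₀ ℕ) := fun α => Finsupp.equivFunOnFinite.symm fun j => (α j : ℕ)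
  let g : (Fin n → Fin p) → G → PS := fun α i q => a (MvPowerSeries.coeff (e α + p • q) f) i
  have hf : f = ∑ α, ∑ i : G, MvPowerSeries.monomial (e α) (i : k) * (g α i) ^ p := by
    ext m
    rw [map_sum]
    let α₀ : Fin n → Fin p := fun j => ⟨m j % p, Nat.mod_lt _ hp.pos⟩
    let q₀ : Fin n →₀ ℕ := Finsupp.equivFunOnFinite.symm fun j => m j / p
    have hm : e α₀ + p • q₀ = m := by
      ext j; simp [e, α₀, q₀, Nat.mod_add_div]
    rw [Finset.sum_eq_single α₀]
    · rw [map_sum]
      have hle : e α₀ ≤ m := fun j => by simp [e, α₀, Nat.mod_le]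
      have hsub : m - e α₀ = p • q₀ := by rw [← hm, add_tsub_cancel_left]
      conv_lhs => rw [← ha (MvPowerSeries.coeff m f)]
      refine Finset.sum_congr rfl fun i _ => ?_
      rw [MvPowerSeries.coeff_monomial_mul, if_pos hle, hsub, ← MvPowerSeries.map_frobenius_expand p hp.ne_zero,
        MvPowerSeries.coeff_map, MvPowerSeries.coeff_expand_smul, frobenius_def, mul_comm]
      show _ = (i : k) * (a (MvPowerSeries.coeff (e α₀ + p • q₀) f) i) ^ p
      rw [hm]
    · intro α _ hα
      rw [map_sum]
      refine Finset.sum_eq_zero fun i _ => ?_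
      rw [MvPowerSeries.coeff_monomial_mul]
      split_ifs with hle
      · obtain ⟨j, hj⟩ : ∃ j, α j ≠ α₀ j := by
          by_contra! h; exact hα (funext h)
        rw [← MvPowerSeries.map_frobenius_expand p hp.ne_zero, MvPowerSeries.coeff_map,
          MvPowerSeries.coeff_expand_of_not_dvd p hp.ne_zero (g α i) (i := j), map_zero, mul_zero]
        intro hdvd
        refine hj (Fin.ext ?_)
        have hle' : (α j : ℕ) ≤ m j := by simpa [e] using hle j
        have hdvd' : p ∣ m j - α j := by simpa [e] using hdvd
        show (α j : ℕ) = m j % p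
        obtain ⟨t, ht⟩ := hdvd'
        rw [show m j = (α j : ℕ) + p * t by omega, Nat.add_mul_mod_self_left, Nat.mod_eq_of_lt (α j).2]
      · rfl
    · simp
  rw [SetLike.mem_coe, hf, map_sum]
  refine sum_mem fun α _ => ?_
  rw [map_sum]
  refine sum_mem fun i _ => ?_
  rw [Derivation.leibniz, Derivation.leibniz_pow, ← Nat.cast_smul_eq_nsmul PS, CharP.cast_eq_zero, zero_smul,
    smul_zero, zero_add]
  exact S.smul_mem _ (hmon _ _)

/-- Differentials of algebras finite over power series are of finite type when `k` is finite over its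
`p`-th powers. -/
theorem finite_kaehler_of_finite_powerSeries (p : ℕ) [Fact p.Prime] [CharP k p] (hk : (frobenius k p).Finite)
    (A : Type u) [CommRing A] [Algebra k A] [Algebra PS A] [IsScalarTower k PS A] [Module.Finite PS A] :
    Module.Finite A (Ω[A⁄k]) := by
  classical
  obtain ⟨m, b, hb⟩ := Submodule.fg_iff_exists_fin_generating_family.1 (Module.Finite.fg_top (R := PS) (M := A))
  let v : Fin m ⊕ Fin n → Ω[A⁄k] := Sum.elim (fun j => KaehlerDifferential.D k A (b j))
    fun i => KaehlerDifferential.D k A (algebraMap PS A (MvPowerSeries.X i))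
  refine ⟨Submodule.fg_def.2 ⟨Set.range v, Set.finite_range v, eq_top_iff.2 ?_⟩⟩
  rw [← KaehlerDifferential.span_range_derivation, Submodule.span_le]
  rintro _ ⟨x, rfl⟩
  obtain ⟨c, rfl⟩ := (Submodule.mem_span_range_iff_exists_fun PS).1 (hb ▸ (Submodule.mem_top : x ∈ ⊤))
  rw [SetLike.mem_coe, map_sum]
  refine sum_mem fun j _ => ?_
  rw [Algebra.smul_def, Derivation.leibniz]
  refine add_mem (Submodule.smul_mem _ _ (Submodule.subset_span ⟨Sum.inl j, rfl⟩)) (Submodule.smul_mem _ _ ?_)
  rw [← KaehlerDifferential.map_D k k PS A (c j)]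
  have hc := (span_D_X (n := n) p hk).ge (Submodule.mem_top : KaehlerDifferential.D k PS (c j) ∈ ⊤)
  generalize KaehlerDifferential.D k PS (c j) = w at hc ⊢
  induction hc using Submodule.span_induction with
  | mem y hy =>
    obtain ⟨i, rfl⟩ := hy
    rw [KaehlerDifferential.map_D]
    exact Submodule.subset_span ⟨Sum.inr i, rfl⟩
  | zero => rw [map_zero]; exact zero_mem _
  | add y z _ _ hy hz => rw [map_add]; exact add_mem hy hz
  | smul r y _ hy =>
    rw [map_smul, ← algebraMap_smul A r]
    exact Submodule.smul_mem _ _ hy

section Fraction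

variable (L : Type u) [Field L] [Algebra (MvPowerSeries (Fin n) k) L] [IsFractionRing (MvPowerSeries (Fin n) k) L]
  [Algebra k L] [IsScalarTower k (MvPowerSeries (Fin n) k) L]

include n in
/-- The fraction field of power series is separable over `k`. -/
theorem injective_mapBaseChange_int : Function.Injective (KaehlerDifferential.mapBaseChange ℤ k L) := by
  classical
  haveI : Algebra.FormallyEtale PS L := .of_isLocalization (nonZeroDivisors PS)
  let b := Module.Free.chooseBasis k (Ω[k⁄ℤ])
  let E := KaehlerDifferential.tensorKaehlerEquivOfFormallyEtale ℤ PS L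
  let δ : ∀ i, Derivation ℤ k k := fun i => (b.coord i).compDer (KaehlerDifferential.D ℤ k)
  let Δ : ∀ i, Ω[L⁄ℤ] →ₗ[L] L := fun i =>
    (LinearMap.liftBaseChange L ((Algebra.linearMap PS L).comp (coeffDer (n := n) (δ i)).liftKaehlerDifferential)).comp
      E.symm.toLinearMap
  have hΔ : ∀ i c, Δ i (KaehlerDifferential.D ℤ L (algebraMap k L c)) = algebraMap k L (δ i c) := fun i c => by
    show LinearMap.liftBaseChange L _ (E.symm (KaehlerDifferential.D ℤ L (algebraMap k L c))) = _
    rw [IsScalarTower.algebraMap_apply k PS L, KaehlerDifferential.tensorKaehlerEquivOfFormallyEtale_symm_D_algebraMap,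
      LinearMap.liftBaseChange_tmul, one_smul, LinearMap.comp_apply, Derivation.liftKaehlerDifferential_comp_D,
      coeffDer_algebraMap, Algebra.linearMap_apply, ← IsScalarTower.algebraMap_apply]
  have key : ∀ i z, (b.baseChange L).repr z i = Δ i (KaehlerDifferential.mapBaseChange ℤ k L z) := by
    intro i z
    induction z using TensorProduct.induction_on with
    | zero => simp
    | add x y hx hy => simp only [map_add, Finsupp.add_apply, hx, hy]
    | tmul e x =>
      rw [Module.Basis.baseChange_repr_tmul, KaehlerDifferential.mapBaseChange_tmul, map_smul, smul_eq_mul,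
        Algebra.smul_def, mul_comm]
      congr 1
      have hx : x ∈ Submodule.span k (Set.range (KaehlerDifferential.D ℤ k)) := by
        rw [KaehlerDifferential.span_range_derivation]; trivial
      induction hx using Submodule.span_induction with
      | mem y hy =>
        obtain ⟨c, rfl⟩ := hy
        rw [KaehlerDifferential.map_D, hΔ]
        rfl
      | zero => simp
      | add y z _ _ hy hz => simp only [map_add, Finsupp.add_apply, hy, hz]
      | smul c y _ hy =>
        rw [map_smul, Finsupp.smul_apply, smul_eq_mul, map_mul, hy, map_smul, ← algebraMap_smul L c, map_smul,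
          smul_eq_mul]
  rw [injective_iff_map_eq_zero]
  intro z hz
  refine (b.baseChange L).repr.map_eq_zero_iff.1 (Finsupp.ext fun i => ?_)
  rw [key, hz, map_zero, Finsupp.zero_apply]

/-- The differentials of the variables are independent. -/
theorem linearIndependent_D_X :
    LinearIndependent L fun i : Fin n => KaehlerDifferential.D k L (algebraMap PS L (MvPowerSeries.X i)) := by
  classical
  haveI : Algebra.FormallyEtale PS L := .of_isLocalization (nonZeroDivisors PS)
  let E := KaehlerDifferential.tensorKaehlerEquivOfFormallyEtale k PS L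
  let Δ : Fin n → (Ω[L⁄k] →ₗ[L] L) := fun i =>
    (LinearMap.liftBaseChange L ((Algebra.linearMap PS L).comp (MvPowerSeries.pderiv k i).liftKaehlerDifferential)).comp
      E.symm.toLinearMap
  have hΔ : ∀ i j, Δ i (KaehlerDifferential.D k L (algebraMap PS L (MvPowerSeries.X j))) = if j = i then 1 else 0 := by
    intro i j
    show LinearMap.liftBaseChange L _ (E.symm (KaehlerDifferential.D k L (algebraMap PS L _))) = _
    rw [KaehlerDifferential.tensorKaehlerEquivOfFormallyEtale_symm_D_algebraMap, LinearMap.liftBaseChange_tmul,
      one_smul, LinearMap.comp_apply, Derivation.liftKaehlerDifferential_comp_D, MvPowerSeries.pderiv_X]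
    by_cases h : j = i
    · subst h; simp
    · simp [Ne.symm h, h]
  refine Fintype.linearIndependent_iff.2 fun g hg i => ?_
  have := congrArg (Δ i) hg
  simpa [hΔ] using this

theorem finrank_kaehler_fraction (p : ℕ) [Fact p.Prime] [CharP k p] (hk : (frobenius k p).Finite) :
    Module.Finite L (Ω[L⁄k]) ∧ Module.finrank L (Ω[L⁄k]) = n := by
  classical
  haveI : Algebra.FormallyEtale PS L := .of_isLocalization (nonZeroDivisors PS)
  let E := KaehlerDifferential.tensorKaehlerEquivOfFormallyEtale k PS L
  let v : Fin n → Ω[L⁄k] := fun i => KaehlerDifferential.D k L (algebraMap PS L (MvPowerSeries.X i))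
  have hsp : Submodule.span L (Set.range v) = ⊤ := by
    refine eq_top_iff.2 fun y hy0 => ?_
    clear hy0
    obtain ⟨z, rfl⟩ := E.surjective y
    induction z using TensorProduct.induction_on with
    | zero => rw [map_zero]; exact zero_mem _
    | add a b ha hb => rw [map_add]; exact add_mem ha hb
    | tmul e x =>
      rw [KaehlerDifferential.tensorKaehlerEquivOfFormallyEtale_apply, KaehlerDifferential.mapBaseChange_tmul]
      refine Submodule.smul_mem _ _ ?_
      have hx := (span_D_X (n := n) p hk).ge (Submodule.mem_top : x ∈ ⊤)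
      induction hx using Submodule.span_induction with
      | mem y hy =>
        obtain ⟨i, rfl⟩ := hy
        rw [KaehlerDifferential.map_D]
        exact Submodule.subset_span ⟨i, rfl⟩
      | zero => rw [map_zero]; exact zero_mem _
      | add y z _ _ hy hz => rw [map_add]; exact add_mem hy hz
      | smul r y _ hy =>
        rw [map_smul, ← algebraMap_smul L r]
        exact Submodule.smul_mem _ _ hy
  let bas := Module.Basis.mk (linearIndependent_D_X L) hsp.ge
  exact ⟨Module.Finite.of_basis bas, by rw [Module.finrank_eq_card_basis bas, Fintype.card_fin]⟩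

end Fraction

end Groth.Agent.Ega41H93
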