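import Groth.Agent.AdicFS4.Subfields
import Groth.Agent.Ega41H93.PSKaehler

/-!
# Subrings of `p`-th power type inside power series rings
-/

set_option linter.style.haveILetI false

namespace Groth.Agent.Ega41H93

open EGA41

universe u

attribute [local instance 10000] Ring.toIntAlgebra

section Subfield

variable {L : Type*} [Field L] {M : Type*} [AddCommGroup M] [Module L M]

/-- The constants of a derivation form a subfield. -/
noncomputable def derKer (D : Derivation ℤ L M) : Subfield L where
  carrier := {x | D x = 0}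
  mul_mem' {a b} ha hb := by
    show D (a * b) = 0
    rw [D.leibniz, show D a = 0 from ha, show D b = 0 from hb, smul_zero, smul_zero, add_zero]
  one_mem' := D.map_one_eq_zero
  add_mem' {a b} ha hb := by
    show D (a + b) = 0
    rw [map_add, show D a = 0 from ha, show D b = 0 from hb, add_zero]
  zero_mem' := map_zero D
  neg_mem' {a} ha := by
    show D (-a) = 0
    rw [map_neg, show D a = 0 from ha, neg_zero]
  inv_mem' a ha := by
    rcases eq_or_ne a 0 with rfl | h0
    · show D (0 : L)⁻¹ = 0
      rw [inv_zero, map_zero]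
    · show D a⁻¹ = 0
      have h1 := D.leibniz a a⁻¹
      rw [mul_inv_cancel₀ h0, D.map_one_eq_zero, show D a = 0 from ha, smul_zero, add_zero] at h1
      exact (smul_eq_zero.1 h1.symm).resolve_left h0

theorem derivation_pow_char {A : Type*} [CommRing A] (p : ℕ) [CharP A p] {N : Type*} [AddCommGroup N] [Module A N]
    (D : Derivation ℤ A N) (x : A) : D (x ^ p) = 0 := by
  rw [D.leibniz_pow, ← Nat.cast_smul_eq_nsmul A, CharP.cast_eq_zero, zero_smul]

end Subfield

/-- The reduced monomials span over a subfield containing the `p`-th powers. -/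
theorem span_monomials_eq_top {L : Type u} [Field L] (p : ℕ) [hp : Fact p.Prime] (F : Subfield L)
    (hF : ∀ y : L, y ^ p ∈ F) {ι : Type u} [Fintype ι] (x : ι → L)
    (hgen : Subfield.closure ((F : Set L) ∪ Set.range x) = ⊤) :
    Submodule.span F (Set.range fun e : ι → Fin p => ∏ i, x i ^ (e i : ℕ)) = ⊤ := by
  classical
  set V := Submodule.span F (Set.range fun e : ι → Fin p => ∏ i, x i ^ (e i : ℕ))
  have hmono : ∀ d : ι → ℕ, (∏ i, x i ^ d i) ∈ V := fun d => by
    let e : ι → Fin p := fun i => ⟨d i % p, Nat.mod_lt _ hp.out.pos⟩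
    have h : (∏ i, x i ^ d i) = (∏ i, (x i ^ (d i / p)) ^ p) * ∏ i, x i ^ (e i : ℕ) := by
      rw [← Finset.prod_mul_distrib]
      refine Finset.prod_congr rfl fun i _ => ?_
      rw [← pow_mul, ← pow_add]
      show _ = x i ^ (d i / p * p + d i % p)
      rw [mul_comm, Nat.div_add_mod]
    rw [h]
    exact V.smul_mem (⟨_, prod_mem fun i _ => hF _⟩ : F) (Submodule.subset_span ⟨e, rfl⟩)
  have hone : (1 : L) ∈ V := by simpa using hmono 0
  have hmul : ∀ a ∈ V, ∀ b ∈ V, a * b ∈ V := fun a ha b hb => by
    induction ha, hb using Submodule.span_induction₂ with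
    | mem_mem a b ha hb =>
      obtain ⟨e, rfl⟩ := ha
      obtain ⟨e', rfl⟩ := hb
      rw [← Finset.prod_mul_distrib]
      simp only [← pow_add]
      exact hmono _
    | zero_left b _ => rw [zero_mul]; exact zero_mem _
    | zero_right a _ => rw [mul_zero]; exact zero_mem _
    | add_left a a' b _ _ _ h h' => rw [add_mul]; exact add_mem h h'
    | add_right a b b' _ _ _ h h' => rw [mul_add]; exact add_mem h h'
    | smul_left r a b _ _ h => rw [smul_mul_assoc]; exact V.smul_mem r h
    | smul_right r a b _ _ h => rw [mul_smul_comm]; exact V.smul_mem r h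
  have hFV : ∀ c ∈ F, c ∈ V := fun c hc => by
    have := V.smul_mem (⟨c, hc⟩ : F) hone
    rwa [Subfield.smul_def, smul_eq_mul, mul_one] at this
  have hpow : ∀ a ∈ V, ∀ m : ℕ, a ^ m ∈ V := fun a ha m => by
    induction m with
    | zero => rwa [pow_zero]
    | succ m ih => rw [pow_succ]; exact hmul _ ih _ ha
  let W : Subfield L :=
    { carrier := V
      mul_mem' := fun {a b} ha hb => hmul a ha b hb
      one_mem' := hone
      add_mem' := fun {a b} => add_mem
      zero_mem' := zero_mem V
      neg_mem' := fun {a} => neg_mem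
      inv_mem' := fun a ha => by
        show a⁻¹ ∈ V
        rcases eq_or_ne a 0 with rfl | h0
        · rw [inv_zero]; exact zero_mem _
        have : a⁻¹ = a ^ (p - 1) * a⁻¹ ^ p := by
          conv_rhs => rw [show p = (p - 1) + 1 by have := hp.out.pos; omega, pow_succ a⁻¹]
          rw [Nat.add_sub_cancel, ← mul_assoc, ← mul_pow, mul_inv_cancel₀ h0, one_pow, one_mul]
        rw [this]
        exact hmul _ (hpow a ha _) _ (hFV _ (hF _)) }
  have hle : Subfield.closure ((F : Set L) ∪ Set.range x) ≤ W := by
    rw [Subfield.closure_le]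
    rintro y (hy | ⟨i, rfl⟩)
    · exact hFV y hy
    · show x i ∈ V
      have := hmono (fun j => if j = i then 1 else 0)
      rwa [Finset.prod_eq_single i (fun j _ hj => by rw [if_neg hj, pow_zero])
        (fun h => absurd (Finset.mem_univ i) h), if_pos rfl, pow_one] at this
  rw [hgen] at hle
  exact eq_top_iff.2 fun y _ => hle (Subfield.mem_top y)

variable (p : ℕ) [hp : Fact p.Prime] {K : Type u} [Field K] [CharP K p]

/-- A `p`-basis in terms of differentials. -/
theorem exists_pBasis :
    ∃ (T : Set K) (bas : Module.Basis T K (Ω[K⁄ℤ])), (∀ b, bas b = KaehlerDifferential.D ℤ K (b : K)) ∧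
      Subfield.closure (((frobenius K p).fieldRange : Set K) ∪ T) = ⊤ := by
  obtain ⟨T, bas, hbas, -⟩ := AdicFS4.exists_basis_int p (k := K)
  refine ⟨T, bas, hbas, ?_⟩
  let P := ULift.{u} (ZMod p)
  letI : Algebra P K := ((ZMod.castHom dvd_rfl K).comp (ULift.ringEquiv (R := ZMod p)).toRingHom).toAlgebra
  have hspan : Submodule.span K (Set.range fun b : T => KaehlerDifferential.D P K (b : K)) = ⊤ := by
    have h := congrArg (Submodule.map (KaehlerDifferential.map ℤ P K K)) bas.span_eq
    rw [Submodule.map_span, ← Set.range_comp, Submodule.map_top,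
      LinearMap.range_eq_top.2 (KaehlerDifferential.map_surjective ℤ P K)] at h
    rw [← h]
    refine congrArg (fun g => Submodule.span K (Set.range g)) (funext fun b => ?_)
    show KaehlerDifferential.D P K (b : K) = KaehlerDifferential.map ℤ P K K (bas b)
    rw [hbas, KaehlerDifferential.map_D]
    rfl
  have hgen := (PBasisLib.isPGenerating_iff_Fp p P _).1 ((PBasisLib.isPGenerating_iff_span_D p P _).2 hspan)
  rw [Subtype.range_coe] at hgen
  refine eq_top_iff.2 fun y _ => ?_
  have hle : (PBasisLib.Fp p P T).toSubfield ≤ Subfield.closure (((frobenius K p).fieldRange : Set K) ∪ T) := by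
    rw [PBasisLib.Fp, IntermediateField.adjoin_toSubfield, Subfield.closure_le]
    rintro z (⟨x, rfl⟩ | ⟨w, rfl⟩ | hz)
    · obtain ⟨n, hn⟩ := ZMod.natCast_zmod_surjective (n := p) x.down
      rw [show algebraMap P K x = (n : K) by
        show ZMod.castHom dvd_rfl K x.down = _
        rw [← hn, map_natCast]]
      exact natCast_mem _ n
    · exact Subfield.subset_closure (Or.inl ⟨w, rfl⟩)
    · exact Subfield.subset_closure (Or.inr hz)
  exact hle (show y ∈ PBasisLib.Fp p P T from hgen ▸ IntermediateField.mem_top)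

/-- A non `p`-th power has nonzero differential. -/
theorem mem_frobenius_of_D_eq_zero {c : K} (h : KaehlerDifferential.D ℤ K c = 0) :
    c ∈ (frobenius K p).fieldRange := by
  by_contra hc
  let P := ULift.{u} (ZMod p)
  letI : Algebra P K := ((ZMod.castHom dvd_rfl K).comp (ULift.ringEquiv (R := ZMod p)).toRingHom).toAlgebra
  have hfree : PBasisLib.Free p P (fun _ : PUnit.{u+1} => c) := by
    intro a ha
    refine hc ?_
    have hempty : (fun _ : PUnit.{u+1} => c) '' {b | b ≠ a} = ∅ := by
      ext x; simp
    rw [hempty] at ha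
    have ha' : c ∈ (PBasisLib.Fp p P (∅ : Set K)).toSubfield := ha
    rw [AdicFS4.toSubfield_Fp] at ha'
    refine (sup_le ?_ le_rfl : _ ≤ (frobenius K p).fieldRange) ha'
    rintro _ ⟨x, rfl⟩
    obtain ⟨n, hn⟩ := ZMod.natCast_zmod_surjective (n := p) x.down
    rw [show algebraMap P K x = (n : K) by
      show ZMod.castHom dvd_rfl K x.down = _
      rw [← hn, map_natCast]]
    exact natCast_mem _ n
  have hli := ((PBasisLib.free_iff_linearIndependent_D p P _).1 hfree).ne_zero PUnit.unit
  refine hli ?_
  show KaehlerDifferential.D P K c = 0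
  have h1 := KaehlerDifferential.map_D ℤ P K K c
  rw [h, map_zero] at h1
  exact h1.symm

variable (T : Set K) (bas : Module.Basis T K (Ω[K⁄ℤ])) {r : ℕ}

/-- The coefficient fields of finite coheight. -/
noncomputable def coSub (S : Finset T) : Subfield K :=
  Subfield.closure (((frobenius K p).fieldRange : Set K) ∪ Subtype.val '' {t : T | t ∉ S})

/-- The subring of series in `T^p` with coefficients in a subfield. -/
noncomputable def psSub (F : Subfield K) (r : ℕ) : Subring (MvPowerSeries (Fin r) K) :=
  ((MvPowerSeries.expand p hp.out.ne_zero).toRingHom.comp (MvPowerSeries.map (σ := Fin r) F.subtype)).range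

theorem coSub_anti {S S' : Finset T} (h : S ⊆ S') : coSub p T S' ≤ coSub p T S :=
  Subfield.closure_mono (Set.union_subset_union_right _ (Set.image_mono fun _ ht h' => ht (h h')))

theorem pow_mem_coSub (S : Finset T) (x : K) : x ^ p ∈ coSub p T S :=
  Subfield.subset_closure (Or.inl ⟨x, rfl⟩)

omit [CharP K p] in
theorem psSub_mono {F F' : Subfield K} (h : F ≤ F') : psSub p F r ≤ psSub p F' r := by
  rintro _ ⟨g, rfl⟩
  refine ⟨MvPowerSeries.map (Subfield.inclusion h) g, ?_⟩
  show MvPowerSeries.expand p hp.out.ne_zero (MvPowerSeries.map F'.subtype (MvPowerSeries.map (Subfield.inclusion h) g)) = _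
  rw [← RingHom.comp_apply (MvPowerSeries.map F'.subtype), ← MvPowerSeries.map_comp]
  rfl

theorem pow_mem_psSub (S : Finset T) (h : MvPowerSeries (Fin r) K) : h ^ p ∈ psSub p (coSub p T S) r := by
  let g : MvPowerSeries (Fin r) (coSub p T S) := fun m => ⟨MvPowerSeries.coeff m h ^ p, pow_mem_coSub p T S _⟩
  refine ⟨g, ?_⟩
  show MvPowerSeries.expand p hp.out.ne_zero (MvPowerSeries.map (coSub p T S).subtype g) = _
  rw [← MvPowerSeries.map_frobenius_expand p hp.out.ne_zero, MvPowerSeries.map_expand]
  congr 1

omit [CharP K p] in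
theorem C_mem_psSub {F : Subfield K} {c : K} (hc : c ∈ F) : MvPowerSeries.C c ∈ psSub p F r := by
  refine ⟨MvPowerSeries.C ⟨c, hc⟩, ?_⟩
  show MvPowerSeries.expand p hp.out.ne_zero (MvPowerSeries.map F.subtype (MvPowerSeries.C ⟨c, hc⟩)) = _
  rw [MvPowerSeries.map_C, MvPowerSeries.expand_C]
  rfl

attribute [local instance] AddCommGroup.intIsScalarTower in
/-- A derivation into a finite module killing the constants kills the subring. -/
theorem derivation_psSub_eq_zero (F : Subfield K) {M : Type*} [AddCommGroup M] [Module (MvPowerSeries (Fin r) K) M]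
    [Module.Finite (MvPowerSeries (Fin r) K) M] (D : Derivation ℤ (MvPowerSeries (Fin r) K) M)
    (hC : ∀ c ∈ F, D (MvPowerSeries.C c) = 0) : ∀ a ∈ psSub p F r, D a = 0 := by
  rintro _ ⟨g, rfl⟩
  haveI := CplKaehler4.isHausdorff_vars (k := K) (n := r) M
  haveI : CharP (MvPowerSeries (Fin r) K) p :=
    charP_of_injective_algebraMap (algebraMap K (MvPowerSeries (Fin r) K)).injective p
  let φ : MvPowerSeries (Fin r) F →+* MvPowerSeries (Fin r) K :=
    (MvPowerSeries.expand p hp.out.ne_zero).toRingHom.comp (MvPowerSeries.map F.subtype)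
  have hX : ∀ i, φ (MvPowerSeries.X i) = MvPowerSeries.X i ^ p := fun i => by
    show MvPowerSeries.expand p hp.out.ne_zero (MvPowerSeries.map F.subtype (MvPowerSeries.X i)) = _
    rw [MvPowerSeries.map_X, MvPowerSeries.expand_X]
  refine IsHausdorff.haus (I := PSLib.vars r K) inferInstance _ fun j => ?_
  rw [SModEq.zero]
  obtain ⟨q, hq⟩ := PSLib.exists_polynomial_sub_mem g (j + 1)
  have hle : (PSLib.vars r F).map φ ≤ PSLib.vars r K := by
    rw [PSLib.vars, Ideal.map_span, Ideal.span_le]
    rintro _ ⟨_, ⟨i, rfl⟩, rfl⟩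
    rw [SetLike.mem_coe, hX]
    exact Ideal.pow_mem_of_mem _ (Ideal.subset_span (Set.mem_range_self i)) p hp.out.pos
  have hqK : φ g - φ (q : MvPowerSeries (Fin r) F) ∈ PSLib.vars r K ^ (j + 1) := by
    rw [← map_sub]
    have := Ideal.mem_map_of_mem φ hq
    rw [Ideal.map_pow] at this
    exact Ideal.pow_right_mono hle _ this
  have hpoly : ∀ s : MvPolynomial (Fin r) F, D (φ (s : MvPowerSeries (Fin r) F)) = 0 := by
    intro s
    induction s using MvPolynomial.induction_on with
    | C a =>
      rw [MvPolynomial.coe_C]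
      show D (MvPowerSeries.expand p hp.out.ne_zero (MvPowerSeries.map F.subtype (MvPowerSeries.C a))) = 0
      rw [MvPowerSeries.map_C, MvPowerSeries.expand_C]
      exact hC _ a.2
    | add a b ha hb => rw [MvPolynomial.coe_add, map_add, map_add, ha, hb, add_zero]
    | mul_X a i ha =>
      rw [MvPolynomial.coe_mul, MvPolynomial.coe_X, map_mul, hX, D.leibniz, ha, derivation_pow_char p D, smul_zero,
        smul_zero, add_zero]
  have h1 := CplKaehler4.derivation_mem_pow_smul (k := ℤ) D (PSLib.vars r K) j _ hqK
  rwa [map_sub, hpoly, sub_zero] at h1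

/-- Generation by the variables and finitely many constants. -/
theorem closure_psSub_eq_top (hgen : Subfield.closure (((frobenius K p).fieldRange : Set K) ∪ T) = ⊤) (S : Finset T) :
    Subring.closure ((psSub p (coSub p T S) r : Set (MvPowerSeries (Fin r) K)) ∪
      Set.range (Sum.elim (fun b : S => MvPowerSeries.C ((b : T) : K)) MvPowerSeries.X)) = ⊤ := by
  classical
  set F := coSub p T S
  set W := Subring.closure ((psSub p F r : Set (MvPowerSeries (Fin r) K)) ∪
      Set.range (Sum.elim (fun b : S => MvPowerSeries.C ((b : T) : K)) MvPowerSeries.X))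
  let x : S → K := fun b => ((b : T) : K)
  have hspan : Submodule.span F (Set.range fun e : S → Fin p => ∏ i, x i ^ (e i : ℕ)) = ⊤ := by
    refine span_monomials_eq_top p F (pow_mem_coSub p T S) x (eq_top_iff.2 (hgen ▸ Subfield.closure_le.2 ?_))
    rintro z (hz | hz)
    · exact Subfield.subset_closure (Or.inl (Subfield.subset_closure (Or.inl hz)))
    · by_cases h : (⟨z, hz⟩ : T) ∈ S
      · exact Subfield.subset_closure (Or.inr ⟨⟨⟨z, hz⟩, h⟩, rfl⟩)
      · exact Subfield.subset_closure (Or.inl (Subfield.subset_closure (Or.inr ⟨⟨z, hz⟩, h, rfl⟩)))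
  have hcoord : ∀ c : K, ∃ a : (S → Fin p) → F, ∑ e, a e • (∏ i, x i ^ (e i : ℕ)) = c := fun c =>
    (Submodule.mem_span_range_iff_exists_fun F).1 (hspan ▸ Submodule.mem_top)
  choose a ha using hcoord
  refine eq_top_iff.2 fun f _ => ?_
  let e : (Fin r → Fin p) → (Fin r →₀ ℕ) := fun α => Finsupp.equivFunOnFinite.symm fun j => (α j : ℕ)
  let g : (Fin r → Fin p) → (S → Fin p) → MvPowerSeries (Fin r) F :=
    fun α i q => a (MvPowerSeries.coeff (e α + p • q) f) i
  let G : (Fin r → Fin p) → (S → Fin p) → MvPowerSeries (Fin r) K :=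
    fun α i => MvPowerSeries.expand p hp.out.ne_zero (MvPowerSeries.map F.subtype (g α i))
  have hf : f = ∑ α, ∑ i, MvPowerSeries.monomial (e α) (∏ b, x b ^ (i b : ℕ)) * G α i := by
    ext m
    rw [map_sum]
    let α₀ : Fin r → Fin p := fun j => ⟨m j % p, Nat.mod_lt _ hp.out.pos⟩
    let q₀ : Fin r →₀ ℕ := Finsupp.equivFunOnFinite.symm fun j => m j / p
    have hm : e α₀ + p • q₀ = m := by
      ext j; simp [e, α₀, q₀, Nat.mod_add_div]
    rw [Finset.sum_eq_single α₀]
    · rw [map_sum]
      have hle : e α₀ ≤ m := fun j => by simp [e, α₀, Nat.mod_le]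
      have hsub : m - e α₀ = p • q₀ := by rw [← hm, add_tsub_cancel_left]
      conv_lhs => rw [← ha (MvPowerSeries.coeff m f)]
      refine Finset.sum_congr rfl fun i _ => ?_
      rw [MvPowerSeries.coeff_monomial_mul, if_pos hle, hsub, MvPowerSeries.coeff_expand_smul,
        MvPowerSeries.coeff_map, Subfield.smul_def, smul_eq_mul, mul_comm]
      show _ = _ * ((a (MvPowerSeries.coeff (e α₀ + p • q₀) f) i : F) : K)
      rw [hm]
    · intro α _ hα
      rw [map_sum]
      refine Finset.sum_eq_zero fun i _ => ?_
      rw [MvPowerSeries.coeff_monomial_mul]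
      split_ifs with hle
      · obtain ⟨j, hj⟩ : ∃ j, α j ≠ α₀ j := by
          by_contra! h; exact hα (funext h)
        rw [MvPowerSeries.coeff_expand_of_not_dvd p hp.out.ne_zero _ (i := j), mul_zero]
        intro hdvd
        refine hj (Fin.ext ?_)
        have hle' : (α j : ℕ) ≤ m j := by simpa [e] using hle j
        have hdvd' : p ∣ m j - α j := by simpa [e] using hdvd
        show (α j : ℕ) = m j % p
        obtain ⟨t, ht⟩ := hdvd'
        rw [show m j = (α j : ℕ) + p * t by omega, Nat.add_mul_mod_self_left, Nat.mod_eq_of_lt (α j).2]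
      · rfl
    · intro h; exact absurd (Finset.mem_univ _) h
  have hXm : ∀ d : Fin r →₀ ℕ, (MvPowerSeries.monomial d (1 : K) : MvPowerSeries (Fin r) K) ∈ W := by
    intro d
    induction d using Finsupp.induction with
    | zero => rw [MvPowerSeries.monomial_zero_eq_C_apply, map_one]; exact one_mem W
    | single_add i j a _ _ ih =>
      rw [← one_mul (1 : K), ← MvPowerSeries.monomial_mul_monomial, ← MvPowerSeries.X_pow_eq]
      exact mul_mem (pow_mem (Subring.subset_closure (Or.inr ⟨Sum.inr i, rfl⟩) : (MvPowerSeries.X i : MvPowerSeries (Fin r) K) ∈ W) _) ih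
  rw [hf]
  have hz : ∀ z, Sum.elim (fun b : S => MvPowerSeries.C ((b : T) : K)) MvPowerSeries.X z ∈ W := fun z =>
    Subring.subset_closure (Or.inr ⟨z, rfl⟩)
  refine sum_mem fun α _ => sum_mem fun i _ => mul_mem ?_ (Subring.subset_closure (Or.inl ⟨g α i, rfl⟩))
  rw [← mul_one (∏ b, x b ^ (i b : ℕ)), ← zero_add (e α), ← MvPowerSeries.monomial_mul_monomial,
    MvPowerSeries.monomial_zero_eq_C_apply]
  refine mul_mem ?_ (hXm _)
  rw [map_prod]
  exact prod_mem fun b _ => by rw [map_pow]; exact pow_mem (hz (Sum.inl b)) _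

open scoped Classical in
/-- Partial derivatives over the subring. -/
theorem exists_partials (hbas : ∀ b, bas b = KaehlerDifferential.D ℤ K (b : K)) (S : Finset T) :
    ∃ D : S ⊕ Fin r → Derivation ℤ (MvPowerSeries (Fin r) K) (MvPowerSeries (Fin r) K),
      (∀ z z', D z (Sum.elim (fun b : S => MvPowerSeries.C ((b : T) : K)) MvPowerSeries.X z') =
        if z = z' then 1 else 0) ∧ ∀ z, ∀ a ∈ psSub p (coSub p T S) r, D z a = 0 := by
  classical
  let δ : T → Derivation ℤ K K := fun b => (bas.coord b).compDer (KaehlerDifferential.D ℤ K)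
  have hδ : ∀ b b' : T, δ b (b' : K) = if b' = b then 1 else 0 := fun b b' => by
    show bas.coord b (KaehlerDifferential.D ℤ K (b' : K)) = _
    rw [← hbas, Module.Basis.coord_apply, Module.Basis.repr_self, Finsupp.single_apply]
  let D : S ⊕ Fin r → Derivation ℤ (MvPowerSeries (Fin r) K) (MvPowerSeries (Fin r) K) :=
    Sum.elim (fun b => coeffDer (δ b)) (fun i => (MvPowerSeries.pderiv K i).restrictScalars ℤ)
  have hC : ∀ (b : S) (c : K), D (Sum.inl b) (MvPowerSeries.C c) = MvPowerSeries.C (δ b c) := fun b c =>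
    coeffDer_algebraMap (δ b) c
  refine ⟨D, ?_, fun z => derivation_psSub_eq_zero p (coSub p T S) (D z) fun c hc => ?_⟩
  · rintro (b | i) (b' | i')
    · rw [Sum.elim_inl, hC, hδ]
      by_cases h : b = b'
      · subst h; simp
      · rw [if_neg fun h' => h (Subtype.ext h').symm, if_neg fun h' => h (Sum.inl_injective h'), map_zero]
    · show coeffHom (δ b).toLinearMap.toAddMonoidHom (MvPowerSeries.X i') = _
      rw [if_neg (fun h => Sum.inl_ne_inr h)]
      ext m
      rw [coeff_coeffHom, MvPowerSeries.coeff_X, map_zero]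
      show δ b (if m = _ then 1 else 0) = 0
      split_ifs <;> simp
    · show MvPowerSeries.pderiv K i (MvPowerSeries.C ((b' : T) : K)) = _
      rw [MvPowerSeries.pderiv_C, if_neg (fun h => Sum.inr_ne_inl h)]
    · show MvPowerSeries.pderiv K i (MvPowerSeries.X i') = _
      rw [MvPowerSeries.pderiv_X]
      by_cases h : i = i'
      · subst h; simp
      · simp [h, Ne.symm h]
  · rcases z with b | i
    · rw [hC]
      have hle : coSub p T S ≤ derKer (δ b) := by
        refine Subfield.closure_le.2 ?_
        rintro y (⟨w, rfl⟩ | ⟨t, ht, rfl⟩)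
        · exact derivation_pow_char p (δ b) w
        · show δ b (t : K) = 0
          rw [hδ, if_neg]
          rintro rfl
          exact ht b.2
      rw [show δ b c = 0 from hle hc, map_zero]
    · exact MvPowerSeries.pderiv_C

/-- The fraction fields of the subrings cut out the `p`-th powers. -/
theorem mem_frobenius_of_forall_frac (hbas : ∀ b, bas b = KaehlerDifferential.D ℤ K (b : K)) {E : Type u} [Field E]
    [Algebra (MvPowerSeries (Fin r) K) E] [IsFractionRing (MvPowerSeries (Fin r) K) E] [CharP E p] {z : E}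
    (hz : ∀ S : Finset T, z ∈ Subfield.closure
      (algebraMap (MvPowerSeries (Fin r) K) E '' (psSub p (coSub p T S) r : Set (MvPowerSeries (Fin r) K)))) :
    z ∈ (frobenius E p).fieldRange := by
  classical
  let A := MvPowerSeries (Fin r) K
  haveI : IsDomain A := NoZeroDivisors.to_isDomain _
  haveI : CharP A p := charP_of_injective_algebraMap (algebraMap K A).injective p
  obtain ⟨f, g, hg, rfl⟩ := IsFractionRing.div_surjective (A := A) z
  have hg0 : algebraMap A E g ≠ 0 := IsLocalization.to_map_ne_zero_of_mem_nonZeroDivisors E le_rfl hg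
  obtain ⟨F, hFdef⟩ : ∃ F : A, F = f * g ^ (p - 1) := ⟨_, rfl⟩
  have hF : algebraMap A E F = algebraMap A E f / algebraMap A E g * algebraMap A E g ^ p := by
    rw [hFdef, map_mul, map_pow]
    conv_rhs => rw [show p = (p - 1) + 1 by have := hp.out.pos; omega, pow_succ]
    field_simp
  have hkill : ∀ (S : Finset T) (D : Derivation ℤ A A), (∀ a ∈ psSub p (coSub p T S) r, D a = 0) → D F = 0 := by
    intro S D hD
    obtain ⟨a, ha, b, hb, hab⟩ := Subfield.mem_closure_iff.1 (hz S)
    rw [← RingHom.map_closure, Subring.closure_eq] at ha hb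
    obtain ⟨a, ha, rfl⟩ := ha
    obtain ⟨b, hb, rfl⟩ := hb
    rcases eq_or_ne b 0 with rfl | hb0
    · rw [map_zero, div_zero] at hab
      have : F = 0 := IsFractionRing.injective A E (by rw [hF, ← hab, zero_mul, map_zero])
      rw [this, map_zero]
    · have h1 : F * b = a * g ^ p := by
        refine IsFractionRing.injective A E ?_
        have hb0' : algebraMap A E b ≠ 0 :=
          fun h => hb0 (IsFractionRing.injective A E (h.trans (map_zero _).symm))
        rw [map_mul, map_mul, map_pow, hF, ← hab]
        field_simp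
        first | exact mul_div_cancel_right₀ _ hb0' | rfl
      have h2 := congrArg D h1
      rw [D.leibniz, D.leibniz, hD a ha, hD b hb, derivation_pow_char p D] at h2
      simp only [smul_eq_mul, mul_zero, zero_add, add_zero] at h2
      exact (mul_eq_zero.1 h2).resolve_left hb0
  have hcoef : ∀ m, (∀ i, ¬ p ∣ m i → MvPowerSeries.coeff m F = 0) ∧
      MvPowerSeries.coeff m F ∈ (frobenius K p).fieldRange := by
    intro m
    refine ⟨fun i hi => ?_, mem_frobenius_of_D_eq_zero p ?_⟩
    · have h := hkill ∅ ((MvPowerSeries.pderiv K i).restrictScalars ℤ)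
        (derivation_psSub_eq_zero p _ _ fun c _ => MvPowerSeries.pderiv_C)
      have hmi : 1 ≤ m i := by
        rcases Nat.eq_zero_or_pos (m i) with h0 | h0
        · exact absurd (h0 ▸ dvd_zero p) hi
        · exact h0
      have h' := congrArg (MvPowerSeries.coeff (m - Finsupp.single i 1)) h
      rw [Derivation.restrictScalars_apply, MvPowerSeries.coeff_pderiv, map_zero] at h'
      have e1 : m - Finsupp.single i 1 + Finsupp.single i 1 = m :=
        tsub_add_cancel_of_le (Finsupp.single_le_iff.2 hmi)
      rw [e1, mul_eq_zero] at h'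
      refine h'.resolve_right fun h0 => hi ?_
      have e2 : (((m - Finsupp.single i 1 : Fin r →₀ ℕ) i + 1 : ℕ) : K) = 0 := by push_cast; exact h0
      rw [CharP.cast_eq_zero_iff K p, show (m - Finsupp.single i 1 : Fin r →₀ ℕ) i + 1 = m i by simp; omega] at e2
      exact e2
    · refine bas.repr.injective (Finsupp.ext fun b => ?_)
      obtain ⟨D, -, hD⟩ := exists_partials p T bas hbas ({b} : Finset T) (r := r)
      have hle : ∀ a ∈ psSub p (coSub p T {b}) r,
          coeffDer ((bas.coord b).compDer (KaehlerDifferential.D ℤ K)) a = 0 := by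
        refine derivation_psSub_eq_zero p _ _ fun c hc => ?_
        rw [show MvPowerSeries.C c = algebraMap K A c from rfl, coeffDer_algebraMap]
        have hle : coSub p T {b} ≤ derKer ((bas.coord b).compDer (KaehlerDifferential.D ℤ K)) := by
          refine Subfield.closure_le.2 ?_
          rintro y (⟨w, rfl⟩ | ⟨t, ht, rfl⟩)
          · exact derivation_pow_char p _ w
          · show bas.coord b (KaehlerDifferential.D ℤ K (t : K)) = 0
            rw [← hbas, Module.Basis.coord_apply, Module.Basis.repr_self, Finsupp.single_apply, if_neg]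
            rintro rfl
            exact ht (Finset.mem_singleton_self _)
        rw [show (bas.coord b).compDer (KaehlerDifferential.D ℤ K) c = 0 from hle hc, map_zero]
      have h := congrArg (MvPowerSeries.coeff m) (hkill {b} _ hle)
      rw [map_zero] at h ⊢
      exact h
  choose root hroot using fun m => (hcoef m).2
  let G : A := fun q => root (p • q)
  have hG : G ^ p = F := by
    ext m
    rw [← MvPowerSeries.map_frobenius_expand p hp.out.ne_zero, MvPowerSeries.coeff_map]
    by_cases hm : ∀ i, p ∣ m i
    · obtain ⟨q, rfl⟩ : ∃ q : Fin r →₀ ℕ, m = p • q :=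
        ⟨Finsupp.equivFunOnFinite.symm fun i => m i / p,
          Finsupp.ext fun i => by simp [Nat.mul_div_cancel' (hm i)]⟩
      rw [MvPowerSeries.coeff_expand_smul]
      exact hroot _
    · push Not at hm
      obtain ⟨i, hi⟩ := hm
      rw [MvPowerSeries.coeff_expand_of_not_dvd p hp.out.ne_zero _ (i := i) hi, map_zero, (hcoef m).1 i hi]
  refine ⟨algebraMap A E G / algebraMap A E g, ?_⟩
  rw [frobenius_def, div_pow, ← map_pow, hG, hF, mul_div_assoc, div_self (pow_ne_zero _ hg0), mul_one]

end Groth.Agent.Ega41H93
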