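import Groth.Agent.RegFS6.Field
import Groth.Agent.FormalFib6.Cplt
import Groth.Agent.S0548
import Groth.Agent.S0565

/-!
# Completions of regular rings
-/

universe u

open IsLocalRing

namespace Groth.Agent.Ega41H93

/-- An adic completion of a regular ring is regular. -/
theorem isRegularRing_cpl (A : Type u) [CommRing A] [IsRegularRing A] (J : Ideal A) :
    IsRegularRing (AdicCompletion J A) := by
  haveI := FormalFib6.isNoetherianRing_adicCompletion A J
  refine RegFS6.isRegularRing_of_maximal _ fun M hM => ?_
  obtain ⟨m, hm, _, _, hff⟩ := FormalFib6.exists_atMaximal A J M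
  haveI : IsRegularLocalRing (EGA4.Cpl (Localization.AtPrime m)) :=
    (S0548.result (Localization.AtPrime m)).1 inferInstance
  haveI := hff
  haveI : IsNoetherianRing (Localization.AtPrime M) :=
    IsLocalization.isNoetherianRing M.primeCompl _ inferInstance
  haveI : IsLocalHom (algebraMap (Localization.AtPrime M) (EGA4.Cpl (Localization.AtPrime m))) := ⟨fun x hx => by
    rw [← Ideal.span_singleton_eq_top,
      ← Ideal.comap_map_eq_self_of_faithfullyFlat (B := EGA4.Cpl (Localization.AtPrime m)) (Ideal.span {x}),
      Ideal.map_span, Set.image_singleton, Ideal.span_singleton_eq_top.2 hx, Ideal.comap_top]⟩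
  exact S0565.result (Localization.AtPrime M) (EGA4.Cpl (Localization.AtPrime m))

end Groth.Agent.Ega41H93
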