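import Groth.Agent.Ega41H93.CplKaehlerFS
import Groth.Agent.CoeffField.AdicSmooth

/-!
# Differentials at the residue field of a formally smooth local algebra
-/

set_option linter.style.haveILetI false

namespace Groth.Agent.Ega41H93

open IsLocalRing TensorProduct

universe u

attribute [local instance 10000] Ring.toIntAlgebra

variable {k A : Type u} [Field k] [CommRing A] [IsLocalRing A] [IsNoetherianRing A] [Algebra k A]

/-- The rank of the reduced differentials of a formally smooth local algebra, in general. -/
theorem finrank_residue_kaehler_add_imperfection (hfs : CAlgX.IsAdicFormallySmooth k A (maximalIdeal A))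
    [Module.Finite (ResidueField A) (Ω[ResidueField A⁄k])]
    [hU : Module.Finite (ResidueField A) (EGA41.imperfection ℤ k (ResidueField A))] :
    Module.Finite (ResidueField A) ((ResidueField A) ⊗[A] Ω[A⁄k]) ∧
      ((Module.finrank (ResidueField A) ((ResidueField A) ⊗[A] Ω[A⁄k]) +
        Module.finrank (ResidueField A) (EGA41.imperfection ℤ k (ResidueField A)) : ℕ) : WithBot ℕ∞) =
        ringKrullDim A + ((Module.finrank (ResidueField A) (Ω[ResidueField A⁄k]) : ℕ) : WithBot ℕ∞) := by
  classical
  obtain ⟨hreg, hinj⟩ := S2471.result.1 hfs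
  let K := ResidueField A
  have hsurj : Function.Surjective (algebraMap A K) := residue_surjective
  let I := RingHom.ker (algebraMap A K)
  let dZ : I.Cotangent →ₗ[A] K ⊗[A] Ω[A⁄ℤ] := KaehlerDifferential.kerCotangentToTensor ℤ A K
  let g : I.Cotangent →ₗ[A] K ⊗[A] Ω[A⁄k] := KaehlerDifferential.kerCotangentToTensor k A K
  let π : K ⊗[A] Ω[A⁄ℤ] →ₗ[A] K ⊗[A] Ω[A⁄k] := (KaehlerDifferential.map ℤ k A A).lTensor K
  let q := KaehlerDifferential.mapBaseChange ℤ A K
  let ι : K ⊗[k] Ω[k⁄ℤ] →ₗ[K] K ⊗[A] Ω[A⁄ℤ] :=
    LinearMap.liftBaseChange K (((TensorProduct.mk A K (Ω[A⁄ℤ]) 1).restrictScalars k).comp (KaehlerDifferential.map ℤ ℤ k A))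
  have hι_eq : ∀ z, ι z = (KaehlerDifferential.mapBaseChange ℤ k A).lTensor K
      ((AlgebraTensorModule.cancelBaseChange k A K K (Ω[k⁄ℤ])).symm z) := by
    intro z
    induction z using TensorProduct.induction_on with
    | zero => simp
    | add x y hx hy => simp only [map_add, hx, hy]
    | tmul c x => simp [ι, TensorProduct.smul_tmul']
  have hιinj : Function.Injective ι := fun x y h => (LinearEquiv.injective _) (hinj ((hι_eq x).symm.trans (h.trans (hι_eq y))))
  have hπι : LinearMap.ker π = LinearMap.range (ι.restrictScalars A) := by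
    rw [(lTensor_exact K (KaehlerDifferential.exact_mapBaseChange_map ℤ k A)
      (KaehlerDifferential.map_surjective ℤ k A)).linearMap_ker_eq]
    refine le_antisymm ?_ ?_
    · rintro _ ⟨z, rfl⟩
      exact ⟨AlgebraTensorModule.cancelBaseChange k A K K (Ω[k⁄ℤ]) z, by
        show ι _ = _
        rw [hι_eq, LinearEquiv.symm_apply_apply]⟩
    · rintro _ ⟨z, rfl⟩
      exact ⟨_, (hι_eq z).symm⟩
  have hqι : ∀ z, q (ι z) = KaehlerDifferential.mapBaseChange ℤ k K z := by
    intro z
    induction z using TensorProduct.induction_on with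
    | zero => simp
    | add x y hx hy => simp only [map_add, hx, hy]
    | tmul c x =>
      simp only [ι, LinearMap.liftBaseChange_tmul, LinearMap.comp_apply, LinearMap.restrictScalars_apply,
        TensorProduct.mk_apply, map_smul, q, KaehlerDifferential.mapBaseChange_tmul, one_smul]
      congr 1
      have hx : x ∈ Submodule.span k (Set.range (KaehlerDifferential.D ℤ k)) := by
        rw [KaehlerDifferential.span_range_derivation]; trivial
      induction hx using Submodule.span_induction with
      | mem y hy =>
        obtain ⟨y, rfl⟩ := hy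
        simp only [KaehlerDifferential.map_D, ← IsScalarTower.algebraMap_apply]
      | zero => simp
      | add y z _ _ hy hz => simp only [map_add, hy, hz]
      | smul c y _ hy => simp only [map_smul, LinearMap.map_smul_of_tower, hy]
  have hπd : π.comp dZ = g := by
    refine LinearMap.ext fun y => ?_
    obtain ⟨x, rfl⟩ := Ideal.toCotangent_surjective _ y
    show (KaehlerDifferential.map ℤ k A A).lTensor K ((1 : K) ⊗ₜ[A] KaehlerDifferential.D ℤ A x.1) =
      (1 : K) ⊗ₜ[A] KaehlerDifferential.D k A x.1
    rw [LinearMap.lTensor_tmul, KaehlerDifferential.map_D, Algebra.algebraMap_self, RingHom.id_apply]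
  -- the differential over `ℤ` is injective on the cotangent space
  have hdZ : Function.Injective dZ := by
    let J : Ideal A := I ^ 2
    let R2 := A ⧸ J
    have hIm : I = maximalIdeal A := IsLocalRing.ker_residue
    haveI : Nontrivial R2 := Ideal.Quotient.nontrivial_iff.2
      (ne_top_of_le_ne_top (maximalIdeal.isMaximal A).ne_top ((Ideal.pow_le_self two_ne_zero).trans hIm.le))
    haveI : IsLocalRing R2 := IsLocalRing.of_surjective' (Ideal.Quotient.mk J) Ideal.Quotient.mk_surjective
    haveI : IsLocalHom (Ideal.Quotient.mk J) := .of_surjective _ Ideal.Quotient.mk_surjective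
    have hm2 : maximalIdeal R2 = I.map (Ideal.Quotient.mk J) := by
      rw [hIm, IsLocalRing.map_maximalIdeal_of_surjective _ Ideal.Quotient.mk_surjective]
    haveI : IsAdicComplete (maximalIdeal R2) R2 := CoeffField.isAdicComplete_of_pow_eq_bot (N := 2) (by
      rw [hm2, ← Ideal.map_pow, Ideal.map_quotient_self])
    obtain ⟨σ, hσ⟩ := CoeffField.exists_ringHom_section k R2
    let σ' : K →+* R2 := σ.comp (ResidueField.map (Ideal.Quotient.mk J))
    have hmem : ∀ a, ∃ x : I, Ideal.Quotient.mk J x.1 = Ideal.Quotient.mk J a - σ' (residue A a) := by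
      intro a
      have h : Ideal.Quotient.mk J a - σ' (residue A a) ∈ I.map (Ideal.Quotient.mk J) := by
        rw [← hm2, ← residue_eq_zero_iff, map_sub, RingHom.comp_apply, hσ, ResidueField.map_residue, sub_self]
      obtain ⟨x, hx, hx'⟩ := (Ideal.mem_map_iff_of_surjective _ Ideal.Quotient.mk_surjective).1 h
      exact ⟨⟨x, hx⟩, hx'⟩
    choose x hx using hmem
    let δ : A → I.Cotangent := fun a => I.toCotangent (x a)
    have hcot : ∀ y z : I, Ideal.Quotient.mk J y.1 = Ideal.Quotient.mk J z.1 → I.toCotangent y = I.toCotangent z :=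
      fun y z h => (Ideal.toCotangent_eq I).2 (Ideal.Quotient.eq.1 h)
    have hadd : ∀ a a', δ (a + a') = δ a + δ a' := by
      intro a a'
      rw [← map_add]
      refine hcot _ _ ?_
      simp only [Submodule.coe_add, map_add, hx]; ring
    have hmul : ∀ a a', δ (a * a') = a • δ a' + a' • δ a := by
      intro a a'
      rw [← map_smul, ← map_smul, ← map_add]
      refine hcot _ _ ?_
      simp only [Submodule.coe_add, Submodule.coe_smul, smul_eq_mul, map_add, map_mul, hx]
      have h0 : Ideal.Quotient.mk J (x a).1 * Ideal.Quotient.mk J (x a').1 = 0 := by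
        rw [← map_mul, Ideal.Quotient.eq_zero_iff_mem]
        show _ ∈ I ^ 2
        rw [sq]
        exact Ideal.mul_mem_mul (x a).2 (x a').2
      rw [hx, hx] at h0
      linear_combination -h0
    let D : Derivation ℤ A I.Cotangent := Derivation.mk' (AddMonoidHom.mk' δ hadd).toIntLinearMap hmul
    have hK : ∀ (a : A), a ∈ I → ∀ y : I.Cotangent, a • y = 0 := fun a ha y => by
      obtain ⟨x, rfl⟩ := Ideal.toCotangent_surjective _ y
      rw [← map_smul, Ideal.toCotangent_eq_zero, sq]
      exact Ideal.mul_mem_mul ha x.2
    let η : K →ₗ[A] (Ω[A⁄ℤ] →ₗ[A] I.Cotangent) :=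
      Submodule.liftQ (maximalIdeal A) (LinearMap.toSpanSingleton A _ D.liftKaehlerDifferential) fun a ha => by
        refine LinearMap.ext fun ω => ?_
        exact hK a (by rwa [RingHom.mem_ker, ResidueField.algebraMap_eq, residue_eq_zero_iff]) _
    refine Function.LeftInverse.injective (g := TensorProduct.lift η) fun y => ?_
    obtain ⟨y₀, rfl⟩ := Ideal.toCotangent_surjective _ y
    rw [KaehlerDifferential.kerCotangentToTensor_toCotangent, TensorProduct.lift.tmul]
    show ((1 : A) • D.liftKaehlerDifferential) (KaehlerDifferential.D ℤ A y₀.1) = _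
    rw [one_smul, Derivation.liftKaehlerDifferential_comp_D]
    refine hcot _ _ ?_
    have : residue A y₀.1 = 0 := RingHom.mem_ker.1 y₀.2
    rw [hx, this, map_zero, sub_zero]
  -- the kernel is the imperfection module
  have hmapeq : Submodule.map dZ (LinearMap.ker g) =
      Submodule.map (ι.restrictScalars A) ((EGA41.imperfection ℤ k K).restrictScalars A) := by
    have hex : ∀ y, q y = 0 ↔ y ∈ Set.range dZ := KaehlerDifferential.exact_kerCotangentToTensor_mapBaseChange ℤ A K hsurj
    refine le_antisymm ?_ ?_
    · rintro _ ⟨y, hy, rfl⟩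
      obtain ⟨z, hz⟩ : dZ y ∈ LinearMap.range (ι.restrictScalars A) := by
        rw [← hπι, LinearMap.mem_ker, ← LinearMap.comp_apply, hπd]
        exact hy
      refine ⟨z, ?_, hz⟩
      show KaehlerDifferential.mapBaseChange ℤ k K z = 0
      rw [← hqι, show ι z = dZ y from hz]
      exact (hex _).2 ⟨y, rfl⟩
    · rintro _ ⟨z, hz, rfl⟩
      obtain ⟨y, hy⟩ := (hex (ι z)).1 ((hqι z).trans hz)
      refine ⟨y, ?_, hy⟩
      show g y = 0
      rw [← hπd, LinearMap.comp_apply, hy, ← LinearMap.mem_ker, hπι]
      exact ⟨z, rfl⟩
  -- counting lengths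
  have hlK : ∀ (M : Type u) [AddCommGroup M] [Module A M] [Module K M] [IsScalarTower A K M] [Module.Finite K M],
      Module.length A M = (Module.finrank K M : ℕ∞) := fun M _ _ _ _ _ => by
    rw [Module.length_eq_of_surjective hsurj, Module.length_eq_finrank]
  have hlker : Module.length A (LinearMap.ker g) = (Module.finrank K (EGA41.imperfection ℤ k K) : ℕ∞) := by
    have e1 : Module.length A (LinearMap.ker g) = Module.length A (Submodule.map dZ (LinearMap.ker g)) :=
      LinearEquiv.length_eq (R := A) (Submodule.equivMapOfInjective dZ hdZ (LinearMap.ker g) :)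
    have e2 : Module.length A ((EGA41.imperfection ℤ k K).restrictScalars A) =
        Module.length A (Submodule.map (ι.restrictScalars A) ((EGA41.imperfection ℤ k K).restrictScalars A)) :=
      LinearEquiv.length_eq (R := A) (Submodule.equivMapOfInjective (ι.restrictScalars A) hιinj _ :)
    rw [e1, hmapeq, ← e2]
    have : Module.length A ((EGA41.imperfection ℤ k K).restrictScalars A) = Module.length A (EGA41.imperfection ℤ k K) := rfl
    rw [this, hlK]
  obtain ⟨n, hn⟩ : ∃ n : ℕ, ringKrullDim A = n := ⟨_, ((isRegularLocalRing_iff A).1 hreg).symm⟩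
  have hcot : Module.length A I.Cotangent = (n : ℕ∞) := by
    rw [length_cotangent_congr (show I = maximalIdeal A from IsLocalRing.ker_residue), hlK (CotangentSpace A)]
    have h := (isRegularLocalRing_iff A).1 hreg
    rw [spanFinrank_maximalIdeal_eq_finrank_cotangentSpace, hn] at h
    exact congrArg _ (Nat.cast_inj.1 h)
  have h1 : Module.length A I.Cotangent = Module.length A (LinearMap.ker g) + Module.length A (LinearMap.range g) :=
    Module.length_eq_add_of_exact (LinearMap.ker g).subtype g.rangeRestrict (Submodule.subtype_injective _)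
      g.surjective_rangeRestrict (by rw [LinearMap.exact_iff, LinearMap.ker_rangeRestrict, Submodule.range_subtype])
  let qk := (KaehlerDifferential.mapBaseChange k A K).restrictScalars A
  have h2 : Module.length A (K ⊗[A] Ω[A⁄k]) = Module.length A (LinearMap.range g) + Module.length A (Ω[K⁄k]) :=
    Module.length_eq_add_of_exact (LinearMap.range g).subtype qk (Submodule.subtype_injective _)
      (KaehlerDifferential.mapBaseChange_surjective k A K hsurj) (by
        rw [LinearMap.exact_iff, Submodule.range_subtype, LinearMap.ker_restrictScalars]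
        exact (KaehlerDifferential.range_kerCotangentToTensor k A K hsurj).symm)
  haveI : Module.Finite A (Ω[K⁄k]) := by
    haveI : Module.Finite A K := Module.Finite.of_surjective (Algebra.linearMap A K) hsurj
    exact Module.Finite.trans K _
  haveI : Module.Finite A (K ⊗[A] Ω[A⁄k]) := by
    refine ⟨Submodule.fg_of_fg_map_of_fg_inf_ker qk (IsNoetherian.noetherian _) ?_⟩
    rw [top_inf_eq, LinearMap.ker_restrictScalars, ← KaehlerDifferential.range_kerCotangentToTensor k A K hsurj]
    haveI : Module.Finite A I.Cotangent := Module.Finite.of_surjective I.toCotangent (Ideal.toCotangent_surjective _)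
    exact (Submodule.fg_top _).1 (Module.Finite.range g).fg_top
  haveI hfinK : Module.Finite K (K ⊗[A] Ω[A⁄k]) := Module.Finite.of_restrictScalars_finite A K _
  refine ⟨hfinK, ?_⟩
  rw [hlK (K ⊗[A] Ω[A⁄k]), hlK (Ω[K⁄k])] at h2
  rw [hlker, hcot] at h1
  generalize Module.length A (LinearMap.range g) = r at h1 h2
  have h3 : Module.finrank K (K ⊗[A] Ω[A⁄k]) + Module.finrank K (EGA41.imperfection ℤ k K) =
      n + Module.finrank K (Ω[K⁄k]) := by
    induction r using ENat.recTopCoe with
    | top => simp at h1
    | coe r => norm_cast at h1 h2; omega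
  rw [h3, hn]
  push_cast
  rfl

end Groth.Agent.Ega41H93
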