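import Groth.Agent.DimFormula.QuasiSection
import Groth.Agent.FibDim.LocDim

/-!
# Dimension of the source of a morphism locally of finite type
-/

set_option autoImplicit false
set_option linter.style.haveILetI false

open AlgebraicGeometry CategoryTheory Order Topology

namespace Groth.Agent.Ega41H93

universe u

theorem add_nat_right_cancel {a b : WithBot ℕ∞} {e : ℕ} (h : a + (e : WithBot ℕ∞) = b + e) : a = b := by
  induction a with
  | bot =>
    induction b with
    | bot => rfl
    | coe b =>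
      rw [WithBot.bot_add, show (e : WithBot ℕ∞) = ((e : ℕ∞) : WithBot ℕ∞) from rfl, ← WithBot.coe_add] at h
      exact absurd h WithBot.bot_ne_coe
  | coe a =>
    induction b with
    | bot =>
      rw [WithBot.bot_add, show (e : WithBot ℕ∞) = ((e : ℕ∞) : WithBot ℕ∞) from rfl, ← WithBot.coe_add] at h
      exact absurd h.symm WithBot.bot_ne_coe
    | coe b =>
      rw [show (e : WithBot ℕ∞) = ((e : ℕ∞) : WithBot ℕ∞) from rfl, ← WithBot.coe_add, ← WithBot.coe_add,
        WithBot.coe_inj] at h
      rw [WithBot.coe_inj]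
      exact (WithTop.add_right_inj (ENat.natCast_ne_top e)).1 h

theorem iSup_nat_add_le {ι : Type*} [Nonempty ι] (g : ι → ℕ) (e : ℕ) (D : WithBot ℕ∞)
    (h : ∀ i, ((g i + e : ℕ) : WithBot ℕ∞) ≤ D) :
    (⨆ i, ((g i : ℕ∞) : WithBot ℕ∞)) + (e : WithBot ℕ∞) ≤ D := by
  induction D with
  | bot =>
    exact absurd (h (Classical.arbitrary ι)) (by
      rw [le_bot_iff]
      exact_mod_cast WithBot.coe_ne_bot (a := ((g (Classical.arbitrary ι) + e : ℕ) : ℕ∞)))
  | coe D =>
    induction D using ENat.recTopCoe with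
    | top => exact le_top
    | coe d =>
      have h' : ∀ i, g i + e ≤ d := fun i => by exact_mod_cast h i
      have he : e ≤ d := le_trans (Nat.le_add_left e _) (h' (Classical.arbitrary ι))
      obtain ⟨k, hk⟩ : ∃ k, d = k + e := ⟨d - e, by omega⟩
      refine (add_le_add (iSup_le fun i => ?_) le_rfl).trans (b := (k : WithBot ℕ∞) + e) ?_
      · exact_mod_cast (show g i ≤ k by have := h' i; omega)
      · exact_mod_cast (show k + e ≤ d by omega)

variable {X Y : Scheme.{u}} (f : X ⟶ Y) [LocallyOfFiniteType f]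

theorem exists_rd_zero {y : Y} (hy : y ∈ Set.range f.base) : ∃ x, f x = y ∧ FibDim.rd f x = 0 := by
  classical
  obtain ⟨x₀, hx₀⟩ := hy
  have hex : ∃ m, ∃ x, f x = y ∧ FibDim.rd f x = m := ⟨_, x₀, hx₀, rfl⟩
  obtain ⟨x, hx, hm⟩ := Nat.find_spec hex
  refine ⟨x, hx, DimFormula.rd_eq_zero_of_closed f fun x' he hsp => ?_⟩
  by_contra hne
  have hlt := FibDim.rd_lt f hsp (Ne.symm hne) he.symm
  have hmin := Nat.find_min' hex ⟨x', he.trans hx, rfl⟩
  omega

theorem fb_le_of_fibre_le {n : ℕ} (x : X) (h : topologicalKrullDim (f.fiber (f x)) ≤ n) :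
    DimFormula.fb f x ≤ n := by
  haveI := DimFormula.isLocallyNoetherian_fiber f (f x)
  rw [FibDim.topologicalKrullDim_eq_iSup_codim] at h
  exact_mod_cast le_trans (le_iSup (fun z => ((DimFormula.codim z : ℕ∞) : WithBot ℕ∞)) (f.asFiber x)) h

theorem dim_le_add [IsLocallyNoetherian Y] (n : ℕ) (h : ∀ y : Y, topologicalKrullDim (f.fiber y) ≤ n) :
    topologicalKrullDim X ≤ topologicalKrullDim Y + n := by
  haveI := LocallyOfFiniteType.isLocallyNoetherian f
  rw [FibDim.topologicalKrullDim_eq_iSup_codim (X := X)]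
  refine iSup_le fun x => ?_
  have h1 := DimFormula.codim_le_add f x
  have h2 := fb_le_of_fibre_le f x (h (f x))
  refine le_trans (b := ((DimFormula.codim (f x) : ℕ∞) : WithBot ℕ∞) + n)
    (by exact_mod_cast (show DimFormula.codim x ≤ DimFormula.codim (f x) + n by omega)) (add_le_add ?_ le_rfl)
  rw [FibDim.topologicalKrullDim_eq_iSup_codim]
  exact le_iSup (fun z : Y => ((DimFormula.codim z : ℕ∞) : WithBot ℕ∞)) (f x)

theorem cd_generic_image [IsLocallyNoetherian Y] {η' : Y} (h : ∀ y : Y, η' ⤳ y) (y : Y) :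
    DimFormula.cd η' y = DimFormula.codim y := by
  obtain ⟨η, -, hmax, he⟩ := DimFormula.exists_maximal_cd_eq_codim y
  rwa [← hmax _ (h η)] at he

theorem codim_formula [IsLocallyNoetherian Y] [IrreducibleSpace X] (hgen : ∀ y : Y, f (genericPoint X) ⤳ y)
    (x : X) : DimFormula.codim x + FibDim.rd f x ≤ DimFormula.codim (f x) + FibDim.rd f (genericPoint X) ∧
      (CAlg.IsUniversallyCatenary (Y.presheaf.stalk (f x)) →
        DimFormula.codim x + FibDim.rd f x = DimFormula.codim (f x) + FibDim.rd f (genericPoint X)) := by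
  haveI := LocallyOfFiniteType.isLocallyNoetherian f
  have h := DimFormula.cd_formula f ((genericPoint_spec X).specializes (Set.mem_univ x))
  rw [DimFormula.cd_eq_codim_of_irreducible, cd_generic_image hgen] at h
  exact h

theorem dim_le_generic [IsLocallyNoetherian Y] [IrreducibleSpace X] [IrreducibleSpace Y]
    (hf : DenseRange f.base) :
    topologicalKrullDim X ≤ topologicalKrullDim Y + topologicalKrullDim (f.fiber (genericPoint Y)) ∧
      ((∀ y : Y, CAlg.IsUniversallyCatenary (Y.presheaf.stalk y)) →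
        (topologicalKrullDim X = topologicalKrullDim Y + topologicalKrullDim (f.fiber (genericPoint Y)) ↔
          topologicalKrullDim Y = ⨆ y ∈ Set.range f.base, ringKrullDim (Y.presheaf.stalk y))) := by
  haveI := LocallyOfFiniteType.isLocallyNoetherian f
  haveI : IsDominant f := ⟨hf⟩
  obtain ⟨hη, hdim⟩ := DimFormula.generic_fibre_dim f
  have hgen : ∀ y : Y, f (genericPoint X) ⤳ y := fun y => hη ▸ (genericPoint_spec Y).specializes (Set.mem_univ y)
  set e := FibDim.rd f (genericPoint X)
  rw [hdim, show ((e : ℕ∞) : WithBot ℕ∞) = (e : WithBot ℕ∞) from rfl]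
  refine ⟨?_, fun hcat => ?_⟩
  · rw [FibDim.topologicalKrullDim_eq_iSup_codim (X := X)]
    refine iSup_le fun x => ?_
    have h1 := (codim_formula f hgen x).1
    refine le_trans (b := ((DimFormula.codim (f x) : ℕ∞) : WithBot ℕ∞) + e)
      (by exact_mod_cast (show DimFormula.codim x ≤ DimFormula.codim (f x) + e by omega)) (add_le_add ?_ le_rfl)
    rw [FibDim.topologicalKrullDim_eq_iSup_codim]
    exact le_iSup (fun z : Y => ((DimFormula.codim z : ℕ∞) : WithBot ℕ∞)) (f x)
  set B := ⨆ y ∈ Set.range f.base, ringKrullDim (Y.presheaf.stalk y)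
  have hB : B = ⨆ y : Set.range f.base, ((DimFormula.codim y.1 : ℕ∞) : WithBot ℕ∞) := by
    refine le_antisymm (iSup₂_le fun y hy => ?_) (iSup_le fun y => ?_)
    · rw [DimFormula.ringKrullDim_stalk]
      exact le_iSup (fun y : Set.range f.base => ((DimFormula.codim y.1 : ℕ∞) : WithBot ℕ∞)) ⟨y, hy⟩
    · refine le_iSup₂_of_le y.1 y.2 ?_
      rw [DimFormula.ringKrullDim_stalk]
      exact le_rfl
  haveI : Nonempty (Set.range f.base) := ⟨⟨_, genericPoint X, rfl⟩⟩
  have hX : topologicalKrullDim X = B + (e : WithBot ℕ∞) := by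
    rw [FibDim.topologicalKrullDim_eq_iSup_codim (X := X), hB]
    refine le_antisymm (iSup_le fun x => ?_) (iSup_nat_add_le _ e _ fun y => ?_)
    · have h1 := (codim_formula f hgen x).1
      refine le_trans (b := ((DimFormula.codim (f x) : ℕ∞) : WithBot ℕ∞) + e)
        (by exact_mod_cast (show DimFormula.codim x ≤ DimFormula.codim (f x) + e by omega)) (add_le_add ?_ le_rfl)
      exact le_iSup (fun y : Set.range f.base => ((DimFormula.codim y.1 : ℕ∞) : WithBot ℕ∞)) ⟨f x, x, rfl⟩
    · obtain ⟨x, hx, hx0⟩ := exists_rd_zero f y.2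
      refine le_iSup_of_le x ?_
      have h1 := (codim_formula f hgen x).2 (hcat _)
      rw [hx, hx0] at h1
      exact_mod_cast (show DimFormula.codim y.1 + e ≤ DimFormula.codim x by omega)
  rw [hX]
  exact ⟨fun h => (add_nat_right_cancel h).symm, fun h => by rw [h]⟩

theorem add_le_dim [IsLocallyNoetherian Y] [IrreducibleSpace X]
    (hY : ∀ y : Y, CAlg.IsUniversallyCatenary (Y.presheaf.stalk y)) (n : ℕ)
    (h : ∀ y : Y, (n : WithBot ℕ∞) ≤ topologicalKrullDim (f.fiber y)) :
    topologicalKrullDim Y + n ≤ topologicalKrullDim X := by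
  haveI := LocallyOfFiniteType.isLocallyNoetherian f
  have hsurj : ∀ y : Y, y ∈ Set.range f.base := by
    intro y
    have hy := h y
    rw [FibDim.topologicalKrullDim_fiber f] at hy
    by_contra hne
    haveI : IsEmpty ↥(f ⁻¹' {y}) := ⟨fun z => hne ⟨z.1, z.2⟩⟩
    rw [iSup_of_empty] at hy
    exact absurd (le_bot_iff.1 hy) WithBot.coe_ne_bot
  have hgen : ∀ y : Y, f (genericPoint X) ⤳ y := fun y => by
    obtain ⟨x, rfl⟩ := hsurj y
    exact ((genericPoint_spec X).specializes (Set.mem_univ x)).map f.continuous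
  have he : n ≤ FibDim.rd f (genericPoint X) := by
    have h1 := (h (f (genericPoint X))).trans_eq (FibDim.topologicalKrullDim_fiber f _)
    refine ENat.natCast_le_natCast.1 (WithBot.coe_le_coe.1 (le_trans h1 (iSup_le fun z => ?_)))
    exact_mod_cast FibDim.rd_le_of_specializes f ((genericPoint_spec X).specializes (Set.mem_univ z.1)) z.2.symm
  haveI : Nonempty Y := ⟨f (genericPoint X)⟩
  rw [FibDim.topologicalKrullDim_eq_iSup_codim (X := Y), FibDim.topologicalKrullDim_eq_iSup_codim (X := X)]
  refine iSup_nat_add_le _ n _ fun y => ?_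
  obtain ⟨x, hx, hx0⟩ := exists_rd_zero f (hsurj y)
  refine le_iSup_of_le x ?_
  have h1 := (codim_formula f hgen x).2 (hY _)
  rw [hx, hx0] at h1
  exact_mod_cast (show DimFormula.codim y + n ≤ DimFormula.codim x by omega)

end Groth.Agent.Ega41H93
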