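import Groth.Agent.Ega41H93.SchDim
import Groth.Agent.DimFormula.JacobsonLocal
import Groth.Agent.LC.FiniteCrit

/-!
# Fibres over one-dimensional bases and zero loci of functions
-/

set_option autoImplicit false
set_option linter.style.haveILetI false

open AlgebraicGeometry CategoryTheory Order Topology

namespace Groth.Agent.Ega41H93

universe u

variable {X Y : Scheme.{u}}

/-- Components of the fibres of a dominant morphism to an irreducible curve. -/
theorem component_fibre_dim_eq (f : X ⟶ Y) [IsLocallyNoetherian Y] [IrreducibleSpace Y] [IrreducibleSpace X]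
    [LocallyOfFiniteType f] (hY : topologicalKrullDim Y = 1) (hf : DenseRange f.base) (y : Y)
    (Z : Set ↥(f.fiber y)) (hZ : Z ∈ irreducibleComponents ↥(f.fiber y)) :
    topologicalKrullDim Z = topologicalKrullDim ↥(f.fiber (genericPoint Y)) := by
  haveI := LocallyOfFiniteType.isLocallyNoetherian f
  haveI : IsDominant f := ⟨hf⟩
  obtain ⟨hη, hdim⟩ := DimFormula.generic_fibre_dim f
  haveI : QuasiSober ↥(f.fiber y) := inferInstance
  obtain ⟨a, rfl, hmax⟩ := FDescent.exists_maximal_of_mem_irreducibleComponents hZ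
  have hz : f (f.fiberι y a) = y := FibDim.fiber_apply_fiberι f a
  set z := f.fiberι y a with hzdef
  have hfib : FibDim.FibMax f z := (FibDim.fibMax_fiberι_iff f a).2 hmax
  have himg : f.fiberι y '' closure ({a} : Set ↥(f.fiber y)) = closure {z} ∩ f ⁻¹' {f z} := by
    rw [(f.fiberι y).isEmbedding.closure_eq_preimage_closure_image, Set.image_preimage_eq_inter_range,
      Set.image_singleton, Scheme.Hom.range_fiberι, hz]
  rw [((f.fiberι y).isEmbedding.homeomorphImage (closure ({a} : Set ↥(f.fiber y)))).isHomeomorph.topologicalKrullDim_eq,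
    (Homeomorph.setCongr himg).isHomeomorph.topologicalKrullDim_eq, FibDim.dim_closure_inter f z, hdim]
  have hgen : f (genericPoint X) ⤳ f z := hη ▸ (genericPoint_spec Y).specializes (Set.mem_univ _)
  have hsp : genericPoint X ⤳ z := (genericPoint_spec X).specializes (Set.mem_univ z)
  have hge : FibDim.rd f (genericPoint X) ≤ FibDim.rd f z := by
    have h1 := DimFormula.rd_le_of_specializes' f hsp
    rwa [(DimFormula.fb_eq_zero_iff f z).2 hfib, add_zero] at h1
  suffices hle : FibDim.rd f z ≤ FibDim.rd f (genericPoint X) by rw [le_antisymm hle hge]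
  by_cases heq : genericPoint X = z
  · rw [heq]
  have hpos : 1 ≤ DimFormula.cd (genericPoint X) z := Nat.one_le_iff_ne_zero.2 fun h =>
    heq ((DimFormula.cd_eq_zero_iff hsp).1 h)
  have hcod : DimFormula.codim (f z) ≤ 1 := by
    have h1 := le_iSup (fun w : Y => ((DimFormula.codim w : ℕ∞) : WithBot ℕ∞)) (f z)
    rw [← FibDim.topologicalKrullDim_eq_iSup_codim, hY] at h1
    exact_mod_cast h1
  have h1 := (DimFormula.cd_formula f hsp).1
  have h2 := DimFormula.cd_le_codim hgen
  omega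

theorem dimGood_field (k : Type u) [Field k] : DimFormula.DimGood (Spec (CommRingCat.of k)) := by
  haveI : Subsingleton ↥(Spec (CommRingCat.of k)) := inferInstanceAs (Subsingleton (PrimeSpectrum k))
  refine ⟨fun ζ η s _ _ _ => ?_, fun η s s' _ _ _ _ _ => ?_⟩
  · rw [Subsingleton.elim ζ s, Subsingleton.elim η s, DimFormula.cd_self]
  · rw [Subsingleton.elim s s']

/-- A point maximal in the zero locus of a function on an irreducible closed subset has codimension one. -/
theorem cd_le_one_of_maximal_zeroLocus [IsLocallyNoetherian X] (g : Γ(X, ⊤)) {η ξ : X} (hηξ : η ⤳ ξ)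
    (hξ : ξ ∈ X.zeroLocus ({g} : Set Γ(X, ⊤)))
    (hmax : ∀ z, η ⤳ z → z ⤳ ξ → z ∈ X.zeroLocus ({g} : Set Γ(X, ⊤)) → z = ξ) :
    DimFormula.cd η ξ ≤ 1 := by
  obtain ⟨U, hU, hξU, -⟩ := exists_isAffineOpen_mem_and_subset (x := ξ) (U := ⊤) trivial
  obtain ⟨P, rfl⟩ := VarDim.exists_fromSpec_eq hU hξU
  obtain ⟨Q, rfl⟩ := VarDim.exists_fromSpec_eq hU (hηξ.mem_open U.isOpen hξU)
  haveI : IsNoetherianRing Γ(X, U) := IsLocallyNoetherian.component_noetherian ⟨U, hU⟩
  have hQP : Q ≤ P := (VarDim.fromSpec_specializes_iff hU Q P).1 hηξ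
  let gU : Γ(X, U) := X.presheaf.map (homOfLE (le_top (a := U))).op g
  have key : ∀ R : PrimeSpectrum Γ(X, U),
      hU.fromSpec R ∈ X.zeroLocus ({g} : Set Γ(X, ⊤)) ↔ gU ∈ R.asIdeal := fun R => by
    have h1 : hU.fromSpec R ∈ X.basicOpen gU ↔ R ∈ PrimeSpectrum.basicOpen gU := by
      rw [← hU.fromSpec_preimage_basicOpen]
      rfl
    have h2 : hU.fromSpec R ∈ X.basicOpen gU ↔ hU.fromSpec R ∈ X.basicOpen g := by
      rw [Scheme.basicOpen_res]
      exact ⟨fun h => h.2, fun h => ⟨VarDim.fromSpec_mem hU R, h⟩⟩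
    rw [Scheme.mem_zeroLocus_iff]
    simp only [Set.mem_singleton_iff, forall_eq, ← h2, h1, PrimeSpectrum.mem_basicOpen, not_not]
  let μ := Ideal.Quotient.mk Q.asIdeal
  have hc : (P.asIdeal.map μ).comap μ = P.asIdeal := by
    rw [Ideal.comap_map_of_surjective _ Ideal.Quotient.mk_surjective, ← RingHom.ker_eq_comap_bot,
      Ideal.mk_ker, sup_eq_left.2 hQP]
  haveI hPp : (P.asIdeal.map μ).IsPrime :=
    Ideal.map_isPrime_of_surjective Ideal.Quotient.mk_surjective (by rw [Ideal.mk_ker]; exact hQP)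
  have hP : P.asIdeal.map μ ∈ (Ideal.span {μ gU}).minimalPrimes := by
    refine ⟨⟨hPp, Ideal.span_le.2 (Set.singleton_subset_iff.2 (Ideal.mem_map_of_mem μ ((key P).1 hξ)))⟩,
      fun J hJ hJP => ?_⟩
    haveI := hJ.1
    let R : PrimeSpectrum Γ(X, U) := ⟨J.comap μ, inferInstance⟩
    have hQR : Q ≤ R := fun a ha => by
      show μ a ∈ J
      rw [Ideal.Quotient.eq_zero_iff_mem.2 ha]
      exact zero_mem _
    have hRP : R ≤ P := (Ideal.comap_mono hJP).trans_eq hc
    have := hmax (hU.fromSpec R) ((VarDim.fromSpec_specializes_iff hU Q R).2 hQR)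
      ((VarDim.fromSpec_specializes_iff hU R P).2 hRP)
      ((key R).2 (show μ gU ∈ J from hJ.2 (Ideal.mem_span_singleton_self _)))
    have hRP' : J.comap μ = P.asIdeal :=
      congrArg PrimeSpectrum.asIdeal (hU.fromSpec.isOpenEmbedding.injective this)
    rw [← hRP', Ideal.map_comap_of_surjective _ Ideal.Quotient.mk_surjective]
  have h1 := Ideal.height_le_one_of_isPrincipal_of_mem_minimalPrimes (Ideal.span {μ gU}) _ hP
  rw [← LC.height_Ici_eq Q P hQP, DimFormula.cd_chart hU hQP] at h1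
  exact_mod_cast h1

/-- The zero locus of a function vanishing on no component. -/
theorem zeroLocus_dim (k : Type u) [Field k] (p : X ⟶ Spec (CommRingCat.of k))
    [LocallyOfFiniteType p] (f : Γ(X, ⊤)) (hY : interior (X.zeroLocus (U := ⊤) {f}) = ∅) :
    topologicalKrullDim (X.zeroLocus (U := ⊤) {f}) + 1 ≤ topologicalKrullDim X ∧
      ((∃ Z ∈ irreducibleComponents (X : Type u), topologicalKrullDim Z = topologicalKrullDim X) →
        (∀ Z ∈ irreducibleComponents (X : Type u), topologicalKrullDim Z = topologicalKrullDim X →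
          (Z ∩ X.zeroLocus (U := ⊤) {f}).Nonempty) →
        topologicalKrullDim (X.zeroLocus (U := ⊤) {f}) + 1 = topologicalKrullDim X) := by
  haveI : IsJacobsonRing k := inferInstance
  haveI := LocallyOfFiniteType.isLocallyNoetherian p
  haveI : JacobsonSpace ↥X := LocallyOfFiniteType.jacobsonSpace p
  obtain ⟨hX, -⟩ := DimFormula.dimGood_of_locallyOfFiniteType p (dimGood_field k)
    (DimFormula.isUniversallyCatenary_stalk_field k)
  set T := X.zeroLocus (U := ⊤) {f}
  have hTc : IsClosed T := X.zeroLocus_isClosed _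
  have hdT := hX.topologicalKrullDim_eq hTc
  have hdX : topologicalKrullDim X = ⨆ z : ↥(Set.univ : Set X), ((DimFormula.dd z.1 : ℕ∞) : WithBot ℕ∞) := by
    rw [← hX.topologicalKrullDim_eq isClosed_univ, (Homeomorph.Set.univ X).symm.isHomeomorph.topologicalKrullDim_eq]
  have hnot : ∀ η : X, (∀ z, z ⤳ η → z = η) → η ∉ T := fun η hη =>
    DimFormula.dense_mem_maximal hTc.isOpen_compl (interior_eq_empty_iff_dense_compl.1 hY) hη
  have hle : topologicalKrullDim T + 1 ≤ topologicalKrullDim X := by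
    rcases isEmpty_or_nonempty ↥T with hT | hT
    · rw [hdT, iSup_of_empty, WithBot.bot_add]
      exact bot_le
    rw [hdT, ← Nat.cast_one]
    refine iSup_nat_add_le (fun z : ↥T => DimFormula.dd z.1) 1 _ fun z => ?_
    obtain ⟨η, hηz, hmax⟩ := FibDim.exists_maximal_generization z.1
    have hpos : 1 ≤ DimFormula.cd η z.1 := Nat.one_le_iff_ne_zero.2 fun h =>
      hnot η hmax (((DimFormula.cd_eq_zero_iff hηz).1 h).symm ▸ z.2)
    rw [hdX]
    refine le_iSup_of_le ⟨η, trivial⟩ ?_
    rw [hX.dd_add hηz]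
    exact_mod_cast (show DimFormula.dd z.1 + 1 ≤ DimFormula.dd z.1 + DimFormula.cd η z.1 by omega)
  refine ⟨hle, fun ⟨Z, hZ, hZd⟩ hmeet => le_antisymm hle ?_⟩
  obtain ⟨y, hyZ, hyT⟩ := hmeet Z hZ hZd
  obtain ⟨η, rfl, hη⟩ := FDescent.exists_maximal_of_mem_irreducibleComponents hZ
  rw [hX.dim_closure] at hZd
  classical
  have hex : ∃ m, ∃ ζ : X, η ⤳ ζ ∧ ζ ∈ T ∧ DimFormula.codim ζ = m :=
    ⟨_, y, specializes_iff_mem_closure.2 hyZ, hyT, rfl⟩
  obtain ⟨ξ, hηξ, hξT, hξm⟩ := Nat.find_spec hex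
  have hcd := cd_le_one_of_maximal_zeroLocus f hηξ hξT fun z hηz hzξ hzT => by
    by_contra hne
    have h1 := DimFormula.codim_mono_add hzξ
    have h2 : 1 ≤ DimFormula.cd z ξ := Nat.one_le_iff_ne_zero.2 fun h =>
      hne ((DimFormula.cd_eq_zero_iff hzξ).1 h)
    have h3 := Nat.find_min' hex ⟨z, hηz, hzT, rfl⟩
    omega
  rw [← hZd, hX.dd_add hηξ]
  refine le_trans ?_ (add_le_add (hdT.ge.trans' (le_iSup_of_le ⟨ξ, hξT⟩ le_rfl)) le_rfl)
  exact_mod_cast (show DimFormula.dd ξ + DimFormula.cd η ξ ≤ DimFormula.dd ξ + 1 by omega)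

end Groth.Agent.Ega41H93
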