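import Mathlib
import Groth.Agent.S16234
import Groth.Agent.S4674
import Groth.Agent.LC.TopDim3
import Groth.Agent.LocalCrit.Complete

/-!
# Dimension theory of modules over semi-local Noetherian rings
-/

set_option autoImplicit false
set_option linter.style.haveILetI false

namespace Groth.Agent.Ega41H93

open Module PrimeSpectrum

universe u v w

variable {A : Type u} [CommRing A]

theorem supportDim_congr {M : Type v} [AddCommGroup M] [Module A M] {N : Type w} [AddCommGroup N] [Module A N]
    (h : Module.support A M = Module.support A N) : supportDim A M = supportDim A N := by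
  exact Order.krullDim_eq_of_orderIso (OrderIso.setCongr _ _ h)

theorem eq_of_add_one_eq {a : WithBot ℕ∞} {n : ℕ} (h : a + 1 = ((n + 1 : ℕ) : WithBot ℕ∞)) :
    a = (n : WithBot ℕ∞) := by
  induction a with
  | bot => rw [WithBot.bot_add] at h; exact absurd h.symm (WithBot.natCast_ne_bot _)
  | coe a =>
    have h2 : a + 1 = (n : ℕ∞) + 1 := by exact_mod_cast h
    rw [ENat.add_left_injective_of_ne_top ENat.one_ne_top h2]
    rfl

theorem exists_ringKrullDim_le_nat [IsNoetherianRing A] [Finite (MaximalSpectrum A)] :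
    ∃ n : ℕ, ringKrullDim A ≤ (n : WithBot ℕ∞) := by
  obtain ⟨n, hn⟩ := (Set.finite_range fun m : MaximalSpectrum A => m.asIdeal.height.toNat).bddAbove
  refine ⟨n, (ringKrullDim_le_iff_isMaximal_height_le _).2 fun m hm => ?_⟩
  have h1 : m.height.toNat ≤ n := hn (Set.mem_range_self (⟨m, hm⟩ : MaximalSpectrum A))
  have h2 : m.height = (m.height.toNat : ℕ∞) := (ENat.natCast_toNat (Ideal.height_ne_top hm.ne_top)).symm
  rw [h2]
  exact_mod_cast h1

theorem exists_supportDim_eq_nat' [IsNoetherianRing A] [Finite (MaximalSpectrum A)] (M : Type v) [AddCommGroup M]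
    [Module A M] [Nontrivial M] : ∃ D : ℕ, supportDim A M = (D : WithBot ℕ∞) := by
  obtain ⟨n, hn⟩ := exists_ringKrullDim_le_nat (A := A)
  have h1 : supportDim A M ≠ ⊥ := supportDim_ne_bot_of_nontrivial A M
  have h2 : supportDim A M ≤ (n : WithBot ℕ∞) := (supportDim_le_ringKrullDim A M).trans hn
  revert h1 h2
  generalize supportDim A M = a
  intro h1 h2
  induction a with
  | bot => exact absurd rfl h1
  | coe a =>
    have : a ≤ (n : ℕ∞) := by exact_mod_cast h2
    lift a to ℕ using (lt_of_le_of_lt this (ENat.natCast_lt_top n)).ne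
    exact ⟨a, rfl⟩

theorem ringKrullDim_quotient_le_supportDim {M : Type v} [AddCommGroup M] [Module A M]
    {p : PrimeSpectrum A} (hp : p ∈ Module.support A M) :
    ringKrullDim (A ⧸ p.asIdeal) ≤ supportDim A M := by
  rw [ringKrullDim_quotient]
  exact Order.krullDim_le_of_strictMono
    (fun x => ⟨x.1, mem_support_mono (show p ≤ x.1 from x.2) hp⟩) fun _ _ h => h

theorem le_ringKrullDim_quotient_head {M : Type v} [AddCommGroup M] [Module A M]
    (l : LTSeries (Module.support A M)) :
    (l.length : WithBot ℕ∞) ≤ ringKrullDim (A ⧸ l.head.1.asIdeal) := by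
  rw [ringKrullDim_quotient]
  exact le_iSup_of_le (α := WithBot ℕ∞) (LTSeries.mk l.length (fun i =>
    (⟨(l i).1, show l.head.1 ≤ (l i).1 from l.monotone (Fin.zero_le i)⟩ :
      PrimeSpectrum.zeroLocus (R := A) (l.head.1.asIdeal : Set A))) fun _ _ h => l.strictMono h) le_rfl

variable [IsNoetherianRing A]

/-- A prime of maximal dimension in the support is minimal. -/
theorem mem_minimalPrimes_annihilator {M : Type v} [AddCommGroup M] [Module A M] [Module.Finite A M]
    {p : PrimeSpectrum A} (hp : p ∈ Module.support A M) {D : ℕ} (hD : supportDim A M = D)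
    (h : ringKrullDim (A ⧸ p.asIdeal) = D) : p.asIdeal ∈ (Module.annihilator A M).minimalPrimes := by
  refine ⟨⟨p.isPrime, mem_support_iff_of_finite.1 hp⟩, fun J hJ hle => ?_⟩
  by_contra hne
  let q : PrimeSpectrum A := ⟨J, hJ.1⟩
  have hlt : q < p := lt_of_le_of_ne hle fun e => hne (e ▸ le_rfl)
  have hq : q ∈ Module.support A M := mem_support_iff_of_finite.2 hJ.2
  have h1 : ringKrullDim (A ⧸ q.asIdeal) ≤ D := hD ▸ ringKrullDim_quotient_le_supportDim hq
  rw [← Groth.Agent.LC.coheight_eq_ringKrullDim_quotient] at h h1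
  have h2 := (Order.coheight_add_one_le hlt).trans (WithBot.coe_le_coe.1 (h1.trans_eq (WithBot.coe_natCast _).symm))
  have h3 : Order.coheight p = (D : ℕ∞) := by exact_mod_cast h
  rw [h3] at h2
  have : D + 1 ≤ D := by exact_mod_cast h2
  omega

open scoped Pointwise in
theorem supportDim_quotSMulTop_succ_eq_iff' [Finite (MaximalSpectrum A)] (M : Type v) [AddCommGroup M]
    [Module A M] [Module.Finite A M] (x : A) (hx : x ∈ Ring.jacobson A) :
    supportDim A (QuotSMulTop x M) + 1 = supportDim A M ↔
      ∀ p : PrimeSpectrum A, p ∈ Module.support A M →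
        ringKrullDim (A ⧸ p.asIdeal) = supportDim A M → x ∉ p.asIdeal := by
  rcases subsingleton_or_nontrivial M with hM | hM
  · rw [supportDim_eq_bot_of_subsingleton A M, supportDim_eq_bot_of_subsingleton A (QuotSMulTop x M)]
    simp [Module.support_eq_empty]
  obtain ⟨D, hD⟩ := exists_supportDim_eq_nat' (A := A) M
  have hge := supportDim_le_supportDim_quotSMulTop_succ_of_mem_jacobson (M := M)
    ((Module.annihilator A M).ringJacobson_le_jacobson hx)
  constructor
  · intro h p hp hpd hxp
    have hp' : p ∈ Module.support A (QuotSMulTop x M) := by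
      rw [Module.support_quotSMulTop]
      exact ⟨hp, Set.singleton_subset_iff.2 hxp⟩
    have h1 := (ringKrullDim_quotient_le_supportDim hp')
    rw [hpd, hD] at h1
    rw [hD] at h
    have h2 : (D : WithBot ℕ∞) + 1 ≤ (D : WithBot ℕ∞) :=
      (add_le_add h1 le_rfl).trans h.le
    have : D + 1 ≤ D := by exact_mod_cast h2
    omega
  · intro h
    rcases subsingleton_or_nontrivial (QuotSMulTop x M) with hs | hs
    · exfalso
      rw [supportDim_eq_bot_of_subsingleton A (QuotSMulTop x M), hD] at hge
      simp at hge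
    obtain ⟨E, hE⟩ := exists_supportDim_eq_nat' (A := A) (QuotSMulTop x M)
    rw [hE, hD] at hge ⊢
    have h1 : D ≤ E + 1 := by exact_mod_cast hge
    suffices h2 : E + 1 ≤ D by exact_mod_cast (by omega : E + 1 = D)
    have hle : E ≤ D := by
      have := supportDim_le_of_surjective (x • (⊤ : Submodule A M)).mkQ (Submodule.mkQ_surjective _)
      rw [hD] at this
      exact_mod_cast hE ▸ this
    by_contra hcon
    have heq : E = D := by omega
    obtain ⟨l, hl⟩ := Order.le_krullDim_iff.1 (hE.ge : (E : WithBot ℕ∞) ≤ supportDim A (QuotSMulTop x M))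
    have hp := (Set.ext_iff.1 (Module.support_quotSMulTop (M := M) x) _).1 l.head.2
    refine h l.head.1 hp.1 (le_antisymm (ringKrullDim_quotient_le_supportDim hp.1) ?_)
      (Set.singleton_subset_iff.1 hp.2)
    rw [hD, ← heq, ← hl]
    exact le_ringKrullDim_quotient_head l

theorem le_supportDim_quot_ofList_add (xs : List A) (hxs : ∀ x ∈ xs, x ∈ Ring.jacobson A) :
    ∀ (M : Type v) [AddCommGroup M] [Module A M] [Module.Finite A M],
      supportDim A M ≤ supportDim A (M ⧸ (Ideal.ofList xs • (⊤ : Submodule A M))) + xs.length := by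
  induction xs with
  | nil =>
    intro M _ _ _
    refine le_of_eq ?_
    rw [List.length_nil, Nat.cast_zero, add_zero]
    exact (supportDim_eq_of_equiv (Submodule.quotEquivOfEqBot _ (by simp))).symm
  | cons x xs ih =>
    intro M _ _ _
    rw [supportDim_eq_of_equiv (Submodule.quotOfListConsSMulTopEquivQuotSMulTopInner M x xs)]
    refine (supportDim_le_supportDim_quotSMulTop_succ_of_mem_jacobson (x := x)
      ((Module.annihilator A M).ringJacobson_le_jacobson (hxs x List.mem_cons_self))).trans ?_
    refine (add_le_add (ih (fun y hy => hxs y (List.mem_cons_of_mem _ hy)) _) le_rfl).trans (le_of_eq ?_)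
    rw [List.length_cons, Nat.cast_add, Nat.cast_one, add_assoc]

theorem isFiniteLength_iff_supportDim_le_zero (M : Type v) [AddCommGroup M] [Module A M] [Module.Finite A M] :
    IsFiniteLength A M ↔ supportDim A M ≤ 0 := by
  rw [← Groth.Agent.S16234.result A M, supportDim, Order.krullDim_nonpos_iff_forall_isMax]
  constructor
  · intro h p q hpq
    exact le_of_eq (Subtype.ext (PrimeSpectrum.ext ((h _ p.2).eq_of_le q.1.isPrime.ne_top hpq).symm))
  · intro h p hp
    obtain ⟨m, hm, hle⟩ := Ideal.exists_le_maximal p.asIdeal p.isPrime.ne_top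
    let q : Module.support A M := ⟨⟨m, hm.isPrime⟩, mem_support_mono hle hp⟩
    have := h ⟨p, hp⟩ (show (⟨p, hp⟩ : Module.support A M) ≤ q from hle)
    have hpm : p.asIdeal = m := le_antisymm hle this
    exact hpm ▸ hm

omit [IsNoetherianRing A] in
/-- Prime avoidance inside the radical of a semi-local ring. -/
theorem exists_mem_jacobson_avoid [Finite (MaximalSpectrum A)] (a : Ideal A) (S : Set (Ideal A)) (hS : S.Finite)
    (hp : ∀ p ∈ S, p.IsPrime) (hmax : ∀ p ∈ S, ¬ p.IsMaximal) (ha : ∀ p ∈ S, ¬ a ≤ p) :
    ∃ x, x ∈ a ∧ x ∈ Ring.jacobson A ∧ ∀ p ∈ S, x ∉ p := by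
  classical
  by_contra hcon
  push Not at hcon
  have hsub : ((a ⊓ Ring.jacobson A : Ideal A) : Set A) ⊆ ⋃ p ∈ (↑hS.toFinset : Set (Ideal A)), id p := by
    intro x hx
    obtain ⟨p, hp', hxp⟩ := hcon x hx.1 hx.2
    exact Set.mem_biUnion (hS.mem_toFinset.2 hp') hxp
  obtain ⟨p, hpS, hle⟩ := (Ideal.subset_union_prime (f := id) ⊥ ⊥
    fun q hq _ _ => hp q (hS.mem_toFinset.1 hq)).1 hsub
  rw [Set.Finite.mem_toFinset] at hpS
  rcases (hp p hpS).inf_le.1 hle with h | h
  · exact ha p hpS h
  · cases nonempty_fintype (MaximalSpectrum A)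
    have hj : (Finset.univ.inf fun m : MaximalSpectrum A => m.asIdeal) ≤ Ring.jacobson A := by
      rw [Ring.jacobson_eq_sInf_isMaximal]
      exact le_sInf fun m hm => Finset.inf_le (f := fun m : MaximalSpectrum A => m.asIdeal)
        (Finset.mem_univ ⟨m, hm⟩)
    obtain ⟨m, -, hm⟩ := (hp p hpS).inf_le'.1 (hj.trans h)
    exact hmax p hpS (m.isMaximal.eq_of_le (hp p hpS).ne_top hm ▸ m.isMaximal)

/-- Systems of parameters of a module over a semi-local ring. -/
theorem exists_parameters [Finite (MaximalSpectrum A)] :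
    ∀ (D : ℕ) (M : Type v) [AddCommGroup M] [Module A M] [Module.Finite A M], supportDim A M = (D : WithBot ℕ∞) →
      ∃ ys : List A, (∀ y ∈ ys, y ∈ Ring.jacobson A) ∧ ys.length = D ∧
        IsFiniteLength A (M ⧸ (Ideal.ofList ys • (⊤ : Submodule A M))) := by
  intro D
  induction D with
  | zero =>
    intro M _ _ _ hD
    refine ⟨[], by simp, rfl, ?_⟩
    rw [isFiniteLength_iff_supportDim_le_zero,
      supportDim_eq_of_equiv (Submodule.quotEquivOfEqBot _ (by simp)), hD]
    simp
  | succ D ih =>
    intro M _ _ _ hD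
    let S : Set (Ideal A) := {p | p ∈ (Module.annihilator A M).minimalPrimes ∧ ¬ p.IsMaximal}
    obtain ⟨x, -, hx, hxS⟩ := exists_mem_jacobson_avoid ⊤ S
      ((Module.annihilator A M).finite_minimalPrimes_of_isNoetherianRing.subset fun _ h => h.1)
      (fun p hp => hp.1.1.1) (fun p hp => hp.2) (fun p hp h => hp.1.1.1.ne_top (eq_top_iff.2 h))
    have h1 := (supportDim_quotSMulTop_succ_eq_iff' M x hx).2 fun p hp hpd => by
      rw [hD] at hpd
      refine hxS p.asIdeal ⟨mem_minimalPrimes_annihilator hp hD hpd, fun hm => ?_⟩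
      haveI := hm
      letI := Ideal.Quotient.field p.asIdeal
      rw [ringKrullDim_eq_zero_of_field (A ⧸ p.asIdeal)] at hpd
      exact absurd hpd (by exact_mod_cast (Nat.succ_ne_zero D).symm)
    rw [hD] at h1
    have hD' : supportDim A (QuotSMulTop x M) = (D : WithBot ℕ∞) := eq_of_add_one_eq h1
    obtain ⟨ys, hys, hlen, hfl⟩ := ih _ hD'
    refine ⟨x :: ys, fun y hy => ?_, by simp [hlen], ?_⟩
    · rcases List.mem_cons.1 hy with rfl | hy
      exacts [hx, hys y hy]
    · rw [isFiniteLength_iff_supportDim_le_zero] at hfl ⊢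
      rwa [supportDim_eq_of_equiv (Submodule.quotOfListConsSMulTopEquivQuotSMulTopInner M x ys)]

omit [IsNoetherianRing A] in
theorem support_quot_ofList_append (M : Type v) [AddCommGroup M] [Module A M] [Module.Finite A M] (xs ys : List A) :
    Module.support A (M ⧸ (Ideal.ofList (xs ++ ys) • (⊤ : Submodule A M))) =
      Module.support A ((M ⧸ (Ideal.ofList xs • (⊤ : Submodule A M))) ⧸
        (Ideal.ofList ys • (⊤ : Submodule A (M ⧸ (Ideal.ofList xs • (⊤ : Submodule A M)))))) := by
  simp only [Module.support_quotient, Ideal.ofList_append, Set.inter_assoc,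
    PrimeSpectrum.zeroLocus_sup]

theorem supportDim_quot_eq_iff_parameters [Finite (MaximalSpectrum A)] (M : Type v) [AddCommGroup M] [Module A M]
    [Module.Finite A M] [Nontrivial M] (xs : List A) (hxs : ∀ x ∈ xs, x ∈ Ring.jacobson A) :
    supportDim A (M ⧸ (Ideal.ofList xs • (⊤ : Submodule A M))) + xs.length = supportDim A M ↔
      ∃ ys : List A, (∀ y ∈ ys, y ∈ Ring.jacobson A) ∧
        ((xs ++ ys).length : WithBot ℕ∞) = supportDim A M ∧
        IsFiniteLength A (M ⧸ (Ideal.ofList (xs ++ ys) • (⊤ : Submodule A M))) := by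
  let N := M ⧸ (Ideal.ofList xs • (⊤ : Submodule A M))
  have hfl : ∀ ys : List A, IsFiniteLength A (M ⧸ (Ideal.ofList (xs ++ ys) • (⊤ : Submodule A M))) ↔
      IsFiniteLength A (N ⧸ (Ideal.ofList ys • (⊤ : Submodule A N))) := fun ys => by
    rw [isFiniteLength_iff_supportDim_le_zero, isFiniteLength_iff_supportDim_le_zero,
      supportDim_congr (support_quot_ofList_append M xs ys)]
  constructor
  · intro h
    haveI : Nontrivial N := by
      by_contra hN
      rw [not_nontrivial_iff_subsingleton] at hN
      rw [supportDim_eq_bot_of_subsingleton A N] at h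
      exact supportDim_ne_bot_of_nontrivial A M (by simpa using h.symm)
    obtain ⟨E, hE⟩ := exists_supportDim_eq_nat' (A := A) N
    obtain ⟨ys, hys, hlen, hf⟩ := exists_parameters E N hE
    refine ⟨ys, hys, ?_, (hfl ys).2 hf⟩
    rw [← h, hE, List.length_append, hlen, Nat.cast_add, add_comm]
  · rintro ⟨ys, hys, hlen, hf⟩
    refine le_antisymm ?_ (le_supportDim_quot_ofList_add xs hxs M)
    rw [hfl, isFiniteLength_iff_supportDim_le_zero] at hf
    have h1 := (le_supportDim_quot_ofList_add ys hys N).trans (add_le_add hf le_rfl)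
    rw [zero_add] at h1
    refine (add_le_add h1 le_rfl).trans (le_of_eq ?_)
    rw [← hlen, List.length_append, Nat.cast_add, add_comm]

/-- Elements of an ideal of positive height which are part of a system of parameters. -/
theorem exists_parameters_in_ideal [Finite (MaximalSpectrum A)] (a : Ideal A) (P : Ideal A) [P.IsPrime]
    (haP : a ≤ P) (hP : a.height = P.height) (D : ℕ) (hD : ringKrullDim A = D) :
    ∀ i : ℕ, (i : ℕ∞) ≤ P.height → ∃ xs : List A, xs.length = i ∧ (∀ x ∈ xs, x ∈ a ∧ x ∈ Ring.jacobson A) ∧
      supportDim A (A ⧸ (Ideal.ofList xs • (⊤ : Submodule A A))) + xs.length = D ∧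
      ∀ q ∈ (Ideal.ofList xs).minimalPrimes, q ≤ P → (i : ℕ∞) ≤ q.height := by
  intro i
  induction i with
  | zero =>
    intro _
    refine ⟨[], rfl, by simp, ?_, fun q _ _ => by simp⟩
    rw [List.length_nil, Nat.cast_zero, add_zero,
      supportDim_eq_of_equiv (Submodule.quotEquivOfEqBot _ (by simp)), supportDim_self_eq_ringKrullDim, hD]
  | succ i ih =>
    intro hi
    have hi' : (i : ℕ∞) < P.height := lt_of_lt_of_le (by exact_mod_cast Nat.lt_succ_self i) hi
    obtain ⟨xs, hlen, hmem, hdim, hmin⟩ := ih hi'.le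
    set J := Ideal.ofList xs with hJ
    let S : Set (Ideal A) := {q | q ∈ J.minimalPrimes ∧ ¬ q.IsMaximal}
    have hJP : J ≤ P := Ideal.span_le.2 fun x hx => haP (hmem x hx).1
    have hht : ∀ q ∈ J.minimalPrimes, q.height ≤ (i : ℕ∞) := fun q hq => by
      classical
      refine (Ideal.height_le_card_of_mem_minimalPrimes_span_finset (s := xs.toFinset) ?_).trans ?_
      · have : Ideal.span (xs.toFinset : Set A) = J := by simp [hJ, Ideal.ofList]
        rwa [this]
      · exact_mod_cast (List.toFinset_card_le xs).trans hlen.le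
    obtain ⟨x, hxa, hxj, hxS⟩ := exists_mem_jacobson_avoid a S
      (J.finite_minimalPrimes_of_isNoetherianRing.subset fun _ h => h.1)
      (fun q hq => hq.1.1.1) (fun q hq => hq.2)
      (fun q hq h => absurd (((hP ▸ Ideal.height_mono h).trans (hht q hq.1))) (not_le.2 hi'))
    refine ⟨xs ++ [x], by simp [hlen], fun y hy => ?_, ?_, fun q hq hqP => ?_⟩
    · rcases List.mem_append.1 hy with hy | hy
      exacts [hmem y hy, by rw [List.mem_singleton.1 hy]; exact ⟨hxa, hxj⟩]
    · let N := A ⧸ (J • (⊤ : Submodule A A))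
      have hsupp : Module.support A N = PrimeSpectrum.zeroLocus (J : Set A) := by
        rw [Module.support_quotient, Module.support_eq_zeroLocus, Set.inter_eq_right]
        exact PrimeSpectrum.zeroLocus_anti_mono_ideal (by
          intro r hr
          have := Module.mem_annihilator.1 hr (1 : A)
          simp only [smul_eq_mul, mul_one] at this
          simp [this])
      have hann : ∀ q : Ideal A, q ∈ (Module.annihilator A N).minimalPrimes → q ∈ J.minimalPrimes := by
        have e : (Module.annihilator A N).radical = J.radical := by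
          rw [← PrimeSpectrum.vanishingIdeal_zeroLocus_eq_radical,
            ← PrimeSpectrum.vanishingIdeal_zeroLocus_eq_radical, ← Module.support_eq_zeroLocus, hsupp]
        intro q hq
        rw [← Ideal.radical_minimalPrimes, e, Ideal.radical_minimalPrimes] at hq
        exact hq
      haveI : Nontrivial N := by
        rw [← not_subsingleton_iff_nontrivial, ← Module.support_eq_empty_iff (R := A), hsupp]
        exact fun h => Set.eq_empty_iff_forall_notMem.1 h ⟨P, ‹_›⟩ hJP
      obtain ⟨E, hE⟩ := exists_supportDim_eq_nat' (A := A) N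
      have hiE : E + i = D := by
        have : supportDim A N + (i : WithBot ℕ∞) = D := hlen ▸ hdim
        rw [hE] at this
        exact_mod_cast this
      have hiD : i < D := by
        have h1 : ((P.height : ℕ∞) : WithBot ℕ∞) ≤ (D : WithBot ℕ∞) :=
          hD ▸ Ideal.height_le_ringKrullDim_of_ne_top Ideal.IsPrime.ne_top'
        have h2 : (i : ℕ∞) < (D : ℕ∞) := lt_of_lt_of_le hi' (by exact_mod_cast h1)
        exact_mod_cast h2
      have h1 := (supportDim_quotSMulTop_succ_eq_iff' N x hxj).2 fun p hp hpd => by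
        rw [hE] at hpd
        refine hxS p.asIdeal ⟨hann _ (mem_minimalPrimes_annihilator hp hE hpd), fun hm => ?_⟩
        haveI := hm
        letI := Ideal.Quotient.field p.asIdeal
        rw [ringKrullDim_eq_zero_of_field (A ⧸ p.asIdeal)] at hpd
        exact absurd hpd (by exact_mod_cast (show (0 : ℕ) ≠ E by omega))
      have hs : supportDim A (A ⧸ (Ideal.ofList (xs ++ [x]) • (⊤ : Submodule A A))) =
          supportDim A (QuotSMulTop x N) := by
        refine (supportDim_congr (support_quot_ofList_append A xs [x])).trans (supportDim_congr ?_)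
        rw [Module.support_quotient, Module.support_quotSMulTop, Ideal.ofList_singleton,
          PrimeSpectrum.zeroLocus_span]
      rw [hs, List.length_append, List.length_singleton, hlen, Nat.cast_add, Nat.cast_one,
        add_comm (i : WithBot ℕ∞) 1, ← add_assoc, h1]
      exact hlen ▸ hdim
    · haveI := hq.1.1
      have hqJ : J ≤ q := le_trans (by rw [Ideal.ofList_append]; exact le_sup_left) hq.1.2
      obtain ⟨q', hq', hle⟩ := Ideal.exists_minimalPrimes_le hqJ
      haveI := hq'.1.1
      have hxq : x ∈ q := hq.1.2 (Ideal.subset_span (by simp))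
      have hlt : q' < q := lt_of_le_of_ne hle fun e => by
        refine hxS q' ⟨hq', fun hm => ?_⟩ (e ▸ hxq)
        exact absurd ((hm.eq_of_le Ideal.IsPrime.ne_top' (hle.trans hqP)) ▸ hht q' hq') (not_le.2 hi')
      calc ((i + 1 : ℕ) : ℕ∞) ≤ q'.height + 1 := by
            rw [Nat.cast_add, Nat.cast_one]
            exact add_le_add (hmin q' hq' (hle.trans hqP)) le_rfl
        _ ≤ q.height := Ideal.height_add_one_le_of_lt_of_isPrime hlt

/-- Dimension is preserved by a flat map which is a bijection on maximal ideals with reduced fibres. -/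
theorem ringKrullDim_eq_of_flat_of_maximal {B : Type v} [CommRing B] [IsNoetherianRing B] [Algebra A B]
    [Module.Flat A B] (h1 : ∀ m : Ideal A, m.IsMaximal → (m.map (algebraMap A B)).IsMaximal)
    (h2 : ∀ M : Ideal B, M.IsMaximal → (M.comap (algebraMap A B)).IsMaximal) :
    ringKrullDim B = ringKrullDim A := by
  have key : ∀ M : Ideal B, M.IsMaximal → M.height = (M.comap (algebraMap A B)).height := fun M hM => by
    haveI := h2 M hM
    haveI := hM.isPrime
    haveI : M.LiesOver (M.comap (algebraMap A B)) := ⟨rfl⟩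
    have hmap : (M.comap (algebraMap A B)).map (algebraMap A B) = M :=
      (h1 _ inferInstance).eq_of_le hM.ne_top Ideal.map_comap_le
    haveI : Nontrivial (B ⧸ (M.comap (algebraMap A B)).map (algebraMap A B)) :=
      Ideal.Quotient.nontrivial_iff.2 (hmap.symm ▸ hM.ne_top)
    have h := Ideal.height_eq_height_add_of_liesOver_of_hasGoingDown (M.comap (algebraMap A B)) M
    conv_rhs at h => rw [hmap, Ideal.map_quotient_self]
    rw [h, Ideal.height_bot, add_zero]
  refine le_antisymm ((ringKrullDim_le_iff_isMaximal_height_le _).2 fun M hM => ?_)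
    ((ringKrullDim_le_iff_isMaximal_height_le _).2 fun m hm => ?_)
  · haveI := (h2 M hM).isPrime
    rw [key M hM]
    exact Ideal.height_le_ringKrullDim_of_isPrime
  · haveI := (h1 m hm).isPrime
    have : m = (m.map (algebraMap A B)).comap (algebraMap A B) :=
      hm.eq_of_le (h2 _ (h1 m hm)).ne_top Ideal.le_comap_map
    rw [this, ← key _ (h1 m hm)]
    exact Ideal.height_le_ringKrullDim_of_isPrime

open TensorProduct in
/-- The dimension of the completion of a module along the radical. -/
theorem supportDim_adicCompletion (I : Ideal A) (hI : I ≤ Ring.jacobson A) (M : Type u) [AddCommGroup M]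
    [Module A M] [Module.Finite A M] :
    supportDim (AdicCompletion I A) (AdicCompletion I M) = supportDim A M := by
  let B := AdicCompletion I A
  have hfg : I.FG := IsNoetherian.noetherian I
  haveI := AdicCompletion.isAdicComplete_self I hfg
  haveI : Module.Flat A B := AdicCompletion.flat_of_isNoetherian I
  have eq : RingHom.ker (AdicCompletion.evalOneₐ I).toRingHom = I.map (algebraMap A B) :=
    AdicCompletion.ker_evalOneₐ_eq_map I hfg
  haveI : IsNoetherianRing (B ⧸ I.map (algebraMap A B)) := by
    have e : (B ⧸ I.map (algebraMap A B)) ≃+* (A ⧸ I) :=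
      (Ideal.quotEquivOfEq eq.symm).trans
        (RingHom.quotientKerEquivOfSurjective (f := (AdicCompletion.evalOneₐ I).toRingHom)
          (AdicCompletion.evalOneₐ_surjective I))
    exact isNoetherianRing_of_ringEquiv _ e.symm
  haveI : IsNoetherianRing B :=
    Groth.Agent.LocalCrit.isNoetherianRing_of_isAdicComplete (I.map (algebraMap A B)) (hfg.map _)
  have hIm : ∀ m : Ideal A, m.IsMaximal → I ≤ m := fun m hm =>
    hI.trans (by rw [Ring.jacobson_eq_sInf_isMaximal]; exact sInf_le hm)
  have h1 : ∀ m : Ideal A, m.IsMaximal → (m.map (algebraMap A B)).IsMaximal := fun m hm => by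
    haveI := hm
    exact AdicCompletion.isMaximal_map_of_le I m (hIm m hm) hfg
  have h2 : ∀ N : Ideal B, N.IsMaximal → (N.comap (algebraMap A B)).IsMaximal := fun N hN => by
    have hker : RingHom.ker (AdicCompletion.evalOneₐ I).toRingHom ≤ N :=
      eq.trans_le ((IsAdicComplete.le_jacobson_bot (I.map (algebraMap A B))).trans
        (sInf_le ⟨bot_le, hN⟩))
    have hsurj : Function.Surjective (AdicCompletion.evalOneₐ I).toRingHom :=
      AdicCompletion.evalOneₐ_surjective I
    have hN' : (N.map (AdicCompletion.evalOneₐ I).toRingHom).IsMaximal :=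
      (Ideal.map_eq_top_or_isMaximal_of_surjective _ hsurj hN).resolve_left fun h => hN.ne_top (by
        rw [← sup_eq_left.2 hker, RingHom.ker_eq_comap_bot, ← Ideal.comap_map_of_surjective _ hsurj, h, Ideal.comap_top])
    haveI := hN'
    have hc : N = (N.map (AdicCompletion.evalOneₐ I).toRingHom).comap (AdicCompletion.evalOneₐ I).toRingHom := by
      rw [Ideal.comap_map_of_surjective _ hsurj]
      exact (sup_eq_left.2 hker).symm
    rw [hc, Ideal.comap_comap, AdicCompletion.evalOneₐ_comp_algebraMap_eq_mk]
    exact Ideal.comap_isMaximal_of_surjective _ Ideal.Quotient.mk_surjective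
  rw [← supportDim_eq_of_equiv (AdicCompletion.ofTensorProductEquivOfFiniteNoetherian I M)]
  haveI : Module.FinitePresentation A M := Module.finitePresentation_of_finite A M
  rw [supportDim_eq_ringKrullDim_quotient_annihilator, supportDim_eq_ringKrullDim_quotient_annihilator,
    Groth.Agent.S4674.result M]
  set J := Module.annihilator A M with hJ
  let C := B ⧸ J.map (algebraMap A B)
  haveI : Module.Flat (A ⧸ J) C :=
    Module.Flat.of_linearEquiv (R := A ⧸ J) (M := (A ⧸ J) ⊗[A] B)
      (Algebra.TensorProduct.quotIdealMapEquivQuotTensor B J).toLinearEquiv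
  refine ringKrullDim_eq_of_flat_of_maximal (A := A ⧸ J) (B := C) (fun m hm => ?_) (fun N hN => ?_)
  · have hm' : (m.comap (Ideal.Quotient.mk J)).IsMaximal :=
      Ideal.comap_isMaximal_of_surjective _ Ideal.Quotient.mk_surjective
    have hle : J ≤ m.comap (Ideal.Quotient.mk J) := fun r hr => by
      simp [Ideal.Quotient.eq_zero_iff_mem.2 hr]
    have e : m.map (algebraMap (A ⧸ J) C) =
        ((m.comap (Ideal.Quotient.mk J)).map (algebraMap A B)).map (Ideal.Quotient.mk (J.map (algebraMap A B))) := by
      rw [Ideal.map_map]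
      conv_lhs => rw [← Ideal.map_comap_of_surjective _ Ideal.Quotient.mk_surjective m, Ideal.map_map]
      rfl
    rw [e]
    refine (Ideal.map_eq_top_or_isMaximal_of_surjective _ Ideal.Quotient.mk_surjective
      (h1 _ hm')).resolve_left fun h => (h1 _ hm').ne_top ?_
    have hk : RingHom.ker (Ideal.Quotient.mk (J.map (algebraMap A B))) ≤ (m.comap (Ideal.Quotient.mk J)).map (algebraMap A B) := by
      rw [Ideal.mk_ker]
      exact Ideal.map_mono hle
    rw [← sup_eq_left.2 hk, RingHom.ker_eq_comap_bot,
      ← Ideal.comap_map_of_surjective _ Ideal.Quotient.mk_surjective, h, Ideal.comap_top]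
  · have hN' := h2 _ (Ideal.comap_isMaximal_of_surjective (Ideal.Quotient.mk (J.map (algebraMap A B)))
      Ideal.Quotient.mk_surjective (K := N))
    have e : N.comap (algebraMap (A ⧸ J) C) =
        (((N.comap (Ideal.Quotient.mk (J.map (algebraMap A B)))).comap (algebraMap A B))).map
          (Ideal.Quotient.mk J) := by
      conv_lhs => rw [← Ideal.map_comap_of_surjective _ Ideal.Quotient.mk_surjective (N.comap (algebraMap (A ⧸ J) C))]
      rfl
    rw [e]
    refine (Ideal.map_eq_top_or_isMaximal_of_surjective _ Ideal.Quotient.mk_surjective hN').resolve_left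
      fun h => ?_
    rw [← e, Ideal.comap_eq_top_iff] at h
    exact hN.ne_top h

end Groth.Agent.Ega41H93
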