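import Groth.Agent.FormCat.Equidim
import Groth.Agent.Ega41H93.NoEmbFibre
import Groth.Agent.Ega41H93.FormStrict
import Groth.Agent.S2638

/-!
# Strict formal catenarity of algebras essentially of finite type
-/

set_option autoImplicit false
set_option linter.style.haveILetI false

open IsLocalRing Order TensorProduct

namespace Groth.Agent.Ega41H93

universe u

open FormCat DimFormula

section Gen

variable {T T' B : Type u} [CommRing T] [CommRing T'] [Algebra T T'] [CommRing B] [IsLocalRing B] [Algebra T B]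

/-- A flat local extension of a ring of fractions of a quotient, at a prime of a flat extension. -/
theorem exists_flat_local_ker [Module.Flat T T'] [IsNoetherianRing T'] (hφ : IsFracs (algebraMap T B))
    (P' : PrimeSpectrum T') (hPP : P'.asIdeal.under T = (cp (algebraMap T B)).asIdeal) :
    ∃ (B' : Type u) (_ : CommRing B') (_ : IsLocalRing B') (_ : IsNoetherianRing B') (_ : Algebra B B')
      (_ : IsLocalHom (algebraMap B B')) (_ : Module.Flat B B') (χ : T' →+* B'),
      IsFracs χ ∧ cp χ = P' ∧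
      (∀ t : T, χ (algebraMap T T' t) = algebraMap B B' (algebraMap T B t)) ∧
      (∀ J : PrimeSpectrum T', J ≤ P' → (RingHom.ker (algebraMap T B)).map (algebraMap T T') ≤ J.asIdeal →
        ∃ x : PrimeSpectrum B', PrimeSpectrum.comap χ x = J) ∧
      (∀ t : T', χ t = 0 → ∃ u : T', u ∉ P'.asIdeal ∧ u * t ∈ (RingHom.ker (algebraMap T B)).map (algebraMap T T')) ∧
      ∃ ι : Localization.AtPrime P'.asIdeal →+* B', Function.Surjective ι := by
  let φ := algebraMap T B
  let P := cp φ
  let L := Localization.AtPrime P'.asIdeal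
  haveI : Module.Flat T L := Module.Flat.trans T T' L
  let B' := B ⊗[T] L
  let ι : L →+* B' := (Algebra.TensorProduct.includeRight (R := T) (A := B) (B := L)).toRingHom
  let χ : T' →+* B' := ι.comp (algebraMap T' L)
  have hχT : ∀ t : T, χ (algebraMap T T' t) = algebraMap B B' (φ t) := fun t => by
    show (1 : B) ⊗ₜ[T] algebraMap T' L (algebraMap T T' t) = φ t ⊗ₜ[T] (1 : L)
    rw [← IsScalarTower.algebraMap_apply, Algebra.algebraMap_eq_smul_one, ← TensorProduct.smul_tmul]
    show (t • (1 : B)) ⊗ₜ[T] _ = _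
    rw [← Algebra.algebraMap_eq_smul_one]
  have hunit : ∀ s : T, IsUnit (φ s) → IsUnit (algebraMap T' L (algebraMap T T' s)) := fun s hs =>
    IsLocalization.map_units L (⟨_, fun hmem => (isUnit_iff_notMem (φ := φ) s).1 hs
      (hPP ▸ (Ideal.mem_comap.2 hmem : s ∈ P'.asIdeal.under T))⟩ : P'.asIdeal.primeCompl)
  have hι : Function.Surjective ι := fun w => by
    induction w using TensorProduct.induction_on with
    | zero => exact ⟨0, map_zero _⟩
    | add a b ha hb =>
      obtain ⟨⟨x, rfl⟩, ⟨y, rfl⟩⟩ := ha, hb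
      exact ⟨x + y, map_add _ _ _⟩
    | tmul b l =>
      obtain ⟨r, s, hs, he⟩ := hφ b
      obtain ⟨u, hu⟩ := hunit s hs
      refine ⟨algebraMap T' L (algebraMap T T' r) * ↑u⁻¹ * l, ?_⟩
      have h1 : χ (algebraMap T T' r) = (b ⊗ₜ[T] (1 : L)) * χ (algebraMap T T' s) := by
        rw [hχT, hχT]
        show φ r ⊗ₜ[T] (1 : L) = _ * (φ s ⊗ₜ[T] (1 : L))
        rw [Algebra.TensorProduct.tmul_mul_tmul, mul_one, he]
      rw [map_mul, map_mul]
      show χ (algebraMap T T' r) * _ * _ = _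
      rw [h1, mul_assoc (b ⊗ₜ[T] (1 : L))]
      show _ * (ι (algebraMap T' L (algebraMap T T' s)) * ι ↑u⁻¹) * ι l = _
      rw [← hu, ← map_mul, Units.mul_inv, map_one, mul_one]
      show (b ⊗ₜ[T] (1 : L)) * ((1 : B) ⊗ₜ[T] l) = _
      rw [Algebra.TensorProduct.tmul_mul_tmul, mul_one, one_mul]
  -- points of `B'`
  have hpts : ∀ J : PrimeSpectrum T', J ≤ P' → (RingHom.ker φ).map (algebraMap T T') ≤ J.asIdeal →
      (∀ s : T, IsUnit (φ s) → algebraMap T T' s ∉ J.asIdeal) →
      ∃ x : PrimeSpectrum B', PrimeSpectrum.comap χ x = J := by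
    intro J hJP hJI hJs
    let Z := FractionRing (T' ⧸ J.asIdeal)
    let g : T' →+* Z := algebraMap T' Z
    have hg : ∀ a, g a = 0 ↔ a ∈ J.asIdeal := fun a => by
      rw [show g a = algebraMap (T' ⧸ J.asIdeal) Z (algebraMap T' (T' ⧸ J.asIdeal) a) from
        IsScalarTower.algebraMap_apply .., IsFractionRing.to_map_eq_zero_iff, Ideal.Quotient.algebraMap_eq,
        Ideal.Quotient.eq_zero_iff_mem]
    let gL : L →+* Z := IsLocalization.lift (M := P'.asIdeal.primeCompl) (g := g) fun s =>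
      isUnit_iff_ne_zero.2 fun h0 => s.2 (hJP ((hg _).1 h0))
    obtain ⟨gB, hgB⟩ := hφ.exists_lift (g.comp (algebraMap T T'))
      (fun a ha => (hg _).2 (hJI (Ideal.mem_map_of_mem _ ha)))
      (fun s hs => isUnit_iff_ne_zero.2 fun h0 => hJs s hs ((hg _).1 h0))
    let aL : L →ₐ[T] Z :=
      { gL with
        commutes' := fun t => by
          show gL (algebraMap T L t) = algebraMap T Z t
          rw [IsScalarTower.algebraMap_apply T T' L, IsScalarTower.algebraMap_apply T T' Z]
          exact IsLocalization.lift_eq _ _ }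
    let aB : B →ₐ[T] Z :=
      { gB with
        commutes' := fun t => (RingHom.congr_fun hgB t).trans (IsScalarTower.algebraMap_apply T T' Z t).symm }
    let w : B' →ₐ[T] Z := Algebra.TensorProduct.lift aB aL fun x y => mul_comm (aB x) (aL y)
    refine ⟨⟨RingHom.ker w.toRingHom, RingHom.ker_isPrime _⟩, PrimeSpectrum.ext ?_⟩
    ext a
    show w ((1 : B) ⊗ₜ[T] algebraMap T' L a) = 0 ↔ _
    rw [show w ((1 : B) ⊗ₜ[T] algebraMap T' L a) = aB 1 * aL (algebraMap T' L a) from
      Algebra.TensorProduct.lift_tmul aB aL (fun x y => mul_comm (aB x) (aL y)) 1 (algebraMap T' L a),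
      map_one, one_mul]
    show gL (algebraMap T' L a) = 0 ↔ _
    rw [IsLocalization.lift_eq, hg]
  have hP's : ∀ J : PrimeSpectrum T', J ≤ P' → ∀ s : T, IsUnit (φ s) → algebraMap T T' s ∉ J.asIdeal :=
    fun J hJ s hs hmem => (isUnit_iff_notMem (φ := φ) s).1 hs
      (hPP ▸ (Ideal.mem_comap.2 (hJ hmem) : s ∈ P'.asIdeal.under T))
  have hkP : (RingHom.ker φ).map (algebraMap T T') ≤ P'.asIdeal := Ideal.map_le_iff_le_comap.2
    ((Ideal.ker_le_comap φ).trans hPP.ge)
  obtain ⟨x₀, hx₀⟩ := hpts P' le_rfl hkP (hP's P' le_rfl)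
  haveI : Nontrivial B' := ⟨⟨1, 0, fun h10 => x₀.2.ne_top ((Ideal.eq_top_iff_one _).2 (h10 ▸ zero_mem _))⟩⟩
  haveI : IsLocalRing B' := .of_surjective' ι hι
  have hχ : IsFracs χ := fun w => by
    obtain ⟨l, rfl⟩ := hι w
    obtain ⟨r, s, rfl⟩ := IsLocalization.exists_mk'_eq P'.asIdeal.primeCompl l
    refine ⟨r, s, (IsLocalization.map_units L s).map ι, ?_⟩
    show ι _ * ι _ = ι _
    rw [← map_mul, IsLocalization.mk'_spec]
  have hcp : cp χ = P' := by
    refine le_antisymm (fun s hs => ?_) (le_of_eq_of_le hx₀.symm (comap_le_cp x₀))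
    by_contra hns
    exact (isUnit_iff_notMem (φ := χ) s).1
      ((IsLocalization.map_units L (⟨s, hns⟩ : P'.asIdeal.primeCompl)).map ι) hs
  haveI := hχ.isNoetherianRing
  -- the flat local map
  haveI : IsLocalHom (algebraMap B B') := by
    refine ((local_hom_TFAE (algebraMap B B')).out 0 2).2 ?_
    rw [Ideal.map_le_iff_le_comap]
    intro b hb
    obtain ⟨r, s, hs, he⟩ := hφ b
    have hr : r ∈ P.asIdeal := Ideal.mem_comap.2 (he ▸ Ideal.mul_mem_right _ _ hb)
    have hr' : algebraMap T T' r ∈ (cp χ).asIdeal := by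
      rw [hcp]
      exact Ideal.mem_comap.1 (hPP.ge hr)
    show algebraMap B B' b ∈ maximalIdeal B'
    refine (Ideal.mul_unit_mem_iff_mem _ (hs.map (algebraMap B B'))).1 ?_
    rw [← map_mul, he, ← hχT]
    exact hr'
  -- the kernel
  have hkerχ : ∀ t : T', χ t = 0 → ∃ u : T', u ∉ P'.asIdeal ∧ u * t ∈ (RingHom.ker φ).map (algebraMap T T') := by
    intro t ht
    let I₀ : Ideal T' := (RingHom.ker φ).map (algebraMap T T')
    let I : Ideal L := I₀.map (algebraMap T' L)
    obtain ⟨gB, hgB⟩ := hφ.exists_lift (algebraMap T (L ⧸ I))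
      (fun a ha => by
        rw [RingHom.mem_ker, IsScalarTower.algebraMap_apply T L (L ⧸ I), IsScalarTower.algebraMap_apply T T' L,
          Ideal.Quotient.algebraMap_eq, Ideal.Quotient.eq_zero_iff_mem]
        exact Ideal.mem_map_of_mem _ (Ideal.mem_map_of_mem _ ha))
      (fun s hs => by
        rw [IsScalarTower.algebraMap_apply T L (L ⧸ I), IsScalarTower.algebraMap_apply T T' L]
        exact (hunit s hs).map _)
    let aB : B →ₐ[T] L ⧸ I := { gB with commutes' := fun t => RingHom.congr_fun hgB t }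
    let w : B' →ₐ[T] L ⧸ I :=
      Algebra.TensorProduct.lift aB (IsScalarTower.toAlgHom T L (L ⧸ I)) fun x y => mul_comm _ _
    have h0 : w ((1 : B) ⊗ₜ[T] algebraMap T' L t) = 0 := by
      rw [show (1 : B) ⊗ₜ[T] algebraMap T' L t = (0 : B') from ht, map_zero]
    rw [show w ((1 : B) ⊗ₜ[T] algebraMap T' L t) = aB 1 * algebraMap L (L ⧸ I) (algebraMap T' L t) from
      Algebra.TensorProduct.lift_tmul aB (IsScalarTower.toAlgHom T L (L ⧸ I)) (fun x y => mul_comm _ _) 1 _,
      map_one, one_mul, Ideal.Quotient.algebraMap_eq, Ideal.Quotient.eq_zero_iff_mem,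
      IsLocalization.algebraMap_mem_map_algebraMap_iff P'.asIdeal.primeCompl] at h0
    obtain ⟨u, hu, hut⟩ := h0
    exact ⟨u, hu, hut⟩
  exact ⟨B', inferInstance, inferInstance, inferInstance, inferInstance, inferInstance, inferInstance, χ, hχ, hcp,
    hχT, fun J hJ hI => hpts J hJ hI (hP's J hJ), hkerχ, ι, hι⟩

end Gen

/-- Strict equidimensionality of the completion descends along flat local maps with zero-dimensional fibre. -/
theorem isStrictlyEquidim_cpl_of_flat (B B' : Type u) [CommRing B] [CommRing B'] [IsNoetherianRing B]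
    [IsNoetherianRing B'] [IsLocalRing B] [IsLocalRing B'] [Algebra B B'] [IsLocalHom (algebraMap B B')]
    [Module.Flat B B']
    (hfib : ∀ K : Ideal B', K.IsPrime → (maximalIdeal B).map (algebraMap B B') ≤ K → maximalIdeal B' ≤ K)
    (hdim : ringKrullDim B' = ringKrullDim B) (h : EGA4.IsStrictlyEquidim (EGA4.Cpl B')) :
    EGA4.IsStrictlyEquidim (EGA4.Cpl B) := by
  obtain ⟨_, _, hff⟩ := FlatLoc6.exists_cplHom B B'
  haveI := hff
  haveI := FlatLoc6.isLocalRing_cpl B
  haveI := FlatLoc6.isLocalRing_cpl B'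
  haveI := FlatLoc6.isNoetherianRing_cpl B
  haveI := FlatLoc6.isNoetherianRing_cpl B'
  let Bh := EGA4.Cpl B
  let Bh' := EGA4.Cpl B'
  intro Q₀ hQ₀
  haveI := hQ₀.isPrime
  let Q : PrimeSpectrum Bh := ⟨Q₀, inferInstance⟩
  rw [show ringKrullDim Bh = ringKrullDim B from S0547.result B]
  refine le_antisymm ((ringKrullDim_quotient_le Q₀).trans (S0547.result B).le) ?_
  haveI : Nontrivial (Bh' ⧸ Q₀.map (algebraMap Bh Bh') • (⊤ : Submodule Bh' Bh')) := by
    rw [Submodule.Quotient.nontrivial_iff, smul_eq_mul, Ideal.mul_top]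
    intro h1
    have h2 := Ideal.comap_map_eq_self_of_faithfullyFlat (A := Bh) (B := Bh') Q₀
    rw [h1, Ideal.comap_top] at h2
    exact hQ₀.isPrime.ne_top h2.symm
  obtain ⟨Q'', hQ''⟩ := associatedPrimes.nonempty Bh' (Bh' ⧸ Q₀.map (algebraMap Bh Bh') • (⊤ : Submodule Bh' Bh'))
  haveI := hQ''.isPrime
  have hass : Q'' ∈ associatedPrimes Bh' Bh' := by
    rw [← LinearEquiv.AssociatedPrimes.eq (TensorProduct.AlgebraTensorModule.rid Bh Bh' Bh'),
      CAlgOdd.AssTensor.associatedPrimes_eq (R := Bh) (S := Bh') Bh' Bh]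
    exact Set.mem_biUnion hQ₀ hQ''
  have hQu : Q''.under Bh = Q.asIdeal := by
    obtain ⟨θ⟩ := CAlgOdd.AssTensor.exists_equiv (R := Bh) (S := Bh') Bh' Q₀
    have h1 : Q'' ∈ associatedPrimes Bh' (Bh' ⊗[Bh] (Bh ⧸ Q₀)) := by
      rw [← LinearEquiv.AssociatedPrimes.eq θ]; exact hQ''
    have h2 := CAlgOdd.AssTensor.mem_ass_of_mem (R := Bh) (S := Bh') Bh' (Bh ⧸ Q₀) h1
    rwa [associatedPrimes.eq_singleton_of_isPrimary (Ideal.IsPrime.isPrimary ‹_›), Set.mem_singleton_iff,
      Ideal.IsPrime.radical ‹_›] at h2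
  have hQmap : Q.asIdeal.map (algebraMap Bh Bh') ≤ Q'' := Ideal.map_le_iff_le_comap.2 hQu.ge
  let M := maximalIdeal Bh
  let M' := maximalIdeal Bh'
  have hB' : (maximalIdeal B').map (algebraMap B' Bh') = M' :=
    (AdicCompletion.maximalIdeal_eq_map_of_fg (IsNoetherian.noetherian (maximalIdeal B'))).symm
  have hMB : (maximalIdeal B).map (algebraMap B Bh) = M :=
    (AdicCompletion.maximalIdeal_eq_map_of_fg (IsNoetherian.noetherian (maximalIdeal B))).symm
  haveI : IsLocalHom (algebraMap Bh Bh') := inferInstance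
  have hover : M'.under Bh = M :=
    ((IsLocalRing.local_hom_TFAE (algebraMap Bh Bh')).out 0 4).1 (by infer_instance)
  have hM' : M' ∈ (M.map (algebraMap Bh Bh')).minimalPrimes := by
    refine ⟨⟨inferInstance, Ideal.map_le_iff_le_comap.2 hover.ge⟩, fun K hK _ => ?_⟩
    haveI := hK.1
    show M' ≤ K
    rw [← hB', Ideal.map_le_iff_le_comap]
    refine hfib _ inferInstance ?_
    rw [Ideal.map_le_iff_le_comap, Ideal.comap_comap, ← IsScalarTower.algebraMap_eq,
      IsScalarTower.algebraMap_eq B Bh Bh', ← Ideal.comap_comap, ← Ideal.map_le_iff_le_comap, hMB,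
      ← Ideal.map_le_iff_le_comap]
    exact hK.2
  have hid : ∀ (R : Type u) [CommRing R] [IsLocalRing R], IsFracs (RingHom.id R) := fun R _ _ x =>
    ⟨x, 1, isUnit_one, by simp⟩
  have e1 := (hid Bh).ringKrullDim_quotient Q
  have e2 := (hid Bh').ringKrullDim_quotient ⟨Q'', inferInstance⟩
  have h1 := h Q'' hass
  rw [show ringKrullDim (EGA4.Cpl B') = ringKrullDim B' from S0547.result B', hdim] at h1
  show ringKrullDim B ≤ ringKrullDim (Bh ⧸ Q.asIdeal)
  rw [← h1, e1]
  refine e2.le.trans (WithBot.coe_le_coe.2 ?_)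
  exact height_map_mk_le Q.asIdeal M (le_maximalIdeal Q.2.ne_top) Q'' M' hM' hover hQmap
    (le_maximalIdeal hQ''.isPrime.ne_top)

/-- Strict equidimensionality of the completion of a domain quotient of a formally strictly catenary ring. -/
theorem isStrictlyEquidim_cpl_of_surjective {S X : Type u} [CommRing S] [IsLocalRing S] [IsNoetherianRing S]
    [CommRing X] [IsDomain X] [IsLocalRing X] [IsNoetherianRing X] (f : S →+* X) (hf : Function.Surjective f)
    (h : EGA4.IsFormallyStrictlyCatenary S) : EGA4.IsStrictlyEquidim (EGA4.Cpl X) := by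
  letI : Algebra S X := f.toAlgebra
  haveI := FlatLoc6.isNoetherianRing_cpl S
  haveI := FlatLoc6.isNoetherianRing_cpl X
  let J := RingHom.ker (Algebra.ofId S X)
  haveI : J.IsPrime := RingHom.ker_isPrime _
  haveI : IsLocalRing (S ⧸ J) := .of_surjective' _ Ideal.Quotient.mk_surjective
  haveI := FlatLoc6.isNoetherianRing_cpl (S ⧸ J)
  obtain ⟨e⟩ := FormalFib6.exists_cplQuotEquiv S X hf
  obtain ⟨e'⟩ := FormalFib6.exists_cplQuotEquiv S (S ⧸ J) Ideal.Quotient.mk_surjective
  let eJ : (S ⧸ J) ≃ₐ[S] X := Ideal.quotientKerAlgEquivOfSurjective hf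
  exact FormCat.isStrictlyEquidim_of_ringEquiv
    ((e'.symm.toRingEquiv.trans
      (Algebra.TensorProduct.congr eJ (AlgEquiv.refl (R := S) (A₁ := EGA4.Cpl S))).toRingEquiv).trans e.toRingEquiv)
    (h J)

theorem isFormallyCatenary_of_strictly (A : Type u) [CommRing A] [IsNoetherianRing A] [IsLocalRing A]
    (h : EGA4.IsFormallyStrictlyCatenary A) : EGA4.IsFormallyCatenary A := by
  intro p _
  haveI : IsLocalRing (A ⧸ p) := .of_surjective' _ Ideal.Quotient.mk_surjective
  haveI := FlatLoc6.isNoetherianRing_cpl (A ⧸ p)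
  exact fun P hP => h p P (SecFin.mem_ass_of_minimal hP)

theorem minimal_of_ass_cpl (A : Type u) [CommRing A] [IsNoetherianRing A] [IsLocalRing A]
    (h : EGA4.IsFormallyStrictlyCatenary A) (p : Ideal A) [p.IsPrime] :
    ∀ r ∈ associatedPrimes (EGA4.Cpl A)
      (EGA4.Cpl A ⧸ p.map (algebraMap A (EGA4.Cpl A)) • (⊤ : Submodule (EGA4.Cpl A) (EGA4.Cpl A))),
      r ∈ (p.map (algebraMap A (EGA4.Cpl A))).minimalPrimes := by
  intro r hr
  haveI := hr.isPrime
  haveI := FlatLoc6.isNoetherianRing_cpl A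
  haveI := FlatLoc6.isLocalRing_cpl A
  haveI : IsLocalRing (A ⧸ p) := .of_surjective' _ Ideal.Quotient.mk_surjective
  have hdim : ∀ (s : Ideal (EGA4.Cpl A)) [s.IsPrime], p.map (algebraMap A (EGA4.Cpl A)) ≤ s →
      ringKrullDim (EGA4.Cpl A ⧸ s) ≤ ringKrullDim (A ⧸ p) := fun s _ hs =>
    (ringKrullDim_le_of_surjective (Ideal.Quotient.factor hs) (Ideal.Quotient.factor_surjective hs)).trans
      (FormCat.ringKrullDim_cpl_quotient A p).le
  have hle : p.map (algebraMap A (EGA4.Cpl A)) ≤ r := by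
    intro x hx
    obtain ⟨-, z, hz⟩ := isAssociatedPrime_iff.1 hr
    rw [hz, Submodule.mem_colon_singleton, Submodule.mem_bot]
    obtain ⟨z, rfl⟩ := Submodule.Quotient.mk_surjective _ z
    rw [← Submodule.Quotient.mk_smul, Submodule.Quotient.mk_eq_zero]
    exact Submodule.smul_mem_smul hx Submodule.mem_top
  refine ⟨⟨inferInstance, hle⟩, fun s hs hsr => ?_⟩
  haveI := hs.1
  by_contra hne
  have h1 := dim_quotient_succ_le (lt_of_le_of_ne hsr fun e => hne (e ▸ le_rfl))
  have h2 := hdim s hs.2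
  rw [← dim_of_quotient_strictlyEquidim p (h p) r hr] at h2
  have h3 := h1.trans h2
  rw [FormCat.coe_qd _ r (Ideal.IsPrime.ne_top inferInstance)] at h3
  have : FormCat.qd (EGA4.Cpl A) r + 1 ≤ FormCat.qd (EGA4.Cpl A) r := by exact_mod_cast h3
  omega

section Main

variable (A : Type u) [CommRing A] [IsNoetherianRing A] [IsLocalRing A] {m : ℕ}

attribute [local instance] MvPolynomial.algebraMvPolynomial

/-- The completion of a local domain essentially of finite type over a formally strictly catenary ring. -/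
theorem isStrictlyEquidim_cpl_of_isFracs (hA : EGA4.IsFormallyStrictlyCatenary A) (B : Type u) [CommRing B]
    [IsDomain B] [IsNoetherianRing B] [IsLocalRing B] [Algebra (MvPolynomial (Fin m) A) B]
    (hφ : IsFracs (algebraMap (MvPolynomial (Fin m) A) B)) :
    EGA4.IsStrictlyEquidim (EGA4.Cpl B) := by
  let T := MvPolynomial (Fin m) A
  let T' := MvPolynomial (Fin m) (EGA4.Cpl A)
  have hA' := isFormallyCatenary_of_strictly A hA
  haveI := FlatLoc6.isLocalRing_cpl A
  haveI := FlatLoc6.isNoetherianRing_cpl A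
  haveI := FlatLoc6.faithfullyFlat_cpl A
  haveI := faithfullyFlat_poly A (m := m)
  haveI : IsAdicComplete (maximalIdeal (EGA4.Cpl A)) (EGA4.Cpl A) := FormCat.isAdicComplete_cpl (A := A)
  haveI : IsScalarTower A T T' := IsScalarTower.of_algebraMap_eq fun a => by
    show _ = MvPolynomial.map (algebraMap A (EGA4.Cpl A)) (MvPolynomial.C a)
    rw [MvPolynomial.map_C]
    rfl
  let φ := algebraMap T B
  let P := cp φ
  let Q : PrimeSpectrum T := PrimeSpectrum.comap φ ⟨⊥, Ideal.isPrime_bot⟩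
  have hQ : RingHom.ker φ = Q.asIdeal := rfl
  haveI : (RingHom.ker φ).IsPrime := RingHom.ker_isPrime φ
  have hQP : Q ≤ P := comap_le_cp _
  obtain ⟨-, P', -, -, hP'⟩ := exists_lift A (le_refl P)
  have hPP : P'.asIdeal.under T = P.asIdeal := under_eq_of_mem_minimalPrimes P.asIdeal hP'
  obtain ⟨B', _, _, _, _, _, _, χ, hχ, hcp, hχT, -, hkerχ, ι, hι⟩ := exists_flat_local_ker hφ P' hPP
  have hker : (RingHom.ker φ).map (algebraMap T T') ≤ RingHom.ker χ := Ideal.map_le_iff_le_comap.2 fun t ht => by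
    show χ (algebraMap T T' t) = 0
    rw [hχT, RingHom.mem_ker.1 ht, map_zero]
  have hfib : ∀ K : Ideal B', K.IsPrime → (maximalIdeal B).map (algebraMap B B') ≤ K → maximalIdeal B' ≤ K := by
    intro K hK hle
    have hKP : (PrimeSpectrum.comap χ ⟨K, hK⟩ : PrimeSpectrum T') ≤ P' := hcp ▸ comap_le_cp _
    have hPK : P.asIdeal.map (algebraMap T T') ≤ (PrimeSpectrum.comap χ ⟨K, hK⟩).asIdeal := by
      refine Ideal.map_le_iff_le_comap.2 fun t ht => ?_
      show χ (algebraMap T T' t) ∈ K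
      rw [hχT]
      exact hle (Ideal.mem_map_of_mem _ ht)
    have h1 : P' ≤ PrimeSpectrum.comap χ ⟨K, hK⟩ := hP'.2 ⟨Ideal.IsPrime.comap χ, hPK⟩ hKP
    rw [← hcp] at h1
    exact (hχ.comap_le_iff (closedPoint B') ⟨K, hK⟩).1 h1
  have key : ∀ x ∈ associatedPrimes B' B', ringKrullDim (B' ⧸ x) = ringKrullDim B := by
    intro x hx
    haveI := hx.isPrime
    let X : PrimeSpectrum B' := ⟨x, inferInstance⟩
    let J := PrimeSpectrum.comap χ X
    have hJP : J ≤ P' := hcp ▸ comap_le_cp X
    obtain ⟨-, z, hz⟩ := isAssociatedPrime_iff.1 hx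
    obtain ⟨c, s, hs, hc⟩ := hχ z
    have hJmem : ∀ t : T', t ∈ J.asIdeal ↔ χ (t * c) = 0 := fun t => by
      show χ t ∈ x ↔ _
      rw [hz, Submodule.mem_colon_singleton, Submodule.mem_bot, smul_eq_mul, map_mul, ← hc, ← mul_assoc,
        hs.mul_left_eq_zero]
    let I₀ : Ideal T' := (RingHom.ker φ).map (algebraMap T T')
    have hu : ∃ u : T', u ∉ P'.asIdeal ∧ ∀ t ∈ J.asIdeal, t * (u * c) ∈ I₀ := by
      classical
      obtain ⟨gs, hgs⟩ := IsNoetherian.noetherian J.asIdeal
      have hg : ∀ g ∈ gs, ∃ u : T', u ∉ P'.asIdeal ∧ u * (g * c) ∈ I₀ := fun g hg =>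
        hkerχ _ ((hJmem g).1 (hgs ▸ Submodule.subset_span hg))
      choose! v hv hv' using hg
      refine ⟨∏ g ∈ gs, v g, fun hmem => ?_, fun t ht => ?_⟩
      · obtain ⟨g, hg, hgm⟩ := (Ideal.IsPrime.prod_mem_iff).1 hmem
        exact hv g hg hgm
      · rw [← hgs] at ht
        induction ht using Submodule.span_induction with
        | mem g hg =>
          rw [← Finset.mul_prod_erase gs v hg]
          have := I₀.mul_mem_left (∏ h ∈ gs.erase g, v h) (hv' g hg)
          convert this using 1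
          ring
        | zero => simp
        | add a b _ _ ha hb => rw [add_mul]; exact add_mem ha hb
        | smul a b _ hb => rw [smul_eq_mul, mul_assoc]; exact I₀.mul_mem_left a hb
    obtain ⟨u, hu, huJ⟩ := hu
    have hI0 : I₀ • (⊤ : Submodule T' T') = I₀ := by rw [smul_eq_mul, Ideal.mul_top]
    have hJass : J.asIdeal ∈ associatedPrimes T' (T' ⧸ I₀ • (⊤ : Submodule T' T')) := by
      refine isAssociatedPrime_iff.2 ⟨inferInstance, Submodule.Quotient.mk (u * c), ?_⟩
      ext t
      rw [Submodule.mem_colon_singleton, Submodule.mem_bot, ← Submodule.Quotient.mk_smul,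
        Submodule.Quotient.mk_eq_zero, hI0, smul_eq_mul]
      refine ⟨huJ t, fun h1 => (hJmem t).2 ?_⟩
      have h2 : χ u * χ (t * c) = 0 := by
        rw [← map_mul, mul_left_comm]
        exact hker h1
      have hu' : IsUnit (χ u) := (isUnit_iff_notMem (φ := χ) u).2 (by rw [hcp]; exact hu)
      exact hu'.mul_right_eq_zero.1 h2
    obtain ⟨hJQ, hJu⟩ := minimal_over_map_of_ass (A := A) (C := EGA4.Cpl A) (T := T) (T' := T') (RingHom.ker φ)
      (minimal_of_ass_cpl A hA _) J.asIdeal hJass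
    have hb : ringKrullDim B = ((P.asIdeal.map (Ideal.Quotient.mk Q.asIdeal)).height : WithBot ℕ∞) := by
      rw [← hφ.ringKrullDim_quotient ⟨⊥, Ideal.isPrime_bot⟩]
      exact (ringKrullDim_eq_of_ringEquiv (RingEquiv.quotientBot B)).symm
    show ringKrullDim (B' ⧸ X.asIdeal) = _
    rw [hb, hχ.ringKrullDim_quotient X, hcp]
    refine congrArg _ (le_antisymm (height_map_mk_le Q.asIdeal P.asIdeal hQP J.asIdeal P'.asIdeal hP' hPP
      hJQ.1.2 hJP) ?_)
    have e1 := height_add_dlt_le A hA' hQP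
    have e2 := dlt_add_height (EGA4.Cpl A) J.asIdeal P'.asIdeal hJP
    rw [dlt_eq_of_mem_minimalPrimes A hA' Q.asIdeal J.asIdeal hJQ,
      dlt_eq_of_mem_minimalPrimes A hA' P.asIdeal P'.asIdeal hP'] at e2
    rw [← e2, add_comm] at e1
    exact (ENat.add_le_add_iff_left (ENat.natCast_ne_top _)).1 e1
  have hdim : ringKrullDim B' = ringKrullDim B :=
    (isEquidim_of_forall B' _ fun x hx => key x.asIdeal (SecFin.mem_ass_of_minimal hx)).2
  refine isStrictlyEquidim_cpl_of_flat B B' hfib hdim fun Q' hQ' => ?_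
  haveI := FlatLoc6.isNoetherianRing_cpl B'
  haveI := FlatLoc6.faithfullyFlat_cpl B'
  rw [← LinearEquiv.AssociatedPrimes.eq (TensorProduct.AlgebraTensorModule.rid B' (EGA4.Cpl B') (EGA4.Cpl B')),
    CAlgOdd.AssTensor.associatedPrimes_eq (R := B') (S := EGA4.Cpl B') (EGA4.Cpl B') B', Set.mem_iUnion₂] at hQ'
  obtain ⟨x, hx, hQx⟩ := hQ'
  haveI := hx.isPrime
  haveI : IsLocalRing (B' ⧸ x) := .of_surjective' _ Ideal.Quotient.mk_surjective
  obtain ⟨Λ, _, n, f, hΛ, hf⟩ := CohenLib.exists_surjective (EGA4.Cpl A) (IsNoetherian.noetherian _)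
  obtain ⟨_, hreg, -⟩ := CohenLib.isRegular_complete_mvPowerSeries hΛ n
  haveI := RegLoc6.isRegularRing_of_isRegularLocalRing (MvPowerSeries (Fin n) Λ)
  let π : MvPolynomial (Fin m) (MvPowerSeries (Fin n) Λ) →+* T' := MvPolynomial.map f
  have hπ : Function.Surjective π := MvPolynomial.map_surjective _ hf
  let P₀ := P'.asIdeal.comap π
  let lh : Localization.AtPrime P₀ →+* Localization.AtPrime P'.asIdeal :=
    Localization.localRingHom P₀ P'.asIdeal π rfl
  have hlh : Function.Surjective lh := localRingHom_surjective π hπ P₀ P'.asIdeal rfl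
  haveI := FlatLoc6.isCM_of_isRegularRing (MvPolynomial (Fin m) (MvPowerSeries (Fin n) Λ))
  haveI := LocCoh.IsCohenMacaulayRing.isCohenMacaulayLocalRing_localization
    (R := MvPolynomial (Fin m) (MvPowerSeries (Fin n) Λ)) P₀
  have hsupp : Module.support (Localization.AtPrime P₀) (Localization.AtPrime P₀) = Set.univ :=
    Set.eq_univ_of_forall fun z => Module.mem_support_iff_of_finite.2 fun r hr => by
      have h1 := Module.mem_annihilator.1 hr 1
      rw [smul_eq_mul, mul_one] at h1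
      exact h1 ▸ zero_mem _
  have hS : EGA4.IsFormallyStrictlyCatenary (Localization.AtPrime P₀) :=
    S2638.result _ (Localization.AtPrime P₀) LocCoh.IsCohenMacaulayLocalRing.supportDim_eq_depth hsupp
  rw [dim_of_quotient_strictlyEquidim x (isStrictlyEquidim_cpl_of_surjective
    ((Ideal.Quotient.mk x).comp (ι.comp lh)) (Ideal.Quotient.mk_surjective.comp (hι.comp hlh)) hS) Q' hQx,
    key x hx, show ringKrullDim (EGA4.Cpl B') = ringKrullDim B' from S0547.result B', hdim]

end Main

end Groth.Agent.Ega41H93
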